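import Cfsg.Agent.Lib.SuzukiGroup.BinaryActions
import Cfsg.Agent.Lib.UThreeSylow.Main
import Cfsg.Agent.Lib.UThreeSylow.Abelian
import Cfsg.Agent.Lib.PGUThree.Main
import Cfsg.Agent.Lib.BenderQ.Classify

/-!
The facts on the three families of rank one groups in characteristic two used for odd
transpositions: the involutions at a point, and in the Suzuki groups the centralisers, the number of
pairwise non-commuting involutions, and generation.
-/

set_option autoImplicit false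

namespace CfsgLib.RootSz

open Cfsg.Lie

universe u v

/-- The involutions commuting with `z`. -/
def clique {L : Type u} [Group L] (z : L) : Set L := {a | orderOf a = 2 ∧ Commute a z}

/-- Involutions in a common Sylow 2-subgroup commute, those commuting with one lie in one Sylow
2-subgroup, and all are conjugate. -/
structure RankOne (L : Type u) [Group L] : Prop where
  comm : ∀ S : Sylow 2 L, ∀ a ∈ S, ∀ b ∈ S, orderOf a = 2 → orderOf b = 2 → Commute a b
  at_point : ∀ z : L, orderOf z = 2 → ∃ S : Sylow 2 L, z ∈ S ∧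
    ∀ a : L, orderOf a = 2 → Commute a z → a ∈ S
  conj : ∀ a b : L, orderOf a = 2 → orderOf b = 2 → IsConj a b

/-- The facts on the Suzuki groups. -/
structure SzType (L : Type u) [Group L] (q : ℕ) : Prop where
  four : 4 ≤ q
  card : Nat.card L = q ^ 2 * (q - 1) * (q ^ 2 + 1)
  simple : IsSimpleGroup L
  clique_card : ∀ z : L, orderOf z = 2 → (clique z).ncard + 1 = q
  cent_card : ∀ z : L, orderOf z = 2 → Nat.card (Subgroup.centralizer ({z} : Set L)) = q ^ 2
  cent_eq : ∀ z a : L, orderOf z = 2 → a ∈ clique z → ∀ g : L, Commute g z → Commute g a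
  cent_nonab : ∀ z : L, orderOf z = 2 → ∃ a b : L, Commute a z ∧ Commute b z ∧ ¬ Commute a b
  cent_sq : ∀ z a : L, orderOf z = 2 → Commute a z → a * a = 1 ∨ orderOf (a * a) = 2
  gen : ∀ z t : L, orderOf z = 2 → orderOf t = 2 → ¬ Commute z t →
    ∀ H : Subgroup L, clique z ⊆ (H : Set L) → t ∈ H → H = ⊤

theorem map_clique {L : Type u} {M : Type v} [Group L] [Group M] (e : L ≃* M) (z : L) :
    clique (e z) = e '' clique z := by
  ext a
  constructor
  · rintro ⟨h1, h2⟩
    refine ⟨e.symm a, ⟨by rwa [e.symm.orderOf_eq], ?_⟩, by simp⟩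
    have := h2.map e.symm.toMonoidHom
    simpa using this
  · rintro ⟨b, ⟨h1, h2⟩, rfl⟩
    exact ⟨by rwa [e.orderOf_eq], h2.map e.toMonoidHom⟩

theorem commute_map_iff {L : Type u} {M : Type v} [Group L] [Group M] (e : L ≃* M) {a b : L} :
    Commute (e a) (e b) ↔ Commute a b :=
  ⟨fun h => by simpa using h.map e.symm.toMonoidHom, fun h => h.map e.toMonoidHom⟩

theorem SzType.of_equiv {L : Type u} {M : Type v} [Group L] [Group M] (e : L ≃* M) {q : ℕ}
    (h : SzType M q) : SzType L q := by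
  have hs := h.simple
  refine ⟨h.four, (Nat.card_congr e.toEquiv).trans h.card, e.isSimpleGroup, fun z hz => ?_,
    fun z hz => ?_, fun z a hz ha g hg => ?_, fun z hz => ?_, fun z a hz ha => ?_,
    fun z t hz ht hzt H hH htH => ?_⟩
  · have := h.clique_card (e z) (by rwa [e.orderOf_eq])
    rwa [map_clique, Set.ncard_image_of_injective _ e.injective] at this
  · rw [← h.cent_card (e z) (by rwa [e.orderOf_eq])]
    refine Nat.card_congr (e.toEquiv.subtypeEquiv fun g => ?_)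
    show g ∈ Subgroup.centralizer {z} ↔ e g ∈ Subgroup.centralizer {e z}
    rw [Subgroup.mem_centralizer_singleton_iff, Subgroup.mem_centralizer_singleton_iff]
    exact (commute_map_iff e).symm
  · have := h.cent_eq (e z) (e a) (by rwa [e.orderOf_eq]) (map_clique e z ▸ ⟨a, ha, rfl⟩) (e g)
      (hg.map e.toMonoidHom)
    exact (commute_map_iff e).1 this
  · obtain ⟨a, b, ha, hb, hab⟩ := h.cent_nonab (e z) (by rwa [e.orderOf_eq])
    exact ⟨e.symm a, e.symm b, by simpa using ha.map e.symm.toMonoidHom,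
      by simpa using hb.map e.symm.toMonoidHom,
      fun hc => hab (by simpa using hc.map e.toMonoidHom)⟩
  · have := h.cent_sq (e z) (e a) (by rwa [e.orderOf_eq]) (ha.map e.toMonoidHom)
    rwa [← map_mul, ← map_one e, e.injective.eq_iff, e.orderOf_eq] at this
  · have := h.gen (e z) (e t) (by rwa [e.orderOf_eq]) (by rwa [e.orderOf_eq])
      (fun hc => hzt ((commute_map_iff e).1 hc)) (H.map e.toMonoidHom)
      (by rw [map_clique]; rintro _ ⟨b, hb, rfl⟩; exact ⟨b, hH hb, rfl⟩) ⟨t, htH, rfl⟩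
    rw [eq_top_iff]
    intro g _
    obtain ⟨g', hg', he⟩ := (this ▸ Subgroup.mem_top (e g) : e g ∈ H.map e.toMonoidHom)
    exact e.injective he ▸ hg'

/-- A 2-element normalising a Sylow 2-subgroup lies in it. -/
theorem mem_of_normalizes {L : Type u} [Group L] (S : Sylow 2 L) {a : L}
    (hn : a ∈ Subgroup.normalizer ((S : Subgroup L) : Set L))
    (ha : ∃ k : ℕ, a ^ 2 ^ k = 1) : a ∈ S := by
  have : Fact (Nat.Prime 2) := ⟨Nat.prime_two⟩
  obtain ⟨k, hk⟩ := ha
  have hz : IsPGroup 2 (Subgroup.zpowers a) := by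
    rintro ⟨g, hg⟩
    obtain ⟨i, rfl⟩ := Subgroup.mem_zpowers_iff.1 hg
    refine ⟨k, Subtype.ext ?_⟩
    rw [SubmonoidClass.coe_pow, ← zpow_natCast, ← zpow_mul, mul_comm, zpow_mul, zpow_natCast,
      Subgroup.coe_mk, hk, one_zpow, Subgroup.coe_one]
  have hle : Subgroup.zpowers a ≤ Subgroup.normalizer ((S : Subgroup L) : Set L) :=
    Subgroup.zpowers_le.2 hn
  have hsup : IsPGroup 2 (Subgroup.zpowers a ⊔ (S : Subgroup L) : Subgroup L) :=
    hz.to_sup_of_normal_right' S.2 hle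
  exact (S.3 hsup le_sup_right).le (Subgroup.mem_sup_left (Subgroup.mem_zpowers a))

section suzuki

variable {F : Type} [Field F] [Fintype F] {m : ℕ}

theorem szType (hF : Fintype.card F = 2 ^ (2 * m + 1)) (hm : 1 ≤ m) :
    SzType ↥(Sz F (2 ^ (m + 1))) (Fintype.card F) := by
  classical
  obtain ⟨hc, ⟨P⟩⟩ := SuzukiGroup.exists_params hF
  have : Fact (Nat.Prime 2) := ⟨Nat.prime_two⟩
  set q := Fintype.card F with hq
  have h4 : 4 ≤ q := by
    rw [hF]
    calc 4 ≤ 2 ^ 3 := by norm_num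
      _ ≤ 2 ^ (2 * m + 1) := Nat.pow_le_pow_right (by norm_num) (by omega)
  have hSU : ((SuzukiGroup.sylowTwo P : Sylow 2 _) : Subgroup _) = SuzukiGroup.unip P :=
    SuzukiGroup.coe_sylowTwo P
  -- every involution is conjugate to a central element of `U`
  have hnorm : ∀ z : ↥(Sz F (2 ^ (m + 1))), orderOf z = 2 →
      ∃ k b, b ≠ 0 ∧ k * z * k⁻¹ = SuzukiGroup.uEl P 0 b := by
    intro z hz
    have hzp : IsPGroup 2 (Subgroup.zpowers z) :=
      IsPGroup.of_card (n := 1) (by rw [Nat.card_zpowers, hz, pow_one])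
    obtain ⟨S, hS⟩ := hzp.exists_le_sylow
    obtain ⟨k, hk⟩ := MulAction.exists_smul_eq ↥(Sz F (2 ^ (m + 1))) S (SuzukiGroup.sylowTwo P)
    have hmem : k * z * k⁻¹ ∈ SuzukiGroup.unip P := by
      rw [← hSU, ← hk]
      exact ⟨z, hS (Subgroup.mem_zpowers z), rfl⟩
    have ho : orderOf (k * z * k⁻¹) = 2 := by
      rw [CfsgLib.Involutions.orderOf_conj_eq, hz]
    rcases SuzukiGroup.unip_cases P hmem (fun e => by rw [e, orderOf_one] at ho; omega) with
      ⟨-, b, hb, he⟩ | ⟨h4', -⟩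
    · exact ⟨k, b, hb, he⟩
    · omega
  have hcl0 : ∀ b : F, b ≠ 0 → clique (SuzukiGroup.uEl P 0 b) =
      (fun c => SuzukiGroup.uEl P 0 c) '' {c | c ≠ 0} := by
    intro b hb
    ext a
    constructor
    · rintro ⟨h2, hab⟩
      have ha : a ∈ SuzukiGroup.unip P := SuzukiGroup.centralizer_le_unip P ⟨0, b, rfl⟩
        (fun e => hb ((SuzukiGroup.uEl_eq_one P).1 e).2)
        (Subgroup.mem_centralizer_singleton_iff.2 hab.eq)
      rcases SuzukiGroup.unip_cases P ha (fun e => by rw [e, orderOf_one] at h2; omega) with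
        ⟨-, c, hc', he⟩ | ⟨h4', -⟩
      · exact ⟨c, hc', he.symm⟩
      · omega
    · rintro ⟨c, hc', rfl⟩
      exact ⟨SuzukiGroup.orderOf_uEl_zero P hc', (SuzukiGroup.uEl_comm_iff P 0 c 0 b).2 (by simp)⟩
  have hcent0 : ∀ b : F, b ≠ 0 →
      Subgroup.centralizer ({SuzukiGroup.uEl P 0 b} : Set ↥(Sz F (2 ^ (m + 1)))) =
        SuzukiGroup.unip P := by
    intro b hb
    refine le_antisymm (SuzukiGroup.centralizer_le_unip P ⟨0, b, rfl⟩
      fun e => hb ((SuzukiGroup.uEl_eq_one P).1 e).2) ?_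
    rintro _ ⟨c, c', rfl⟩
    exact Subgroup.mem_centralizer_singleton_iff.2 ((SuzukiGroup.uEl_comm_iff P c c' 0 b).2 (by simp))
  have hconj : ∀ (k z g : ↥(Sz F (2 ^ (m + 1)))),
      Commute g z ↔ Commute (k * g * k⁻¹) (k * z * k⁻¹) := fun k z g =>
    ⟨fun h => h.map (MulAut.conj k).toMonoidHom,
      fun h => (commute_map_iff (MulAut.conj k)).1 h⟩
  refine ⟨h4, (SuzukiGroup.card_sz P).trans (by rw [hq]),
    SuzukiGroup.isSimple P (by omega), fun z hz => ?_, fun z hz => ?_, fun z a hz ha g hg => ?_,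
    fun z hz => ?_, fun z a hz ha => ?_, fun z t hz ht hzt H hH htH => ?_⟩
  · obtain ⟨k, b, hb, he⟩ := hnorm z hz
    have e1 := map_clique (MulAut.conj k) z
    rw [MulAut.conj_apply, he, hcl0 b hb] at e1
    rw [← Set.ncard_image_of_injective (clique z) (MulAut.conj k).injective, ← e1,
      Set.ncard_image_of_injective _ fun c c' h => (SuzukiGroup.uEl_inj P h).2]
    have : ({c : F | c ≠ 0}).ncard = q - 1 := by
      rw [show {c : F | c ≠ 0} = {(0 : F)}ᶜ from rfl, Set.ncard_compl, Set.ncard_singleton,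
        Nat.card_eq_fintype_card]
    omega
  · obtain ⟨k, b, hb, he⟩ := hnorm z hz
    rw [hq, ← SuzukiGroup.card_unip P, ← hcent0 b hb, ← he]
    refine Nat.card_congr ((MulAut.conj k).toEquiv.subtypeEquiv fun g => ?_)
    show g ∈ Subgroup.centralizer {z} ↔ k * g * k⁻¹ ∈ Subgroup.centralizer {k * z * k⁻¹}
    rw [Subgroup.mem_centralizer_singleton_iff, Subgroup.mem_centralizer_singleton_iff]
    exact hconj k z g
  · obtain ⟨k, b, hb, he⟩ := hnorm z hz
    have e1 := map_clique (MulAut.conj k) z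
    rw [MulAut.conj_apply, he, hcl0 b hb] at e1
    obtain ⟨c, hc', hce⟩ : MulAut.conj k a ∈ (fun c => SuzukiGroup.uEl P 0 c) '' {c | c ≠ 0} :=
      e1 ▸ ⟨a, ha, rfl⟩
    rw [hconj k, ← MulAut.conj_apply k a, ← hce]
    have hg' : k * g * k⁻¹ ∈ SuzukiGroup.unip P := by
      rw [← hcent0 b hb, ← he, Subgroup.mem_centralizer_singleton_iff]
      exact (hconj k z g).1 hg
    obtain ⟨r, r', hr⟩ := hg'
    rw [hr]
    exact (SuzukiGroup.uEl_comm_iff P r r' 0 c).2 (by simp)
  · obtain ⟨k, b, hb, he⟩ := hnorm z hz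
    obtain ⟨a0, ha0, ha1⟩ := SuzukiGroup.exists_ne_zero_one (F := F) (by omega)
    have hmem : ∀ r, Commute (k⁻¹ * SuzukiGroup.uEl P r 0 * k) z := fun r => by
      rw [hconj k, show k * (k⁻¹ * SuzukiGroup.uEl P r 0 * k) * k⁻¹ = SuzukiGroup.uEl P r 0 by group, he]
      exact (SuzukiGroup.uEl_comm_iff P r 0 0 b).2 (by simp)
    refine ⟨_, _, hmem a0, hmem 1, fun hcm => ?_⟩
    rw [hconj k, show k * (k⁻¹ * SuzukiGroup.uEl P a0 0 * k) * k⁻¹ = SuzukiGroup.uEl P a0 0 by group,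
      show k * (k⁻¹ * SuzukiGroup.uEl P 1 0 * k) * k⁻¹ = SuzukiGroup.uEl P 1 0 by group] at hcm
    have := (SuzukiGroup.uEl_comm_iff P a0 0 1 0).1 hcm
    rw [map_one, mul_one, one_mul] at this
    rcases SuzukiGroup.theta_fix P this.symm with h | h
    exacts [ha0 h, ha1 h]
  · obtain ⟨k, b, hb, he⟩ := hnorm z hz
    have ha' : k * a * k⁻¹ ∈ SuzukiGroup.unip P := by
      rw [← hcent0 b hb, ← he, Subgroup.mem_centralizer_singleton_iff]
      exact (hconj k z a).1 ha
    obtain ⟨r, r', hr⟩ := ha'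
    have e2 : k * (a * a) * k⁻¹ = SuzukiGroup.uEl P 0 (r * P.θ r) := by
      rw [← SuzukiGroup.uEl_sq P r r', ← hr, pow_two]; group
    by_cases h0 : r * P.θ r = 0
    · left
      rw [h0, SuzukiGroup.uEl_zero, mul_inv_eq_one, mul_eq_left] at e2
      exact e2
    · right
      rw [← CfsgLib.Involutions.orderOf_conj_eq k, e2, SuzukiGroup.orderOf_uEl_zero P h0]
  · obtain ⟨k, b, hb, he⟩ := hnorm z hz
    by_contra hne
    set H' := H.map (MulAut.conj k).toMonoidHom with hH'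
    have hZ : ∀ c, SuzukiGroup.uEl P 0 c ∈ H' := by
      intro c
      by_cases hc0 : c = 0
      · rw [hc0, SuzukiGroup.uEl_zero]; exact one_mem _
      have e1 := map_clique (MulAut.conj k) z
      rw [MulAut.conj_apply, he, hcl0 b hb] at e1
      obtain ⟨a, ha, hae⟩ : SuzukiGroup.uEl P 0 c ∈ MulAut.conj k '' clique z := e1 ▸ ⟨c, hc0, rfl⟩
      exact ⟨a, hH ha, hae⟩
    have hne' : H' ≠ ⊤ := fun e => hne <| by
      rw [eq_top_iff]
      intro g _
      obtain ⟨g', hg', hge⟩ := (e ▸ Subgroup.mem_top (MulAut.conj k g) : MulAut.conj k g ∈ H')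
      exact (MulAut.conj k).injective hge ▸ hg'
    have hB := SuzukiGroup.le_borel_of_center P hF hm hZ hne'
    have ht' : k * t * k⁻¹ ∈ SuzukiGroup.unip P := by
      rw [← hSU]
      refine mem_of_normalizes _ ?_ ⟨1, ?_⟩
      · rw [hSU]
        exact SuzukiGroup.borel_le_normalizer P (hB ⟨t, htH, rfl⟩)
      · rw [pow_one, conj_pow, pow_two, CfsgLib.Involutions.mul_self_eq_one ht, mul_one,
          mul_inv_cancel]
    obtain ⟨r, r', hr⟩ := ht'
    refine hzt ((hconj k t z).2 ?_)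
    rw [he, hr]
    exact (SuzukiGroup.uEl_comm_iff P 0 b r r').2 (by simp)

theorem szType_of_iso {L : Type u} [Group L] (h : IsoSuzuki L) : ∃ q, SzType L q := by
  obtain ⟨F, i1, i2, m, hm, hF, ⟨e⟩⟩ := h
  exact ⟨_, (szType hF hm).of_equiv e⟩

end suzuki

section psl

variable {L : Type u} [Group L] {F : Type} [Field F] [Fintype F]
  (e : L ≃* Matrix.ProjectiveSpecialLinearGroup (Fin 2) F) {n : ℕ} (hF : Fintype.card F = 2 ^ n)
  (hn : n ≠ 0)
include e hF hn

theorem psl_sq {a : L} {k : ℕ} (ha : a ^ 2 ^ k = 1) : a * a = 1 := by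
  have : Fact (Nat.Prime 2) := ⟨Nat.prime_two⟩
  have : CharP F 2 := charP_of_card_eq_prime_pow hF
  have h := UThreeSylow.psl_sq_eq_one (F := F) (CharTwo.two_eq_zero) (x := e a) (k := k)
    (by rw [← map_pow, ha, map_one])
  rwa [← map_pow, map_eq_one_iff e e.injective, pow_two] at h

theorem psl_comm (S : Sylow 2 L) {a b : L} (ha : a ∈ S) (hb : b ∈ S) : Commute a b := by
  have hsq : ∀ {c : L}, c ∈ S → c * c = 1 := fun {c} hc => by
    obtain ⟨k, hk⟩ := S.2 ⟨c, hc⟩
    exact psl_sq e hF hn (k := k) (congrArg Subtype.val hk)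
  have hab := hsq (mul_mem ha hb)
  calc a * b = (a * b)⁻¹ := (inv_eq_of_mul_eq_one_right hab).symm
    _ = b * a := by
      rw [mul_inv_rev, inv_eq_of_mul_eq_one_right (hsq ha), inv_eq_of_mul_eq_one_right (hsq hb)]

theorem psl_sylow_card [Finite L] (S : Sylow 2 L) : Nat.card S = 2 ^ n := by
  have : Fact (Nat.Prime 2) := ⟨Nat.prime_two⟩
  obtain ⟨a, ha⟩ := IsPGroup.iff_card.1 S.2
  have h1 := Subgroup.card_mul_index (S : Subgroup L)
  rw [ha, Nat.card_congr e.toEquiv, PGUThree.card_psl_two_even hn hF] at h1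
  have hodd : Odd (S : Subgroup L).index := Nat.odd_iff.2 (Nat.two_dvd_ne_zero.1 S.not_dvd_index)
  have hodd2 : Odd (2 ^ (2 * n) - 1) :=
    Nat.Even.sub_odd Nat.one_le_two_pow (Nat.even_pow.2 ⟨even_two, by omega⟩) odd_one
  rw [show Nat.card S = 2 ^ a from ha, (PGUThree.two_part_unique hodd hodd2 h1).1]

end psl

section psu

variable {L : Type u} [Group L] {F : Type} [Field F] [Fintype F] {n : ℕ}
  (e : L ≃* Cfsg.PSU 3 F (2 ^ n)) (hF : Fintype.card F = (2 ^ n) ^ 2) (hn : 1 ≤ n)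
include e hF hn

theorem psu_ut [Finite L] (S : Sylow 2 L) : UThreeSylow.UT ↥(S : Subgroup L) (2 ^ n) := by
  have hker : e.toMonoidHom.ker ≤ (⊥ : Subgroup L) := by
    rw [(MonoidHom.ker_eq_bot_iff _).2 e.injective]
  let P : Sylow 2 (Cfsg.PSU 3 F (2 ^ n)) := S.mapSurjective (f := e.toMonoidHom) e.surjective
  exact UThreeSylow.ut_of_equiv
    ((Subgroup.equivMapOfInjective (S : Subgroup L) e.toMonoidHom e.injective)).symm
    (UThreeSylow.ut_psu hn rfl hF P)

theorem psu_dvd : Nat.card L ∣ (2 ^ n) ^ 3 * (((2 ^ n) ^ 3 + 1) * ((2 ^ n) ^ 2 - 1)) := by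
  rw [Nat.card_congr e.toEquiv, ← PGUThree.card_SU_three (F := F) hF]
  exact Dvd.intro_left _ (ClassicalGroups.card_SU_eq_center_mul_PSU (F := F) (q := 2 ^ n) 3).symm

end psu

/-- The involutions of a group of the three types inside one Sylow 2-subgroup commute. -/
theorem comm_of_type {L : Type u} [Group L] [Finite L] (h : BenderQ.IsBenderType L) (S : Sylow 2 L)
    {a b : L} (ha : a ∈ S) (hb : b ∈ S) (ha2 : orderOf a = 2) (hb2 : orderOf b = 2) :
    Commute a b := by
  rcases h with ⟨F, i1, i2, ⟨n, hn, hF⟩, ⟨e⟩⟩ | ⟨F, i1, i2, m, hm, hF, ⟨e⟩⟩ | ⟨F, i1, i2, n, hn, hF, ⟨e⟩⟩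
  · exact psl_comm e hF (by omega) S ha hb
  · obtain ⟨hc, ⟨P⟩⟩ := SuzukiGroup.exists_params hF
    have : Fact (Nat.Prime 2) := ⟨Nat.prime_two⟩
    let Q : Sylow 2 ↥(Sz F (2 ^ (m + 1))) := S.mapSurjective (f := e.toMonoidHom) e.surjective
    obtain ⟨k, hk⟩ := MulAction.exists_smul_eq ↥(Sz F (2 ^ (m + 1))) Q (SuzukiGroup.sylowTwo P)
    have hmem : ∀ {c : L}, c ∈ S → orderOf c = 2 →
        ∃ r, k * e c * k⁻¹ = SuzukiGroup.uEl P 0 r := by
      intro c hc' hc2
      have h1 : k * e c * k⁻¹ ∈ SuzukiGroup.unip P := by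
        rw [← SuzukiGroup.coe_sylowTwo P, ← hk]
        exact ⟨e c, ⟨c, hc', rfl⟩, rfl⟩
      have ho : orderOf (k * e c * k⁻¹) = 2 := by
        rw [CfsgLib.Involutions.orderOf_conj_eq, e.orderOf_eq, hc2]
      rcases SuzukiGroup.unip_cases P h1 (fun e' => by rw [e', orderOf_one] at ho; omega) with
        ⟨-, r, -, hr⟩ | ⟨h4, -⟩
      · exact ⟨r, hr⟩
      · omega
    obtain ⟨r, hr⟩ := hmem ha ha2
    obtain ⟨r', hr'⟩ := hmem hb hb2
    refine (commute_map_iff e).1 ((commute_map_iff (MulAut.conj k)).1 ?_)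
    rw [MulAut.conj_apply, MulAut.conj_apply, hr, hr']
    exact (SuzukiGroup.uEl_comm_iff P 0 r 0 r').2 (by simp)
  · have hut := psu_ut e hF (by omega) S
    have hcen : (⟨a, ha⟩ : ↥(S : Subgroup L)) ∈ Subgroup.center ↥(S : Subgroup L) :=
      hut.sq_one ⟨a, ha⟩ (Subtype.ext (CfsgLib.Involutions.mul_self_eq_one ha2))
    exact (congrArg Subtype.val (Subgroup.mem_center_iff.1 hcen ⟨b, hb⟩) : b * a = a * b).symm

/-- A simple group with a strongly embedded subgroup. -/
theorem rankOne_of_embedded {L : Type u} [Group L] [Finite L] [IsSimpleGroup L]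
    (hna : ∃ a b : L, a * b ≠ b * a) {H : Subgroup L} (hH : Cfsg.IsStronglyEmbedded H)
    (hB : BenderQ.BenderKernel.{u}) (hT : BenderQ.IsBenderType L) : RankOne L := by
  have hfix := BenderTrans.oneFix_of_stronglyEmbedded hH
  obtain ⟨S0, hS0⟩ := BenderQ.exists_sylow_normalizer hB hna hH
  refine ⟨fun S a ha b hb => comm_of_type hT S ha hb, fun z hz => ?_,
    fun a b ha hb => hfix.isConj_involutions ha hb⟩
  obtain ⟨c, hc⟩ := hfix.exists_fix z hz
  obtain ⟨g, rfl⟩ := QuotientGroup.mk_surjective c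
  have key : ∀ a : L, orderOf a = 2 → a • ((g : L) : L ⧸ H) = ((g : L) : L ⧸ H) → a ∈ g • S0 := by
    intro a ha hfa
    have h1 : g⁻¹ * a * g ∈ H := by
      have := QuotientGroup.eq.1 (show ((a * g : L) : L ⧸ H) = ((g : L) : L ⧸ H) from hfa)
      have := H.inv_mem this
      simpa [mul_assoc] using this
    rw [hS0] at h1
    have h2 := mem_of_normalizes S0 h1 ⟨1, by
      rw [pow_one, show g⁻¹ * a * g = g⁻¹ * a * g⁻¹⁻¹ by group, conj_pow, pow_two,
        CfsgLib.Involutions.mul_self_eq_one ha]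
      group⟩
    exact ⟨g⁻¹ * a * g, h2, by simp [mul_assoc]⟩
  exact ⟨g • S0, key z hz hc, fun a ha haz =>
    key a ha (hfix.fix_of_commute ⟨hz, hc⟩ haz)⟩

end CfsgLib.RootSz
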