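import Cfsg.Agent.Lib.RootSz.Base

/-!
The parameter of the Suzuki section is one more than the number of twins, and around a trace member
the quotient is a Suzuki group with this parameter.
-/

set_option autoImplicit false

namespace CfsgLib.RootSz

open CfsgLib.OddTrans74

universe u

variable {G : Type u} [Group G] [Finite G] {D : Set G} {d x : G}

/-- A 2-element with non-trivial square in a Suzuki type group. -/
theorem SzType.exists_sq_ne {L : Type u} [Group L] [Finite L] {r : ℕ} (h : SzType L r) {z : L}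
    (hz : orderOf z = 2) : ∃ a : L, Commute a z ∧ a * a ≠ 1 ∧ ∃ k : ℕ, a ^ 2 ^ k = 1 := by
  obtain ⟨a, b, ha, hb, hab⟩ := h.cent_nonab z hz
  have hsq : ∀ {c : L}, Commute c z → c * c * (c * c) = 1 := fun {c} hc => by
    rcases h.cent_sq z c hz hc with e | e
    · rw [e, one_mul]
    · exact CfsgLib.Involutions.mul_self_eq_one e
  by_contra hcon
  push Not at hcon
  have h2 : ∀ {c : L}, Commute c z → c * c = 1 := fun {c} hc => by
    by_contra hne
    refine hcon c hc hne 2 ?_
    rw [show 2 ^ 2 = 2 + 2 by norm_num, pow_add, pow_two]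
    exact hsq hc
  refine hab ?_
  calc a * b = (a * b)⁻¹ := (inv_eq_of_mul_eq_one_right (h2 (ha.mul_left hb))).symm
    _ = b * a := by
      rw [mul_inv_rev, inv_eq_of_mul_eq_one_right (h2 ha), inv_eq_of_mul_eq_one_right (h2 hb)]

/-- A monomorphism into a group of Bender type excludes the linear groups. -/
theorem type_of_sz_sub {L : Type u} [Group L] [Finite L] (hT : BenderQ.IsBenderType L)
    {R : Subgroup L} {r : ℕ} (hR : SzType ↥R r) :
    Cfsg.Lie.IsoSuzuki L ∨ ∃ (F : Type) (_ : Field F) (_ : Fintype F) (n : ℕ), 2 ≤ n ∧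
      Fintype.card F = (2 ^ n) ^ 2 ∧ Nonempty (L ≃* Cfsg.PSU 3 F (2 ^ n)) := by
  rcases hT with ⟨F, i1, i2, ⟨n, hn, hF⟩, ⟨e⟩⟩ | h | h
  · exfalso
    have : Fact (Nat.Prime 2) := ⟨Nat.prime_two⟩
    have h2 : 2 ∣ Nat.card R := by
      rw [hR.card]
      rcases Nat.even_or_odd r with he | ho
      · exact Dvd.dvd.mul_right (Dvd.dvd.mul_right (dvd_pow (even_iff_two_dvd.1 he) two_ne_zero) _) _
      · exact Dvd.dvd.mul_right (Dvd.dvd.mul_left (even_iff_two_dvd.1 (Nat.Odd.sub_odd ho odd_one)) _) _
    obtain ⟨z, hz⟩ := exists_prime_orderOf_dvd_card' 2 h2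
    obtain ⟨a, -, ha, k, hk⟩ := hR.exists_sq_ne hz
    exact ha (Subtype.ext (psl_sq e hF (by omega) (a := (a : L)) (k := k) (by
      rw [← SubmonoidClass.coe_pow, hk]; rfl)))
  · exact Or.inl h
  · exact Or.inr h

/-- The cliques in a group of unitary type. -/
theorem psu_clique {L : Type u} [Group L] [Finite L] (hr : RankOne L) {F : Type} [Field F] [Fintype F]
    {n : ℕ} (e : L ≃* Cfsg.PSU 3 F (2 ^ n)) (hF : Fintype.card F = (2 ^ n) ^ 2) (hn : 1 ≤ n) {z : L}
    (hz : orderOf z = 2) :
    (clique z).ncard + 1 = 2 ^ n ∧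
      ∃ T : Subgroup L, IsPGroup 2 T ∧ Nat.card T = (2 ^ n) ^ 3 ∧ ∀ s ∈ T, Commute s z := by
  obtain ⟨S, hzS, hS⟩ := hr.at_point z hz
  have hut := psu_ut e hF hn S
  have hset : clique z = Subtype.val '' ({a : ↥(S : Subgroup L) | a * a = 1} \ {1}) := by
    ext a
    constructor
    · rintro ⟨ha, haz⟩
      refine ⟨⟨a, hS a ha haz⟩, ⟨Subtype.ext (CfsgLib.Involutions.mul_self_eq_one ha), fun e' => ?_⟩, rfl⟩
      rw [show a = 1 from congrArg Subtype.val e', orderOf_one] at ha
      omega
    · rintro ⟨b, ⟨hb, hb1⟩, rfl⟩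
      have : Fact (Nat.Prime 2) := ⟨Nat.prime_two⟩
      have hb2 : orderOf (b : L) = 2 := orderOf_eq_prime
        (by rw [pow_two]; exact congrArg Subtype.val hb) fun e' => hb1 (Subtype.ext e')
      exact ⟨hb2, hr.comm S _ b.2 _ hzS hb2 hz⟩
  refine ⟨?_, (S : Subgroup L), S.2, hut.card, fun s hs => ?_⟩
  · rw [hset, Set.ncard_image_of_injective _ Subtype.val_injective,
      Set.ncard_diff_singleton_add_one (by simp)]
    rw [← Nat.card_coe_set_eq]
    exact UThreeSylow.card_sq_one hut
  · have hzc : (⟨z, hzS⟩ : ↥(S : Subgroup L)) ∈ Subgroup.center ↥(S : Subgroup L) :=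
      hut.sq_one _ (Subtype.ext (CfsgLib.Involutions.mul_self_eq_one hz))
    exact congrArg Subtype.val (Subgroup.mem_center_iff.1 hzc ⟨s, hs⟩)

namespace SzData

variable (P : SzData D d x) {f : G} (hf : f ∈ trace D d x)
include P hf

theorem pair_le_kset : pairGrp D d x ≤ Subgroup.closure (kset D f) := by
  obtain ⟨hdK, hxK⟩ := P.base_in hf
  rw [pairGrp_eq P.hd, Subgroup.closure_le]
  rintro s (hs | rfl)
  · refine Subgroup.subset_closure ?_
    rw [← P.comp_eq_kset hf]
    exact twins_subset_comp P.hd P.hx P.hdx hf hs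
  · exact Subgroup.subset_closure hxK

variable {y : G} (hy : y ∈ trace D d x) (hfy : ¬ Commute f y)
include hy hfy

theorem pair_le_far : pairGrp D d x ≤ Subgroup.closure (trace D f y) := by
  obtain ⟨-, hxS⟩ := P.base_far hf hy hfy
  rw [pairGrp_eq P.hd, Subgroup.closure_le]
  rintro s (hs | rfl)
  · exact Subgroup.subset_closure (P.twins_far hf hy hfy hs)
  · exact Subgroup.subset_closure hxS

/-- Around the far pair the quotient is Suzuki with the parameter of the twins. -/
theorem far_type : SzType (↥(Subgroup.closure (trace D f y)) ⧸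
    Cfsg.twoZCore ↥(Subgroup.closure (trace D f y))) (qPar D d) ∧
      SzType (↥(pairGrp D d x) ⧸ Cfsg.pCore 2 ↥(pairGrp D d x)) (qPar D d) := by
  have hS := P.far_sec hf hy hfy
  obtain ⟨hdS, hxS⟩ := P.base_far hf hy hfy
  have hle := P.pair_le_far hf hy hfy
  obtain ⟨hker, r, hr⟩ := pair_image hS P.hd P.hdx hdS hxS hle P.sz
  set ι := (proj (trace D f y)).comp (Subgroup.inclusion hle) with hι
  set z := img (trace D f y) hdS with hz
  have hzo : orderOf z = 2 := hS.img_order hdS
  -- the clique at `d` is the image of the twins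
  have hclique : (clique z).ncard + 1 = qPar D d := by
    have h := P.twin_card d P.hd
    rw [← h, Nat.add_right_cancel_iff]
    refine (Set.ncard_congr (fun t ht => img (trace D f y) (P.twins_far hf hy hfy ht)) ?_ ?_ ?_).symm
    · exact fun t ht => ⟨hS.img_order _, (hS.img_comm _ _).2 (twins_comm P.hd ht (mem_twins_self P.hd))⟩
    · intro s t hs ht he
      exact hS.twins_inj P.twin_mul (P.twins_far hf hy hfy hs) (P.twins_far hf hy hfy ht) hs.1
        (twins_trans (twins_symm P.hd hs) ht)
        (fun c hc => P.twins_far hf hy hfy (twins_trans hs hc)) P.twin_mul' he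
    · rintro w ⟨hw, hwz⟩
      obtain ⟨a, ha, haw⟩ := hS.onto w hw
      subst haw
      exact ⟨a, P.far_twins hf hy hfy ha ((hS.img_comm ha hdS).1 hwz), rfl⟩
  have hzR : z ∈ ι.range := ⟨⟨d, by
    rw [pairGrp_eq P.hd]; exact Subgroup.subset_closure (Or.inl (mem_twins_self P.hd))⟩, rfl⟩
  have hrq : r = qPar D d := by
    rw [← hclique, ← hr.clique_card ⟨z, hzR⟩ (by rw [← Subgroup.orderOf_coe]; exact hzo)]
    congr 1
    refine Set.ncard_congr (fun a _ => (a : _)) ?_ (fun _ _ _ _ h => Subtype.ext h) ?_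
    · rintro a ⟨ha1, ha2⟩
      exact ⟨by rw [Subgroup.orderOf_coe]; exact ha1, ha2.map ι.range.subtype⟩
    · rintro w ⟨hw, hwz⟩
      obtain ⟨a, ha, haw⟩ := hS.onto w hw
      subst haw
      have hat := P.far_twins hf hy hfy ha ((hS.img_comm ha hdS).1 hwz)
      refine ⟨⟨_, ⟨(a : G), by rw [pairGrp_eq P.hd]; exact Subgroup.subset_closure (Or.inl hat)⟩, rfl⟩,
        ⟨by rw [← Subgroup.orderOf_coe]; exact hw, Subtype.ext hwz⟩, rfl⟩
  subst hrq
  refine ⟨?_, hr.of_equiv ((QuotientGroup.quotientMulEquivOfEq hker.symm).trans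
    (QuotientGroup.quotientKerEquivRange ι))⟩
  rcases type_of_sz_sub hS.type hr with h | ⟨F, i1, i2, n, hn, hF, ⟨e⟩⟩
  · obtain ⟨s, hs⟩ := szType_of_iso h
    have : s = qPar D d := (hs.clique_card z hzo).symm.trans hclique
    exact this ▸ hs
  · exfalso
    have hn' : qPar D d = 2 ^ n := hclique.symm.trans (psu_clique hS.rankOne e hF (by omega) hzo).1
    have h1 : Nat.card ↥ι.range ∣ (qPar D d) ^ 3 * (((qPar D d) ^ 3 + 1) * ((qPar D d) ^ 2 - 1)) := by
      rw [hn']; exact (Subgroup.card_subgroup_dvd_card _).trans (psu_dvd e hF (by omega))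
    rw [hr.card] at h1
    exact suzuki_not_dvd_unitary hr.four h1

/-- The quotient around a trace member. -/
theorem trace_type : SzType (↥(Subgroup.closure (kset D f)) ⧸
    Cfsg.twoZCore ↥(Subgroup.closure (kset D f))) (qPar D d) := by
  classical
  obtain ⟨hFar, -⟩ := P.far_type hf hy hfy
  have hS := P.far_sec hf hy hfy
  have hK := P.sec_kset hf
  obtain ⟨hdK, hxK⟩ := P.base_in hf
  obtain ⟨-, r, hr⟩ := pair_image hK P.hd P.hdx hdK hxK (P.pair_le_kset hf) P.sz
  set z := img (kset D f) hdK with hz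
  set t := img (kset D f) hxK with ht
  have hzo : orderOf z = 2 := hK.img_order hdK
  have hto : orderOf t = 2 := hK.img_order hxK
  have hzt : ¬ Commute z t := fun e => P.hdx ((hK.img_comm hdK hxK).1 e)
  have hclique : qPar D d ≤ (clique z).ncard + 1 := by
    have h := P.twin_card d P.hd
    rw [← h, Nat.add_le_add_iff_right]
    refine Set.ncard_le_ncard_of_injOn
      (fun t => if h : t ∈ kset D f then img (kset D f) h else 1) ?_ ?_
    · intro s hs
      have hsK : s ∈ kset D f := P.comp_eq_kset hf ▸ twins_subset_comp P.hd P.hx P.hdx hf hs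
      simp only [dif_pos hsK]
      exact ⟨hK.img_order _, (hK.img_comm _ _).2 (twins_comm P.hd hs (mem_twins_self P.hd))⟩
    · intro s hs t ht he
      have hmem : ∀ {c : G}, c ∈ twins D d → c ∈ kset D f := fun hc =>
        P.comp_eq_kset hf ▸ twins_subset_comp P.hd P.hx P.hdx hf hc
      simp only [dif_pos (hmem hs), dif_pos (hmem ht)] at he
      exact hK.twins_inj P.twin_mul (hmem hs) (hmem ht) hs.1
        (twins_trans (twins_symm P.hd hs) ht) (fun c hc => hmem (twins_trans hs hc)) P.twin_mul' he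
  -- pairwise non-commuting involutions are bounded by those of the far pair
  have hbound : ∀ T : Subgroup (↥(Subgroup.closure (kset D f)) ⧸
      Cfsg.twoZCore ↥(Subgroup.closure (kset D f))), IsPGroup 2 T → (∀ s ∈ T, Commute s z) →
      Nat.card T ≤ qPar D d ^ 2 + 1 := by
    intro T hT hTz
    classical
    obtain ⟨A, hA, hAo, hAp⟩ := hK.rankOne.exists_far T hT hzo hto hzt hTz
    choose! g hg hgi using fun a (ha : a ∈ A) => hK.onto a (hAo a ha)
    have hproj : ∀ a ∈ A, ∃ e ∈ trace D f y, Commute e (g a : G) := fun a ha => by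
      obtain ⟨e, he, hey, hef, heg⟩ := P.conn.common hy.1 hf.1 (hg a ha).1 (hg a ha).2.1.symm
      exact ⟨e, ⟨he, hef, hey⟩, heg⟩
    choose! e he heg using hproj
    have hmain : ∀ a (ha : a ∈ A) b (hb : b ∈ A),
        Commute (img (trace D f y) (he a ha)) (img (trace D f y) (he b hb)) → a = b := by
      intro a ha b hb hab
      by_contra hne
      refine hAp a ha b hb hne ?_
      rw [← hgi a ha, ← hgi b hb]
      refine (hK.img_comm (hg a ha) (hg b hb)).2 ?_
      have hka := SzData.far_kset hy.1 hfy (he a ha)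
      have hkb := SzData.far_kset hy.1 hfy (he b hb)
      have h1 := P.trans_all f hf.1 _ (hg a ha) _ hka _ hkb (heg a ha).symm
        ((hS.img_comm (he a ha) (he b hb)).1 hab)
      exact P.trans_all f hf.1 _ (hg a ha) _ hkb _ (hg b hb) h1 (heg b hb)
    have hinj : Function.Injective (fun a : A => img (trace D f y) (he a a.2)) := fun a b h =>
      Subtype.ext (hmain a a.2 b b.2
        (show Commute (img (trace D f y) (he a a.2)) (img (trace D f y) (he b b.2)) from by
          rw [show img (trace D f y) (he a a.2) = img (trace D f y) (he b b.2) from h]))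
    have h1 := hFar.card_far hS.rankOne (A.attach.image fun a : A => img (trace D f y) (he a a.2))
      (by simp only [Finset.forall_mem_image]; exact fun a _ => hS.img_order _) (by
        simp only [Finset.forall_mem_image]
        exact fun a _ b _ hne hc => hne (by rw [show a = b from Subtype.ext (hmain a a.2 b b.2 hc)]))
    rwa [Finset.card_image_of_injective _ hinj, Finset.card_attach, hA] at h1
  rcases type_of_sz_sub hK.type hr with h | ⟨F, i1, i2, n, hn, hF, ⟨e⟩⟩
  · obtain ⟨s, hs⟩ := szType_of_iso h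
    have hcen : IsPGroup 2 (Subgroup.centralizer ({z} : Set _)) := by
      intro ⟨a, ha⟩
      rcases hs.cent_sq z a hzo (Subgroup.mem_centralizer_singleton_iff.1 ha) with h1 | h1
      · exact ⟨1, Subtype.ext (by rw [pow_one, pow_two]; exact h1)⟩
      · refine ⟨2, Subtype.ext ?_⟩
        show a ^ 2 ^ 2 = 1
        rw [show 2 ^ 2 = 2 * 2 by norm_num, pow_mul, pow_two a, pow_two]
        exact CfsgLib.Involutions.mul_self_eq_one h1
    have h1 := hbound _ hcen fun g hg => Subgroup.mem_centralizer_singleton_iff.1 hg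
    rw [hs.cent_card z hzo] at h1
    have h2 := hs.clique_card z hzo
    have : s = qPar D d := by
      refine le_antisymm ?_ (by omega)
      by_contra hlt
      push Not at hlt
      have h4 := hFar.four
      nlinarith [Nat.pow_le_pow_left hlt 2]
    exact this ▸ hs
  · exfalso
    obtain ⟨h1, T, hT, hTc, hTz⟩ := psu_clique hK.rankOne e hF (by omega) hzo
    have h2 := hbound T hT hTz
    rw [hTc] at h2
    have h4 := hFar.four
    have h5 : qPar D d ≤ 2 ^ n := h1 ▸ hclique
    nlinarith [Nat.pow_le_pow_left h5 2]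

end SzData

end CfsgLib.RootSz
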