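import Mathlib.GroupTheory.Index
import Mathlib.Tactic
import Mathlib.Algebra.Group.Subgroup.Pointwise

/-!
A family of more than `q + 1` subgroups of a commutative group, each of order at most `q`, pairwise
meeting trivially and each contained in the join of any two others, consists of trivial subgroups.
-/

set_option autoImplicit false

namespace CfsgLib.RootSz

theorem all_bot {M : Type*} [Group M] [Finite M] (hcomm : ∀ a b : M, a * b = b * a) {ι : Type*}
    (T : Finset ι) (J : ι → Subgroup M) {q : ℕ} (hT : q + 1 < T.card)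
    (hq : ∀ i ∈ T, Nat.card (J i) ≤ q) (hdisj : ∀ i ∈ T, ∀ j ∈ T, i ≠ j → J i ⊓ J j = ⊥)
    (hle : ∀ i ∈ T, ∀ j ∈ T, ∀ l ∈ T, i ≠ j → J l ≤ J i ⊔ J j) :
    ∀ i ∈ T, J i = ⊥ := by
  classical
  have hnorm : ∀ H : Subgroup M, H.Normal := fun H => ⟨fun n hn g => by
    rwa [hcomm g n, mul_inv_cancel_right]⟩
  have hcard : ∀ i ∈ T, ∀ j ∈ T, i ≠ j →
      Nat.card ↥(J i ⊔ J j) = Nat.card (J i) * Nat.card (J j) := fun i hi j hj hij => by
    have := hnorm (J j)
    have h := Subgroup.relIndex_mul_relIndex ⊥ (J j) (J i ⊔ J j) bot_le le_sup_right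
    rw [Subgroup.relIndex_sup_right, ← Subgroup.inf_relIndex_right (J j) (J i), inf_comm,
      hdisj i hi j hj hij, Subgroup.relIndex_bot_left, Subgroup.relIndex_bot_left,
      Subgroup.relIndex_bot_left] at h
    rw [← h, mul_comm]
  intro i hi
  obtain ⟨j, hj, hji⟩ := Finset.exists_mem_ne (show 1 < T.card by omega) i
  -- all joins of two members agree
  have heq : ∀ a ∈ T, ∀ b ∈ T, a ≠ b → J a ⊔ J b = J i ⊔ J j := fun a ha b hb hab =>
    le_antisymm (sup_le (hle i hi j hj a ha hji.symm) (hle i hi j hj b hb hji.symm))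
      (sup_le (hle a ha b hb i hi hab) (hle a ha b hb j hj hab))
  obtain ⟨k, hk, hki, hkj⟩ : ∃ k ∈ T, k ≠ i ∧ k ≠ j := by
    by_contra hcon
    push Not at hcon
    have : T ⊆ {i, j} := fun k hk => by
      by_cases hki : k = i
      · simp [hki]
      · simp [hcon k hk hki]
    have := (Finset.card_le_card this).trans Finset.card_le_two
    have h1 : 0 < q := Nat.lt_of_lt_of_le Nat.card_pos (hq i hi)
    omega
  have hk' : ∀ l ∈ T, Nat.card (J l) = Nat.card (J i) := by
    intro l hl
    by_cases hli : l = i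
    · rw [hli]
    obtain ⟨m, hm, hmi, hml⟩ : ∃ m ∈ T, m ≠ i ∧ m ≠ l := by
      by_cases hlj : l = j
      · exact ⟨k, hk, hki, hlj ▸ hkj⟩
      · exact ⟨j, hj, hji, fun e => hlj e.symm⟩
    have e1 := hcard i hi m hm hmi.symm
    have e2 := hcard l hl m hm hml.symm
    rw [heq i hi m hm hmi.symm] at e1
    rw [heq l hl m hm hml.symm, e1] at e2
    exact (Nat.eq_of_mul_eq_mul_right Nat.card_pos e2).symm
  rw [← Subgroup.card_eq_one]
  obtain ⟨c, hc⟩ : ∃ c, Nat.card (J i) = c := ⟨_, rfl⟩
  rw [hc] at hk' ⊢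
  have hc0 : 0 < c := hc ▸ Nat.card_pos
  have hcq : c ≤ q := hc ▸ hq i hi
  -- the non-trivial elements of the members are disjoint in the join
  have : Fintype M := Fintype.ofFinite M
  set P : ι → Finset M := fun l => Finset.univ.filter (fun m => m ∈ J l ∧ m ≠ 1) with hP
  set S : Finset M := Finset.univ.filter (fun m => m ∈ J i ⊔ J j ∧ m ≠ 1) with hS
  have hcount : ∀ H : Subgroup M,
      (Finset.univ.filter (fun m => m ∈ H ∧ m ≠ 1)).card + 1 = Nat.card H := by
    intro H
    have e : (Finset.univ.filter (fun m => m ∈ H ∧ m ≠ 1)) =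
        (Finset.univ.filter (fun m => m ∈ H)).erase 1 := by
      ext m; simp [and_comm]
    rw [e, Finset.card_erase_add_one (by simp [H.one_mem]), Nat.card_eq_fintype_card,
      Fintype.card_subtype]
  have hsub : T.biUnion P ⊆ S := by
    intro m hm
    simp only [hP, hS, Finset.mem_biUnion, Finset.mem_filter, Finset.mem_univ, true_and] at hm ⊢
    obtain ⟨l, hl, hml, hm1⟩ := hm
    exact ⟨hle i hi j hj l hl hji.symm hml, hm1⟩
  have hbi : (T.biUnion P).card = ∑ l ∈ T, (P l).card := by
    refine Finset.card_biUnion fun a ha b hb hab => ?_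
    rw [Function.onFun, Finset.disjoint_left]
    intro m hma hmb
    simp only [hP, Finset.mem_filter, Finset.mem_univ, true_and] at hma hmb
    have hm : m ∈ J a ⊓ J b := ⟨hma.1, hmb.1⟩
    rw [hdisj a ha b hb hab, Subgroup.mem_bot] at hm
    exact hma.2 hm
  have hsum : ∑ l ∈ T, (P l).card = T.card * (c - 1) := by
    rw [← smul_eq_mul, ← Finset.sum_const]
    refine Finset.sum_congr rfl fun l hl => ?_
    have := hcount (J l)
    rw [hk' l hl] at this
    show (Finset.univ.filter _).card = _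
    omega
  have hS' : S.card + 1 = c * c := by
    rw [hS, hcount, hcard i hi j hj hji.symm, hk' j hj, hc]
  have h1 := Finset.card_le_card hsub
  rw [hbi, hsum] at h1
  by_contra hne
  obtain ⟨c', rfl⟩ : ∃ c', c = c' + 2 := ⟨c - 2, by omega⟩
  simp only [Nat.add_sub_cancel, show c' + 2 - 1 = c' + 1 from rfl] at h1
  have h2 : (c' + 4) * (c' + 1) ≤ T.card * (c' + 1) := Nat.mul_le_mul_right _ (by omega)
  have h3 : (c' + 4) * (c' + 1) ≤ S.card := h2.trans h1
  nlinarith

end CfsgLib.RootSz
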