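import Cfsg.Agent.Lib.RootSz.Lines
import Cfsg.Agent.Lib.RootSz.Pigeon

/-!
An element centralising a member, its twins and a trace through it, with square in the twin group,
centralises all members commuting with it: the image of `σ + 1` on the translation group modulo its
kernel meets each line in a group of order at most `q`, and there are more than `q + 1` lines.
-/

set_option autoImplicit false

namespace CfsgLib.RootSz

open CfsgLib.OddTrans74

universe u

variable {G : Type u} [Group G] {D : Set G} {N : G → Subgroup G} {q : ℕ} {d x s : G}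

/-- The hypotheses on the element. -/
structure Fixer (D : Set G) (d x s : G) : Prop where
  hsd : Commute s d
  twins : ∀ t ∈ OddTrans74.twins D d, Commute s t
  trace : ∀ f ∈ trace D d x, Commute s f
  sq : s * s ∈ Subgroup.closure (OddTrans74.twins D d)

/-- The component of `a` in the twin group of `d` modulo `N f`. -/
def IsPart (D : Set G) (N : G → Subgroup G) (d f a e : G) : Prop :=
  e ∈ Subgroup.closure (twins D d) ∧ a * e ∈ N f

open Classical in
/-- The component, chosen. -/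
noncomputable def part (D : Set G) (N : G → Subgroup G) (d f a : G) : G :=
  if h : ∃ e, IsPart D N d f a e then h.choose else 1

namespace Fixer

variable (hs : Fixer D d x s)
include hs

theorem inv : Fixer D d x s⁻¹ :=
  ⟨hs.hsd.inv_left, fun t ht => (hs.twins t ht).inv_left, fun f hf => (hs.trace f hf).inv_left,
    by simpa [mul_inv_rev] using inv_mem hs.sq⟩

theorem closure_twins {e : G} (he : e ∈ Subgroup.closure (OddTrans74.twins D d)) : Commute s e :=
  commute_closure hs.twins he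

variable (h : Frame D N q) (hd : d ∈ D) (hx : x ∈ D) (hdx : ¬ Commute d x)
include h hd hx hdx

theorem conj_rset {z g : G} (hz : z ∈ RootSz.trace D d x) (hg : g ∈ rset D N d z) :
    s * g * s⁻¹ ∈ rset D N d z := by
  refine ⟨conj_kset h.ot hs.hsd hg.1, ?_⟩
  have := h.N_conj d hd s hs.hsd _ hg.2
  rwa [show s * (z * g) * s⁻¹ = s * z * s⁻¹ * (s * g * s⁻¹) by group,
    conj_eq_self (hs.trace z hz)] at this

theorem conj_bgrp {z b : G} (hz : z ∈ RootSz.trace D d x) (hb : b ∈ bgrp D N d z) :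
    s * b * s⁻¹ ∈ bgrp D N d z := by
  have hle : (bgrp D N d z).map (MulAut.conj s).toMonoidHom ≤ bgrp D N d z := by
    rw [bgrp, MonoidHom.map_closure, Subgroup.closure_le]
    rintro _ ⟨_, ⟨p, hp, rfl⟩, rfl⟩
    refine Subgroup.subset_closure ⟨_, hs.conj_rset h hd hx hdx hz hp, ?_⟩
    show s * p * s⁻¹ * z = s * (p * z) * s⁻¹
    rw [show s * (p * z) * s⁻¹ = s * p * s⁻¹ * (s * z * s⁻¹) by group,
      conj_eq_self (hs.trace z hz)]
  exact hle ⟨b, hb, rfl⟩

theorem conj_wgrp {w : G} (hw : w ∈ wgrp D N d x) : s * w * s⁻¹ ∈ wgrp D N d x := by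
  have hle : (wgrp D N d x).map (MulAut.conj s).toMonoidHom ≤ wgrp D N d x := by
    rw [wgrp, MonoidHom.map_closure, Subgroup.closure_le]
    rintro _ ⟨_, ⟨z, hz, p, hp, rfl⟩, rfl⟩
    refine Subgroup.subset_closure ⟨z, hz, _, hs.conj_rset h hd hx hdx hz hp, ?_⟩
    show s * (p * z) * s⁻¹ = s * p * s⁻¹ * z
    rw [show s * (p * z) * s⁻¹ = s * p * s⁻¹ * (s * z * s⁻¹) by group,
      conj_eq_self (hs.trace z hz)]
  exact hle ⟨w, hw, rfl⟩

theorem conj_zgrp {n : G} (hn : n ∈ zgrp D N d x) : s * n * s⁻¹ ∈ zgrp D N d x := by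
  refine Subgroup.mem_inf.2 ⟨hs.conj_wgrp h hd hx hdx hn.1, Subgroup.mem_centralizer_iff.2 ?_⟩
  rintro g ⟨z, hz, hg⟩
  have h1 : Commute (s⁻¹ * g * s⁻¹⁻¹) n := Subgroup.mem_centralizer_iff.1 hn.2 _
    ⟨z, hz, hs.inv.conj_rset h hd hx hdx hz hg⟩
  have h2 := (commute_conj_iff s _ _).2 h1
  rwa [show s * (s⁻¹ * g * s⁻¹⁻¹) * s⁻¹ = g by group] at h2

theorem sq_wgrp {w : G} (hw : w ∈ wgrp D N d x) : s * (s * w * s⁻¹) * s⁻¹ = w := by
  have hc : Commute (s * s) w := by
    refine (commute_closure (fun t ht => ?_) hs.sq).symm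
    exact comm_of_twins_line h hd ht (h.w_props hd hx hdx hw).1 hw
  rw [show s * (s * w * s⁻¹) * s⁻¹ = s * s * w * (s * s)⁻¹ by group, conj_eq_self hc]
where
  comm_of_twins_line (h : Frame D N q) (hd : d ∈ D) {t w : G} (ht : t ∈ OddTrans74.twins D d)
      (_ : Commute w d) (hw : w ∈ wgrp D N d x) : Commute w t :=
    (commute_closure (fun m hm => by
      obtain ⟨z, hz, p, hp, rfl⟩ := hm
      exact ((comm_of_twins hp.1.1 ht hp.1.2.1).mul_left (comm_of_twins hz.1 ht hz.2.1)).symm) hw).symm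

end Fixer

namespace Frame

variable (h : Frame D N q) (hd : d ∈ D)
include h hd

theorem closure_twins : (Subgroup.closure (twins D d) : Set G) ⊆ twins D d ∪ {1} := by
  intro a ha
  induction ha using Subgroup.closure_induction'' with
  | mem y hy => exact Or.inl hy
  | inv_mem y hy => rw [h.inv_eq hy.1]; exact Or.inl hy
  | one => exact Or.inr rfl
  | mul y z _ _ hy hz =>
    rcases hy with hy | hy
    swap
    · rw [Set.mem_singleton_iff] at hy; rw [hy, one_mul]; exact hz
    rcases hz with hz | hz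
    swap
    · rw [Set.mem_singleton_iff] at hz; rw [hz, mul_one]; exact Or.inl hy
    by_cases e : y = z
    · rw [e, h.mul_self hz.1]; exact Or.inr rfl
    exact Or.inl (twins_trans hy (h.prod_twin hy.1 (twins_trans (twins_symm hd hy) hz) e))

theorem closure_card [Finite G] : Nat.card (Subgroup.closure (twins D d)) ≤ q := by
  have h1 : Nat.card (Subgroup.closure (twins D d)) =
      ((Subgroup.closure (twins D d) : Subgroup G) : Set G).ncard := rfl
  rw [h1]
  refine (Set.ncard_le_ncard (h.closure_twins hd)).trans ((Set.ncard_union_le _ _).trans ?_)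
  rw [Set.ncard_singleton, h.twin_card d hd]

theorem closure_sq {e : G} (he : e ∈ Subgroup.closure (twins D d)) : e * e = 1 := by
  rcases h.closure_twins hd he with he | he
  · exact h.mul_self he.1
  · rw [Set.mem_singleton_iff.1 he, one_mul]

variable {f : G} (hf : f ∈ kset D d) (hdf : d ∈ kset D f)
include hf hdf

theorem closure_le_line : Subgroup.closure (twins D d) ≤ lineGrp D d f :=
  (Subgroup.closure_le _).2 fun t ht =>
    mem_lineGrp ht.1 ((ht.2 d hd).2 (Commute.refl d)).symm (comm_of_twins hf.1 ht hf.2.1).symm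

theorem part_exists {a : G} (ha : a ∈ lineGrp D d f) : ∃ e, IsPart D N d f a e := by
  induction ha using Subgroup.closure_induction with
  | mem c hc =>
    obtain ⟨hc, hcd, hcf⟩ := hc
    by_cases hct : c ∈ twins D f
    · exact ⟨1, one_mem _, by rw [mul_one]; exact h.N_twin f hf.1 c hct⟩
    obtain ⟨b, hb, hbN⟩ := h.surj f hf.1 d hdf c ⟨hc, hcf, hct⟩ hcd.symm
    exact ⟨b, Subgroup.subset_closure hb, hbN⟩
  | one => exact ⟨1, one_mem _, by simp [one_mem]⟩
  | mul a b ha hb iha ihb =>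
    obtain ⟨e, he, heN⟩ := iha
    obtain ⟨e', he', heN'⟩ := ihb
    refine ⟨e * e', mul_mem he he', ?_⟩
    have hc : Commute b e := h.line_comm hd hf hb (h.closure_le_line hd hf hdf he)
    have := mul_mem heN heN'
    rwa [show a * e * (b * e') = a * (e * b) * e' by group, ← hc.eq,
      show a * (b * e) * e' = a * b * (e * e') by group] at this
  | inv a ha iha =>
    obtain ⟨e, he, heN⟩ := iha
    refine ⟨e⁻¹, inv_mem he, ?_⟩
    have := inv_mem heN
    rwa [(h.line_comm hd hf ha (h.closure_le_line hd hf hdf he)).eq, mul_inv_rev] at this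

theorem part_spec {a : G} (ha : a ∈ lineGrp D d f) : IsPart D N d f a (part D N d f a) := by
  have he := h.part_exists hd hf hdf ha
  rw [part, dif_pos he]
  exact he.choose_spec

theorem part_eq {a e : G} (ha : a ∈ lineGrp D d f) (he : IsPart D N d f a e) :
    part D N d f a = e := by
  obtain ⟨he', heN'⟩ := h.part_spec hd hf hdf ha
  have h1 := mul_mem (inv_mem he') he.1
  have h2 := mul_mem (inv_mem heN') he.2
  rw [show (a * part D N d f a)⁻¹ * (a * e) = (part D N d f a)⁻¹ * e by group] at h2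
  rcases h.closure_twins hd h1 with h3 | h3
  · exact absurd h2 (h.N_not f hf.1 _ (h.kset_twin hf.1 hdf h3))
  · exact inv_mul_eq_one.1 h3

theorem part_mul {a b : G} (ha : a ∈ lineGrp D d f) (hb : b ∈ lineGrp D d f) :
    part D N d f (a * b) = part D N d f a * part D N d f b := by
  obtain ⟨he, heN⟩ := h.part_spec hd hf hdf ha
  obtain ⟨he', heN'⟩ := h.part_spec hd hf hdf hb
  refine h.part_eq hd hf hdf (mul_mem ha hb) ⟨mul_mem he he', ?_⟩
  have hc : Commute b (part D N d f a) := h.line_comm hd hf hb (h.closure_le_line hd hf hdf he)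
  have := mul_mem heN heN'
  rwa [show a * part D N d f a * (b * part D N d f b) =
    a * (part D N d f a * b) * part D N d f b by group, ← hc.eq,
    show a * (b * part D N d f a) * part D N d f b =
      a * b * (part D N d f a * part D N d f b) by group] at this

end Frame

namespace Fixer

variable [Finite G] (hs : Fixer D d x s) (h : Frame D N q) (hd : d ∈ D) (hx : x ∈ D)
  (hdx : ¬ Commute d x)
include hs h hd hx hdx

theorem part_conj {f a : G} (hf : f ∈ RootSz.trace D d x) (ha : a ∈ lineGrp D d f)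
    (ha' : s * a * s⁻¹ ∈ lineGrp D d f) :
    part D N d f (s * a * s⁻¹) = part D N d f a := by
  have hfk := Frame.trace_kset hx hdx hf
  have hdf := (Frame.base_kset hd hx hdx hf).1
  obtain ⟨he, heN⟩ := h.part_spec hd hfk hdf ha
  refine h.part_eq hd hfk hdf ha' ⟨he, ?_⟩
  have := h.N_conj f hf.1 s (hs.trace f hf) _ heN
  rwa [show s * (a * part D N d f a) * s⁻¹ = s * a * s⁻¹ * (s * part D N d f a * s⁻¹) by group,
    conj_eq_self (hs.closure_twins he)] at this

/-- The element centralises the class of `f`. -/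
theorem commute_rset {f g : G} (hf : f ∈ RootSz.trace D d x) (hg : g ∈ rset D N d f) :
    Commute s g := by
  classical
  set W := wgrp D N d x with hW
  set Z := (zgrp D N d x).subgroupOf W with hZ
  have hZn : Z.Normal := ⟨fun n hn w => Subgroup.mem_subgroupOf.2
    (h.zgrp_conj hd hx hdx (Subgroup.mem_subgroupOf.1 hn) w.2)⟩
  set π := QuotientGroup.mk' Z with hπ
  have hπ1 : ∀ w : W, π w = 1 ↔ (w : G) ∈ zgrp D N d x := fun w =>
    (QuotientGroup.eq_one_iff w).trans Subgroup.mem_subgroupOf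
  have hcomm : ∀ a b : W ⧸ Z, a * b = b * a := by
    intro a b
    obtain ⟨a, rfl⟩ := QuotientGroup.mk'_surjective Z a
    obtain ⟨b, rfl⟩ := QuotientGroup.mk'_surjective Z b
    have h1 : π (a * b * a⁻¹ * b⁻¹) = 1 := (hπ1 _).2 (h.comm_mem hd hx hdx a.2 b.2)
    rw [map_mul, map_mul, map_inv, map_inv, mul_inv_eq_one, mul_inv_eq_iff_eq_mul] at h1
    rwa [map_mul] at h1
  -- `σ + 1` on the translations modulo the fixing ones
  let σ : W →* W :=
    { toFun := fun w => ⟨s * w * s⁻¹, hs.conj_wgrp h hd hx hdx w.2⟩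
      map_one' := Subtype.ext (by simp)
      map_mul' := fun a b => Subtype.ext (by simp [mul_assoc]) }
  let Δ : W →* W ⧸ Z :=
    { toFun := fun w => π (σ w) * π w
      map_one' := by simp
      map_mul' := fun a b => by
        rw [map_mul σ, map_mul π, map_mul π, mul_assoc (π (σ a)), ← mul_assoc (π (σ b)),
          hcomm (π (σ b)) (π a)]
        group }
  have hΔZ : ∀ w : W, (w : G) ∈ zgrp D N d x → Δ w = 1 := fun w hw => by
    show π (σ w) * π w = 1
    rw [(hπ1 _).2 (hs.conj_zgrp h hd hx hdx hw), (hπ1 _).2 hw, one_mul]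
  set J : G → Subgroup (W ⧸ Z) := fun z => ((bgrp D N d z).subgroupOf W).map Δ with hJ
  -- the image on one line is small
  have hsmall : ∀ f ∈ RootSz.trace D d x, ∀ y ∈ RootSz.trace D d x, ¬ Commute f y →
      Nat.card (J y) ≤ q := by
    intro f hf y hy hfy
    have hfk := Frame.trace_kset hx hdx hf
    have hyk := Frame.trace_kset hx hdx hy
    have hdf := (Frame.base_kset hd hx hdx hf).1
    have hfl := h.line_mem hd hfk (h.rset_self hd hfk)
    have hBY := h.bgrp_le_line hd hyk
    have hwN : ∀ {b : G}, b ∈ bgrp D N d y → Commute b d ∧ b ∈ N d := fun hb =>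
      h.w_props hd hx hdx (bgrp_le_wgrp hy hb)
    set c : G → G := fun u => f * (u * f * u⁻¹) with hc
    set e : G → G → G := fun b a => b * a * b⁻¹ * a⁻¹ with he
    have hcA : ∀ {b : G}, b ∈ bgrp D N d y → c b ∈ lineGrp D d f := fun hb =>
      mul_mem hfl (h.line_mem hd hfk (h.conj_rset hd (hwN hb).1 (hwN hb).2 (h.rset_self hd hfk)))
    have hcN : ∀ {b : G}, b ∈ bgrp D N d y → c b ∈ N d := fun hb =>
      (h.conj_rset hd (hwN hb).1 (hwN hb).2 (h.rset_self hd hfk)).2
    have hef : ∀ {b a : G}, b ∈ bgrp D N d y → a ∈ lineGrp D d f → e b a ∈ lineGrp D d f :=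
      fun hb ha => mul_mem (h.conj_line hd (hwN hb).1 (hwN hb).2 hfk ha) (inv_mem ha)
    have hey : ∀ {b a : G}, b ∈ bgrp D N d y → a ∈ lineGrp D d f → a ∈ N d →
        e b a ∈ lineGrp D d y := by
      intro b a hb ha haN
      rw [he, show (fun b a => b * a * b⁻¹ * a⁻¹) b a = b * (a * b⁻¹ * a⁻¹) by simp [mul_assoc]]
      exact mul_mem (hBY hb) (h.conj_line hd (Frame.line_commute ha) haN hyk (inv_mem (hBY hb)))
    set φ : G → G → G := fun b b' => part D N d f (e b (c b')) with hφ
    have hφP : ∀ {b b' : G}, b ∈ bgrp D N d y → b' ∈ bgrp D N d y →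
        φ b b' ∈ Subgroup.closure (OddTrans74.twins D d) := fun hb hb' =>
      (h.part_spec hd hfk hdf (hef hb (hcA hb'))).1
    have hφl : ∀ {b1 b2 b' : G}, b1 ∈ bgrp D N d y → b2 ∈ bgrp D N d y → b' ∈ bgrp D N d y →
        φ (b1 * b2) b' = φ b2 b' * φ b1 b' := by
      intro b1 b2 b' h1 h2 h'
      show part D N d f _ = part D N d f _ * part D N d f _
      rw [← h.part_mul hd hfk hdf (hef h2 (hcA h')) (hef h1 (hcA h'))]
      congr 1
      calc b1 * b2 * c b' * (b1 * b2)⁻¹ * (c b')⁻¹ = b1 * e b2 (c b') * b1⁻¹ * e b1 (c b') := by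
            simp only [he]; group
        _ = e b2 (c b') * e b1 (c b') := by
            rw [conj_eq_self (h.line_comm hd hyk (hBY h1) (hey h2 (hcA h') (hcN h')))]
    have hcc : ∀ {u v : G}, c (u * v) = c u * e u (c v) * c v := by
      intro u v
      simp only [hc, he]
      rw [show f * (u * f * u⁻¹) * (u * (f * (v * f * v⁻¹)) * u⁻¹ * (f * (v * f * v⁻¹))⁻¹) *
        (f * (v * f * v⁻¹)) = f * (u * (f * f) * (v * f * v⁻¹) * u⁻¹) by group,
        h.mul_self hf.1]
      group
    have hφr : ∀ {b b1 b2 : G}, b ∈ bgrp D N d y → b1 ∈ bgrp D N d y → b2 ∈ bgrp D N d y →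
        φ b (b1 * b2) = φ b b1 * φ b b2 := by
      intro b b1 b2 hb h1 h2
      show part D N d f _ = part D N d f _ * part D N d f _
      rw [← h.part_mul hd hfk hdf (hef hb (hcA h1)) (hef hb (hcA h2)), hcc]
      congr 1
      set X := c b1
      set Y := c b2
      set E := e b1 Y with hE
      have hEy : Commute b E := h.line_comm hd hyk (hBY hb) (hey h1 (hcA h2) (hcN h2))
      have hEX : Commute E X := h.line_comm hd hfk (hef h1 (hcA h2)) (hcA h1)
      have hXb : Commute X (e b Y) := h.line_comm hd hfk (hcA h1) (hef hb (hcA h2))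
      have hEb : Commute E (e b Y) := h.line_comm hd hfk (hef h1 (hcA h2)) (hef hb (hcA h2))
      calc b * (X * E * Y) * b⁻¹ * (X * E * Y)⁻¹ =
          b * X * b⁻¹ * (b * E * b⁻¹) * (e b Y) * E⁻¹ * X⁻¹ := by simp only [he]; group
        _ = b * X * b⁻¹ * (E * e b Y * E⁻¹) * X⁻¹ := by rw [conj_eq_self hEy]; group
        _ = b * X * b⁻¹ * X⁻¹ * (X * e b Y * X⁻¹) := by rw [conj_eq_self hEb]; group
        _ = e b X * e b Y := by rw [conj_eq_self hXb]
    have hσc : ∀ {b b' : G}, b ∈ bgrp D N d y → b' ∈ bgrp D N d y →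
        φ (s * b * s⁻¹) (s * b' * s⁻¹) = φ b b' := by
      intro b b' hb hb'
      have e1 : e (s * b * s⁻¹) (c (s * b' * s⁻¹)) = s * e b (c b') * s⁻¹ := by
        simp only [he, hc]
        have hsf : s * f * s⁻¹ = f := conj_eq_self (hs.trace f hf)
        conv_rhs => rw [show s * (b * (f * (b' * f * b'⁻¹)) * b⁻¹ * (f * (b' * f * b'⁻¹))⁻¹) * s⁻¹ =
          s * b * s⁻¹ * (s * f * s⁻¹ * (s * b' * s⁻¹ * (s * f * s⁻¹) * (s * b' * s⁻¹)⁻¹)) *
            (s * b * s⁻¹)⁻¹ *
            (s * f * s⁻¹ * (s * b' * s⁻¹ * (s * f * s⁻¹) * (s * b' * s⁻¹)⁻¹))⁻¹ by group, hsf]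
      show part D N d f _ = part D N d f _
      rw [e1]
      refine hs.part_conj h hd hx hdx hf (hef hb (hcA hb')) ?_
      rw [← e1]
      exact hef (hs.conj_bgrp h hd hx hdx hy hb) (hcA (hs.conj_bgrp h hd hx hdx hy hb'))
    -- additivity on the image
    have hadd : ∀ {b b' : G}, b ∈ bgrp D N d y → b' ∈ bgrp D N d y →
        part D N d f (c (s * b * s⁻¹ * b * (s * b' * s⁻¹ * b'))) =
          part D N d f (c (s * b * s⁻¹ * b)) * part D N d f (c (s * b' * s⁻¹ * b')) := by
      intro b b' hb hb'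
      have hb1 := hs.conj_bgrp h hd hx hdx hy hb
      have hb1' := hs.conj_bgrp h hd hx hdx hy hb'
      have hu := mul_mem hb1 hb
      have hv := mul_mem hb1' hb'
      rw [hcc, h.part_mul hd hfk hdf (mul_mem (hcA hu) (hef hu (hcA hv))) (hcA hv),
        h.part_mul hd hfk hdf (hcA hu) (hef hu (hcA hv))]
      suffices hone : φ (s * b * s⁻¹ * b) (s * b' * s⁻¹ * b') = 1 by
        show _ * φ (s * b * s⁻¹ * b) (s * b' * s⁻¹ * b') * _ = _
        rw [hone, mul_one]
      rw [hφl hb1 hb hv, hφr hb hb1' hb', hφr hb1 hb1' hb', hσc hb hb']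
      have e2 : φ (s * b * s⁻¹) b' = φ b (s * b' * s⁻¹) := by
        have := hσc hb1 hb'
        rw [hs.sq_wgrp h hd hx hdx (bgrp_le_wgrp hy hb)] at this
        exact this.symm
      rw [e2, show φ b (s * b' * s⁻¹) * φ b b' * (φ b b' * φ b (s * b' * s⁻¹)) =
        φ b (s * b' * s⁻¹) * (φ b b' * φ b b') * φ b (s * b' * s⁻¹) by group,
        h.closure_sq hd (hφP hb hb'), mul_one, h.closure_sq hd (hφP hb hb1')]
    -- the injection into the twin group
    have hmem : ∀ m : J y, ∃ b : W, (b : G) ∈ bgrp D N d y ∧ Δ b = m := fun m => by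
      obtain ⟨b, hb, he⟩ := Subgroup.mem_map.1 m.2
      exact ⟨b, Subgroup.mem_subgroupOf.1 hb, he⟩
    choose b hb hbm using hmem
    set u : J y → G := fun m => s * (b m : G) * s⁻¹ * (b m : G) with hu
    have huB : ∀ m, u m ∈ bgrp D N d y := fun m =>
      mul_mem (hs.conj_bgrp h hd hx hdx hy (hb m)) (hb m)
    let Φ : J y → Subgroup.closure (OddTrans74.twins D d) := fun m =>
      ⟨part D N d f (c (u m)), (h.part_spec hd hfk hdf (hcA (huB m))).1⟩
    refine (Nat.card_le_card_of_injective Φ ?_).trans (h.closure_card hd)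
    intro m m' hmm
    have hmm' : part D N d f (c (u m)) = part D N d f (c (u m')) := congrArg Subtype.val hmm
    set r := (b m)⁻¹ * b m' with hr
    have hrB : (r : G) ∈ bgrp D N d y := mul_mem (inv_mem (hb m)) (hb m')
    set w := s * (r : G) * s⁻¹ * r with hw
    have hwB : w ∈ bgrp D N d y := mul_mem (hs.conj_bgrp h hd hx hdx hy hrB) hrB
    have huw : u m * w = u m' := by
      have hcm : Commute (b m : G) (s * (r : G) * s⁻¹) := h.line_comm hd hyk (hBY (hb m))
        (hBY (hs.conj_bgrp h hd hx hdx hy hrB))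
      show s * (b m : G) * s⁻¹ * b m * (s * (r : G) * s⁻¹ * r) = _
      rw [show s * (b m : G) * s⁻¹ * b m * (s * (r : G) * s⁻¹ * r) =
        s * (b m : G) * s⁻¹ * ((b m : G) * (s * (r : G) * s⁻¹)) * r by group, hcm.eq]
      show _ = s * (b m' : G) * s⁻¹ * b m'
      simp only [hr, Subgroup.coe_mul, Subgroup.coe_inv]
      group
    have h1 : part D N d f (c w) = 1 := by
      have := hadd (hb m) hrB
      rw [show s * (b m : G) * s⁻¹ * (b m : G) = u m from rfl, huw, ← hmm'] at this
      exact mul_eq_left.1 this.symm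
    obtain ⟨-, hwN'⟩ := h.part_spec hd hfk hdf (hcA hwB)
    rw [h1, mul_one] at hwN'
    have hg := h.conj_rset hd (hwN hwB).1 (hwN hwB).2 (h.rset_self hd hfk)
    have hgN : w * f * w⁻¹ ∈ N f := by
      have := mul_mem (inv_mem (h.N_twin f hf.1 f (mem_twins_self hf.1))) hwN'
      rwa [hc, show f⁻¹ * (fun u => f * (u * f * u⁻¹)) w = w * f * w⁻¹ by simp] at this
    have hgt : w * f * w⁻¹ ∈ OddTrans74.twins D f := by
      by_contra hne
      exact h.N_not f hf.1 _ ⟨hg.1.1, h.rset_comm hd hfk hg, hne⟩ hgN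
    have hwf : Commute w f := commute_of_conj_eq (h.cong_eq hd hfk hgt hg.2)
    have hwz := h.mem_zgrp hd hx hdx (bgrp_le_wgrp hy hwB) hf hy hfy hwf
      (h.line_comm hd hyk (hBY hwB) (h.line_mem hd hyk (h.rset_self hd hyk)))
    have hΔr : Δ r = 1 := by
      show π (σ r) * π r = 1
      rw [← map_mul]; exact (hπ1 _).2 hwz
    refine Subtype.ext ?_
    rw [← hbm m, ← hbm m', show b m' = b m * r by simp [hr], map_mul, hΔr, mul_one]
  -- the lines
  obtain ⟨T, hT, hTt, hTp⟩ := h.trace_many hd hx hdx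
  set T' := insert f (T.filter fun t => ¬ Commute f t) with hT'
  have hfk := Frame.trace_kset hx hdx hf
  have hT'card : q + 1 < T'.card := by
    refine hT.trans_le ?_
    rw [hT', Finset.card_insert_of_notMem (by simp [Commute.refl f])]
    have h1 : (T.filter fun t => Commute f t).card ≤ 1 := Finset.card_le_one.2 fun a ha b hb => by
      rw [Finset.mem_filter] at ha hb
      by_contra hne
      exact hTp a ha.1 b hb.1 hne (h.trans d hd a (Frame.trace_kset hx hdx (hTt a ha.1)) f hfk b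
        (Frame.trace_kset hx hdx (hTt b hb.1)) ha.2.symm hb.2)
    have := Finset.card_filter_add_card_filter_not (s := T) (p := fun t => Commute f t)
    omega
  have hT't : ∀ t ∈ T', t ∈ RootSz.trace D d x := by
    intro t ht
    rw [hT', Finset.mem_insert, Finset.mem_filter] at ht
    rcases ht with rfl | ht
    exacts [hf, hTt t ht.1]
  have hT'p : ∀ a ∈ T', ∀ b ∈ T', a ≠ b → ¬ Commute a b := by
    intro a ha b hb hne
    rw [hT', Finset.mem_insert, Finset.mem_filter] at ha hb
    rcases ha with rfl | ha <;> rcases hb with rfl | hb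
    · exact absurd rfl hne
    · exact hb.2
    · exact fun e => ha.2 e.symm
    · exact hTp a ha.1 b hb.1 hne
  have hall := all_bot hcomm T' J hT'card ?_ ?_ ?_
  · obtain ⟨y, hy, hfy⟩ : ∃ y ∈ T', ¬ Commute f y := by
      obtain ⟨y, hy, hyf⟩ := Finset.exists_mem_ne (show 1 < T'.card by omega) f
      exact ⟨y, hy, hT'p f (by simp [hT']) y hy hyf.symm⟩
    obtain ⟨p, hp, hpg⟩ := h.move hd hx hdx hf (hT't y hy) hfy hg
    set v := p * y with hv
    have hvB : v ∈ bgrp D N d y := Subgroup.subset_closure ⟨p, hp, rfl⟩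
    have hvW : v ∈ W := bgrp_le_wgrp (hT't y hy) hvB
    have hmJ : Δ ⟨v, hvW⟩ ∈ J y := ⟨⟨v, hvW⟩, hvB, rfl⟩
    rw [hall y hy, Subgroup.mem_bot] at hmJ
    have hz : s * v * s⁻¹ * v ∈ zgrp D N d x := by
      have h1 : π (σ ⟨v, hvW⟩ * ⟨v, hvW⟩) = 1 := by rw [map_mul]; exact hmJ
      exact (hπ1 _).1 h1
    have hcf : Commute f (s * v * s⁻¹ * v) := Subgroup.mem_centralizer_iff.1 hz.2 f
      ⟨f, hf, h.rset_self hd hfk⟩
    have hv2 : v * v = 1 := by
      rw [hv, show p * y * (p * y) = p * (y * p) * y by group,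
        ← (h.rset_comm hd (Frame.trace_kset hx hdx (hT't y hy)) hp).eq,
        show p * (p * y) * y = p * p * (y * y) by group, h.mul_self hp.1.1,
        h.mul_self (hT't y hy).1, mul_one]
    refine commute_of_conj_eq ?_
    have hvi := inv_eq_of_mul_eq_one_right hv2
    calc s * g * s⁻¹ = s * v * s⁻¹ * (s * f * s⁻¹) * (s * v * s⁻¹)⁻¹ := by rw [← hpg]; group
      _ = s * v * s⁻¹ * f * (s * v * s⁻¹) := by
        rw [conj_eq_self (hs.trace f hf), show (s * v * s⁻¹)⁻¹ = s * v⁻¹ * s⁻¹ by group, hvi]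
      _ = s * v * s⁻¹ * (s * v * s⁻¹ * v * f * (s * v * s⁻¹ * v)⁻¹) * (s * v * s⁻¹) := by
        rw [conj_eq_self hcf.symm]
      _ = v * f * v⁻¹ := by
        rw [show s * v * s⁻¹ * (s * v * s⁻¹ * v * f * (s * v * s⁻¹ * v)⁻¹) * (s * v * s⁻¹) =
          s * (v * v) * s⁻¹ * (v * f * v⁻¹) by group, hv2, mul_one, mul_inv_cancel, one_mul]
      _ = g := hpg
  · intro i hi
    obtain ⟨j, hj, hji⟩ := Finset.exists_mem_ne (show 1 < T'.card by omega) i
    exact hsmall j (hT't j hj) i (hT't i hi) (hT'p j hj i hi hji)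
  · intro i hi j hj hij
    rw [eq_bot_iff]
    rintro m ⟨hmi, hmj⟩
    obtain ⟨a, ha, rfl⟩ := Subgroup.mem_map.1 hmi
    obtain ⟨b, hb, hab⟩ := Subgroup.mem_map.1 hmj
    replace ha := Subgroup.mem_subgroupOf.1 ha
    replace hb := Subgroup.mem_subgroupOf.1 hb
    have hi' := hT't i hi
    have hj' := hT't j hj
    have hik := Frame.trace_kset hx hdx hi'
    have hjk := Frame.trace_kset hx hdx hj'
    have hva : s * (a : G) * s⁻¹ * a ∈ bgrp D N d i :=
      mul_mem (hs.conj_bgrp h hd hx hdx hi' ha) ha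
    have hvb : s * (b : G) * s⁻¹ * b ∈ bgrp D N d j :=
      mul_mem (hs.conj_bgrp h hd hx hdx hj' hb) hb
    have h1 : π ((σ a * a)⁻¹ * (σ b * b)) = 1 := by
      rw [map_mul, map_inv, map_mul, map_mul, inv_mul_eq_one]
      exact hab.symm
    have hn := (hπ1 _).1 h1
    simp only [Subgroup.coe_mul, Subgroup.coe_inv] at hn
    set va := s * (a : G) * s⁻¹ * a
    set vb := s * (b : G) * s⁻¹ * b
    have hai : Commute va i := h.line_comm hd hik (h.bgrp_le_line hd hik hva)
      (h.line_mem hd hik (h.rset_self hd hik))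
    have hbj : Commute vb j := h.line_comm hd hjk (h.bgrp_le_line hd hjk hvb)
      (h.line_mem hd hjk (h.rset_self hd hjk))
    have hni : Commute (va⁻¹ * vb) i :=
      (Subgroup.mem_centralizer_iff.1 hn.2 i ⟨i, hi', h.rset_self hd hik⟩ : Commute i _).symm
    have hbi : Commute vb i := by simpa using hai.mul_left hni
    have hvbZ := h.mem_zgrp hd hx hdx (bgrp_le_wgrp hj' hvb) hi' hj' (hT'p i hi j hj hij) hbi hbj
    rw [Subgroup.mem_bot, ← hab]
    show π (σ b) * π b = 1
    rw [← map_mul]; exact (hπ1 _).2 hvbZ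
  · intro i hi j hj l hl hij m hm
    obtain ⟨w, hw, rfl⟩ := Subgroup.mem_map.1 hm
    obtain ⟨u, hu, v, hv, hn⟩ := h.decomp hd hx hdx (hT't i hi) (hT't j hj) (hT'p i hi j hj hij)
      (bgrp_le_wgrp (hT't l hl) (Subgroup.mem_subgroupOf.1 hw))
    have huW := bgrp_le_wgrp (hT't i hi) hu
    have hvW := bgrp_le_wgrp (hT't j hj) hv
    rw [show w = ⟨u, huW⟩ * ⟨v, hvW⟩ * ((⟨u, huW⟩ * ⟨v, hvW⟩)⁻¹ * w) by group, map_mul,
      hΔZ (((⟨u, huW⟩ : W) * (⟨v, hvW⟩ : W))⁻¹ * w) hn, mul_one, map_mul]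
    exact Subgroup.mul_mem_sup (Subgroup.mem_map_of_mem Δ hu) (Subgroup.mem_map_of_mem Δ hv)

/-- The element centralises every member commuting with `d`. -/
theorem commute_cent {c : G} (hc : c ∈ D) (hcd : Commute c d) : Commute s c := by
  by_cases hct : c ∈ OddTrans74.twins D d
  · exact hs.twins c hct
  have hck : c ∈ kset D d := ⟨hc, hcd, hct⟩
  obtain ⟨e, he, hce⟩ := h.proj hd hx hdx hck
  obtain ⟨e', he', heN⟩ := h.surj d hd e (Frame.trace_kset hx hdx he) c hck hce.symm
  exact hs.commute_rset h hd hx hdx (Frame.trace_twin hd hx he he')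
    ⟨hck, h.cong_symm hc he'.1 heN⟩

end Fixer

end CfsgLib.RootSz
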