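import Cfsg.Agent.Lib.RootSz.Models

/-!
Pairwise non-commuting involutions in rank one groups: at least as many as the order of a Sylow
2-subgroup, at most `q ^ 2 + 1` in a Suzuki group; and an order comparison excluding a Suzuki group
inside a unitary group with the same parameter.
-/

set_option autoImplicit false

namespace CfsgLib.RootSz

universe u

variable {L : Type u} [Group L]

theorem RankOne.trans (h : RankOne L) {a b c : L} (ha : orderOf a = 2) (hb : orderOf b = 2)
    (hc : orderOf c = 2) (hab : Commute a b) (hbc : Commute b c) : Commute a c := by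
  obtain ⟨S, -, hS⟩ := h.at_point b hb
  exact h.comm S a (hS a ha hab) c (hS c hc hbc.symm) ha hc

/-- There are pairwise non-commuting involutions, one for each element of a 2-group centralising an
involution. -/
theorem RankOne.exists_far [Finite L] (h : RankOne L) (T : Subgroup L) (hT : IsPGroup 2 T) {z t : L}
    (hz : orderOf z = 2) (ht : orderOf t = 2) (hzt : ¬ Commute z t)
    (hcen : ∀ s ∈ T, Commute s z) :
    ∃ A : Finset L, A.card = Nat.card T ∧ (∀ a ∈ A, orderOf a = 2) ∧
      ∀ a ∈ A, ∀ b ∈ A, a ≠ b → ¬ Commute a b := by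
  classical
  have := Fintype.ofFinite T
  have ho : ∀ g : L, orderOf (g * t * g⁻¹) = 2 := fun g =>
    (CfsgLib.Involutions.orderOf_conj_eq g t).trans ht
  have key : ∀ u ∈ T, Commute (u * t * u⁻¹) t → u = 1 := by
    intro u hu hut
    by_contra hne
    have hpow : ∀ n : ℕ, Commute (u ^ n * t * (u ^ n)⁻¹) t := by
      intro n
      induction n with
      | zero => simp [Commute.refl]
      | succ n ih =>
        have h1 := ih.map (MulAut.conj u).toMonoidHom
        simp only [MulEquiv.toMonoidHom_eq_coe, MonoidHom.coe_coe, MulAut.conj_apply] at h1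
        rw [show u * (u ^ n * t * (u ^ n)⁻¹) * u⁻¹ = u ^ (n + 1) * t * (u ^ (n + 1))⁻¹ by
          rw [pow_succ']; group] at h1
        exact h.trans (ho _) (ho u) ht h1 hut
    obtain ⟨k, hk⟩ : ∃ k, orderOf u = 2 ^ k := by
      obtain ⟨k, hk⟩ := IsPGroup.iff_orderOf.1 hT ⟨u, hu⟩
      exact ⟨k, by rw [← hk, Subgroup.orderOf_mk]⟩
    obtain ⟨k', rfl⟩ : ∃ k', k = k' + 1 := by
      rcases k with _ | k
      · exact absurd (orderOf_eq_one_iff.1 (by simpa using hk)) hne
      · exact ⟨k, rfl⟩
    set w := u ^ 2 ^ k' with hw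
    have hw2 : orderOf w = 2 := by
      rw [hw, orderOf_pow_of_dvd (pow_ne_zero _ two_ne_zero) (hk ▸ Dvd.intro _ (pow_succ 2 k').symm),
        hk, pow_succ, Nat.mul_div_cancel_left _ (by positivity)]
    have hwz : Commute w z := (hcen u hu).pow_left _
    have hwt := hpow (2 ^ k')
    rw [← hw] at hwt
    have hw_inv : w⁻¹ = w := inv_eq_of_mul_eq_one_right (CfsgLib.Involutions.mul_self_eq_one hw2)
    have hww := CfsgLib.Involutions.mul_self_eq_one hw2
    have htt := CfsgLib.Involutions.mul_self_eq_one ht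
    rw [hw_inv] at hwt
    set c := w * t * w * t with hc
    refine hzt (h.trans hz hw2 ht hwz.symm ?_)
    have hcw : c * c = 1 := by
      have e1 : w * t * w * (w * t * w) = 1 := by
        rw [show w * t * w * (w * t * w) = w * (t * (w * w) * t) * w by group, hww, mul_one, htt,
          mul_one, hww]
      rw [hc, show w * t * w * t * (w * t * w * t) = w * t * w * (t * (w * t * w)) * t by group,
        ← hwt.eq, show w * t * w * (w * t * w * t) * t = w * t * w * (w * t * w) * (t * t) by group,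
        e1, htt, one_mul]
    by_cases hc1 : c = 1
    · show w * t = t * w
      calc w * t = w * t * w * t * t⁻¹ * w⁻¹ := by group
        _ = t * w := by
          rw [← hc, hc1, one_mul, inv_eq_of_mul_eq_one_right htt, hw_inv]
    have hco : orderOf c = 2 := orderOf_eq_prime (by rw [pow_two, hcw]) hc1
    have hct : Commute c t := hwt.mul_left (Commute.refl t)
    refine h.trans hw2 hco ht ?_ hct
    show w * c = c * w
    calc w * c = t * w * t := by rw [hc, ← mul_assoc, ← mul_assoc, ← mul_assoc, hww, one_mul]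
      _ = c⁻¹ * w := by
        rw [hc, mul_inv_rev, mul_inv_rev, mul_inv_rev, hw_inv, inv_eq_of_mul_eq_one_right htt,
          show t * (w * (t * w)) * w = t * w * t * (w * w) by group, hww, mul_one]
      _ = c * w := by rw [inv_eq_of_mul_eq_one_right hcw]
  have hinj : Function.Injective (fun s : T => (s : L) * t * (s : L)⁻¹) := by
    intro s s' he
    have h1 := key ((s' : L)⁻¹ * s) (mul_mem (inv_mem s'.2) s.2) (by
      rw [show (s' : L)⁻¹ * s * t * ((s' : L)⁻¹ * s)⁻¹ = (s' : L)⁻¹ * (s * t * (s : L)⁻¹) * s' by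
        group, show (s : L) * t * (s : L)⁻¹ = s' * t * (s' : L)⁻¹ from he]
      simp [mul_assoc, Commute.refl])
    exact Subtype.ext (inv_mul_eq_one.1 h1).symm
  refine ⟨Finset.univ.image (fun s : T => (s : L) * t * (s : L)⁻¹), ?_, ?_, ?_⟩
  · rw [Finset.card_image_of_injective _ hinj, Finset.card_univ, Nat.card_eq_fintype_card]
  · simp only [Finset.forall_mem_image, Finset.mem_univ, true_imp_iff]
    exact fun s => ho _
  · simp only [Finset.forall_mem_image, Finset.mem_univ, true_imp_iff]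
    intro s s' hne hc
    refine hne ?_
    have h1 := key ((s' : L)⁻¹ * s) (mul_mem (inv_mem s'.2) s.2) (by
      have h2 := hc.map (MulAut.conj ((s' : L)⁻¹)).toMonoidHom
      simp only [MulEquiv.toMonoidHom_eq_coe, MonoidHom.coe_coe, MulAut.conj_apply] at h2
      rwa [show (s' : L)⁻¹ * (s * t * (s : L)⁻¹) * (s' : L)⁻¹⁻¹ =
          (s' : L)⁻¹ * s * t * ((s' : L)⁻¹ * s)⁻¹ by group,
        show (s' : L)⁻¹ * (s' * t * (s' : L)⁻¹) * (s' : L)⁻¹⁻¹ = t by group] at h2)
    rw [Subtype.ext (inv_mul_eq_one.1 h1).symm]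

/-- In a Suzuki group at most `q ^ 2 + 1` involutions commute pairwise not. -/
theorem SzType.card_far [Finite L] {q : ℕ} (h : SzType L q) (hr : RankOne L) (A : Finset L)
    (hA : ∀ a ∈ A, orderOf a = 2) (hne : ∀ a ∈ A, ∀ b ∈ A, a ≠ b → ¬ Commute a b) :
    A.card ≤ q ^ 2 + 1 := by
  classical
  rcases A.eq_empty_or_nonempty with rfl | ⟨z, hz⟩
  · simp
  have := Fintype.ofFinite L
  set C : L → Finset L := fun a => Finset.univ.filter (fun b => b ∈ clique a) with hC
  have hCcard : ∀ a ∈ A, (C a).card + 1 = q := fun a ha => by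
    rw [← h.clique_card a (hA a ha), Set.ncard_eq_toFinset_card' (clique a)]
    congr 2
    ext b; simp [hC]
  have hdisj : ∀ a ∈ A, ∀ b ∈ A, a ≠ b → Disjoint (C a) (C b) := by
    intro a ha b hb hab
    rw [Finset.disjoint_left]
    intro c hca hcb
    simp only [hC, Finset.mem_filter, Finset.mem_univ, true_and] at hca hcb
    exact hne a ha b hb hab (hr.trans (hA a ha) hca.1 (hA b hb) hca.2.symm hcb.2)
  have h1 : A.card * (q - 1) = (A.biUnion C).card := by
    rw [Finset.card_biUnion hdisj, ← smul_eq_mul, ← Finset.sum_const]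
    exact Finset.sum_congr rfl fun a ha => by have := hCcard a ha; omega
  -- the number of involutions
  have h2 : (A.biUnion C).card ≤ (Subgroup.centralizer ({z} : Set L)).index := by
    rw [Subgroup.index, Nat.card_eq_fintype_card]
    refine le_trans (Finset.card_le_card (t := Finset.univ.image
      (fun c : L ⧸ Subgroup.centralizer ({z} : Set L) => c.out * z * c.out⁻¹)) ?_) Finset.card_image_le
    intro b hb
    simp only [Finset.mem_biUnion, hC, Finset.mem_filter, Finset.mem_univ, true_and] at hb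
    obtain ⟨a, ha, hb1, -⟩ := hb
    obtain ⟨g, hg⟩ := isConj_iff.1 (hr.conj z b (hA z hz) hb1)
    refine Finset.mem_image.2 ⟨(g : L ⧸ Subgroup.centralizer ({z} : Set L)), Finset.mem_univ _, ?_⟩
    obtain ⟨m, hm⟩ := QuotientGroup.mk_out_eq_mul (Subgroup.centralizer ({z} : Set L)) g
    rw [hm, ← hg, show g * (m : L) * z * (g * m)⁻¹ = g * ((m : L) * z * (m : L)⁻¹) * g⁻¹ by group,
      (Subgroup.mem_centralizer_singleton_iff.1 m.2 : (m : L) * z = z * m), mul_inv_cancel_right]
  have h3 := Subgroup.card_mul_index (Subgroup.centralizer ({z} : Set L))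
  rw [h.cent_card z (hA z hz), h.card, mul_assoc] at h3
  have h4 := Nat.eq_of_mul_eq_mul_left (pow_pos (by have := h.four; omega) 2) h3
  rw [← h1, h4, mul_comm (q - 1)] at h2
  exact Nat.le_of_mul_le_mul_right h2 (by have := h.four; omega)

theorem suzuki_not_dvd_unitary {q : ℕ} (hq : 4 ≤ q)
    (h : q ^ 2 * (q - 1) * (q ^ 2 + 1) ∣ q ^ 3 * ((q ^ 3 + 1) * (q ^ 2 - 1))) : False := by
  have h1 : (q ^ 2 + 1) ∣ q ^ 3 * ((q ^ 3 + 1) * (q ^ 2 - 1)) := (Dvd.intro_left _ rfl).trans h
  have h2 : ((q : ℤ) ^ 2 + 1) ∣ (q : ℤ) ^ 3 * (((q : ℤ) ^ 3 + 1) * ((q : ℤ) ^ 2 - 1)) := by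
    have := Int.natCast_dvd_natCast.2 h1
    have hq2 : 1 ≤ q ^ 2 := Nat.one_le_pow _ _ (by omega)
    push_cast [Nat.cast_sub hq2] at this
    exact this
  have h3 : ((q : ℤ) ^ 2 + 1) ∣ 2 * (q : ℤ) + 2 := by
    have e : (2 * (q : ℤ) + 2) = (q : ℤ) ^ 3 * (((q : ℤ) ^ 3 + 1) * ((q : ℤ) ^ 2 - 1)) -
        ((q : ℤ) ^ 2 + 1) * ((q : ℤ) ^ 6 - 2 * (q : ℤ) ^ 4 + (q : ℤ) ^ 3 + 2 * (q : ℤ) ^ 2 -
          2 * (q : ℤ) - 2) := by ring
    rw [e]
    exact dvd_sub h2 (Dvd.intro _ rfl)
  have h4 := Int.le_of_dvd (by positivity) h3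
  nlinarith

end CfsgLib.RootSz
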