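import Cfsg.Agent.Lib.RootSz.Derive
import Cfsg.Agent.Lib.RootSz.Counting
import Cfsg.Agent.Lib.RootSz.Claim
import Cfsg.Agent.Lib.OddTrans74.Closed
import Cfsg.Agent.Lib.TwoGroups85.SectionalRankTwo

/-!
A Suzuki section on an opposite pair, with sections at the trace, makes the quotient around each trace
member a Suzuki group with the same parameter, and yields a frame.
-/

set_option autoImplicit false

namespace CfsgLib.RootSz

open CfsgLib.OddTrans74

universe u

variable {G : Type u} [Group G] {D : Set G}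

/-- The elements around `a` fixing every class of non-twins. -/
def nGrp (hD : OT D) (a : G) : Subgroup G where
  carrier := {n | Commute n a ∧ ∀ c ∈ kset D a, ∀ z ∈ kset D a,
    (Commute (n * c * n⁻¹) z ↔ Commute c z)}
  one_mem' := ⟨Commute.one_left a, fun c _ z _ => by simp⟩
  mul_mem' := by
    rintro m n ⟨hm, hm'⟩ ⟨hn, hn'⟩
    refine ⟨hm.mul_left hn, fun c hc z hz => ?_⟩
    rw [show m * n * c * (m * n)⁻¹ = m * (n * c * n⁻¹) * m⁻¹ by group]
    exact (hm' _ (conj_kset hD hn hc) z hz).trans (hn' c hc z hz)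
  inv_mem' := by
    rintro n ⟨hn, hn'⟩
    refine ⟨hn.inv_left, fun c hc z hz => ?_⟩
    rw [← commute_conj_iff n, show n * (n⁻¹ * c * n⁻¹⁻¹) * n⁻¹ = c by group]
    exact ⟨fun h => ((hn' z hz c hc).1 h.symm).symm, fun h => ((hn' z hz c hc).2 h.symm).symm⟩

theorem kset_map (hD : OT D) (g : G) {a c : G} (hc : c ∈ kset D a) :
    g * c * g⁻¹ ∈ kset D (g * a * g⁻¹) := by
  refine ⟨hD.conj c hc.1 g, (commute_conj_iff g c a).2 hc.2.1, fun h => hc.2.2 ?_⟩
  have := conj_mem_twins hD h g⁻¹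
  rwa [show g⁻¹ * (g * c * g⁻¹) * g⁻¹⁻¹ = c by group,
    show g⁻¹ * (g * a * g⁻¹) * g⁻¹⁻¹ = a by group] at this

theorem kset_unmap (hD : OT D) (g : G) {a c : G} (hc : c ∈ kset D (g * a * g⁻¹)) :
    ∃ c' ∈ kset D a, c = g * c' * g⁻¹ := by
  refine ⟨g⁻¹ * c * g⁻¹⁻¹, ?_, by group⟩
  have := kset_map hD g⁻¹ hc
  rwa [show g⁻¹ * (g * a * g⁻¹) * g⁻¹⁻¹ = a by group] at this

theorem nGrp_map (hD : OT D) (g : G) {a n : G} (hn : n ∈ nGrp hD a) :
    g * n * g⁻¹ ∈ nGrp hD (g * a * g⁻¹) := by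
  refine ⟨(commute_conj_iff g n a).2 hn.1, fun c hc z hz => ?_⟩
  obtain ⟨c', hc', rfl⟩ := kset_unmap hD g hc
  obtain ⟨z', hz', rfl⟩ := kset_unmap hD g hz
  rw [show g * n * g⁻¹ * (g * c' * g⁻¹) * (g * n * g⁻¹)⁻¹ = g * (n * c' * n⁻¹) * g⁻¹ by group,
    commute_conj_iff, commute_conj_iff]
  exact hn.2 c' hc' z' hz'

theorem twins_map_ncard (hD : OT D) (g a : G) :
    (twins D (g * a * g⁻¹)).ncard = (twins D a).ncard := by
  refine (Set.ncard_congr (fun t _ => g * t * g⁻¹) (fun t ht => conj_mem_twins hD ht g)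
    (fun s t _ _ h => by simpa using h) fun b hb => ⟨g⁻¹ * b * g⁻¹⁻¹, ?_, by group⟩).symm
  have := conj_mem_twins hD hb g⁻¹
  rwa [show g⁻¹ * (g * a * g⁻¹) * g⁻¹⁻¹ = a by group] at this

/-- The image of an element of the generated group in the quotient of a section. -/
abbrev proj (K : Set G) [Finite G] :
    ↥(Subgroup.closure K) →* ↥(Subgroup.closure K) ⧸ Cfsg.twoZCore ↥(Subgroup.closure K) :=
  QuotientGroup.mk' _

/-- The image of a member. -/
def img (K : Set G) [Finite G] {a : G} (ha : a ∈ K) :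
    ↥(Subgroup.closure K) ⧸ Cfsg.twoZCore ↥(Subgroup.closure K) :=
  proj K ⟨a, Subgroup.subset_closure ha⟩

variable [Finite G]

theorem Sec.img_order {K : Set G} (h : Sec K) {a : G} (ha : a ∈ K) : orderOf (img K ha) = 2 :=
  h.order _ (sub_mem ha)

theorem Sec.img_comm {K : Set G} (h : Sec K) {a b : G} (ha : a ∈ K) (hb : b ∈ K) :
    Commute (img K ha) (img K hb) ↔ Commute a b :=
  ⟨fun e => commute_sub.1 (h.lift _ (sub_mem ha) _ (sub_mem hb) e),
    fun e => (commute_sub.2 e).map (proj K)⟩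

/-- Congruent twins in a section are equal. -/
theorem Sec.twins_inj {K : Set G} (h : Sec K)
    (hmul : ∀ a ∈ D, ∀ t ∈ twins D a, a ≠ t → a * t ∈ D) {a b : G} (ha : a ∈ K) (hb : b ∈ K)
    (hda : a ∈ D) (ht : b ∈ twins D a) (hK : ∀ c ∈ twins D a, c ∈ K)
    (hmt : ∀ a ∈ D, ∀ t ∈ twins D a, a ≠ t → a * t ∈ twins D a)
    (he : img K ha = img K hb) : a = b := by
  by_contra hne
  have hm := hK _ (hmt a hda b ht hne)
  have h1 := h.img_order hm
  have h2 : img K hm = img K ha * img K hb := by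
    simp only [img, ← map_mul]; rfl
  rw [he, CfsgLib.Involutions.mul_self_eq_one (h.img_order hb)] at h2
  rw [h2, orderOf_one] at h1
  exact absurd h1 (by norm_num)

/-- The data. -/
structure SzData (D : Set G) (d x : G) : Prop extends Pair D d x where
  core : Cfsg.pCore 2 G = ⊥
  sz : IsSzPair D d x

variable {d x : G}

/-- The parameter. -/
noncomputable def qPar (D : Set G) (d : G) : ℕ := (twins D d).ncard + 1

namespace SzData

variable (P : SzData D d x)
include P

theorem twin_mul : ∀ a ∈ D, ∀ t ∈ twins D a, a ≠ t → a * t ∈ D := fun _ ha _ ht hne =>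
  twin_mul_mem P.conn.cls P.conn.root.1.generates P.conn.conn P.core ha ht hne

theorem twin_mul' : ∀ a ∈ D, ∀ t ∈ twins D a, a ≠ t → a * t ∈ twins D a := by
  intro a ha t ht hne
  have hc : Commute a t := twins_comm ha (mem_twins_self ha) ht
  exact ⟨P.twin_mul a ha t ht hne, fun z hz => ⟨fun e => (P.conn.cls.ot.f1 ha ht.1 hz hc hne e).1,
    fun e => e.mul_right (comm_of_twins hz ht e)⟩⟩

theorem twin_card : ∀ a ∈ D, (twins D a).ncard + 1 = qPar D d := by
  intro a ha
  obtain ⟨g, hg⟩ := P.conn.cls.cls d P.hd a ha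
  rw [hg, twins_map_ncard P.conn.cls.ot, qPar]

theorem trace_ex : ∃ f, f ∈ trace D d x := by
  obtain ⟨f, hf, hfd, hfx, -⟩ := P.conn.common P.hd P.hx P.hx (Commute.refl x)
  exact ⟨f, hf, hfd, hfx⟩

/-- Commuting is transitive around every member. -/
theorem trans_all : ∀ a ∈ D, ∀ b ∈ kset D a, ∀ c ∈ kset D a, ∀ e ∈ kset D a,
    Commute b c → Commute c e → Commute b e := by
  intro a ha b hb c hc e he hbc hce
  obtain ⟨f, hf⟩ := P.trace_ex
  obtain ⟨g, rfl⟩ := P.conn.cls.cls f hf.1 a ha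
  obtain ⟨b', hb', rfl⟩ := kset_unmap P.conn.cls.ot g hb
  obtain ⟨c', hc', rfl⟩ := kset_unmap P.conn.cls.ot g hc
  obtain ⟨e', he', rfl⟩ := kset_unmap P.conn.cls.ot g he
  rw [commute_conj_iff] at hbc hce ⊢
  rw [← P.comp_eq_kset hf] at hb' hc' he'
  exact P.trans_at hf hb' hc' he' hbc hce

theorem sec_kset {f : G} (hf : f ∈ trace D d x) : Sec (kset D f) :=
  P.comp_eq_kset hf ▸ P.sec f hf

variable {f : G} (hf : f ∈ trace D d x) {y : G} (hy : y ∈ trace D d x) (hfy : ¬ Commute f y)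
include hf

theorem base_in : d ∈ kset D f ∧ x ∈ kset D f := Frame.base_kset P.hd P.hx P.hdx hf

include hy hfy

theorem base_far : d ∈ trace D f y ∧ x ∈ trace D f y :=
  ⟨⟨P.hd, hf.2.1.symm, hy.2.1.symm⟩, ⟨P.hx, hf.2.2.symm, hy.2.2.symm⟩⟩

omit [Finite G] P hf hy hfy in
theorem far_kset {c : G} (hy' : y ∈ D) (hfy' : ¬ Commute f y) (hc : c ∈ trace D f y) :
    c ∈ kset D f :=
  mem_kset_of hy' hc.1 hc.2.1 hc.2.2.symm fun e => hfy' e.symm

theorem twins_far {t : G} (ht : t ∈ twins D d) : t ∈ trace D f y :=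
  ⟨ht.1, (comm_of_twins hf.1 ht hf.2.1).symm, (comm_of_twins hy.1 ht hy.2.1).symm⟩

theorem far_twins {c : G} (hc : c ∈ trace D f y) (hcd : Commute c d) : c ∈ twins D d := by
  obtain ⟨hd', -⟩ := P.base_far hf hy hfy
  by_contra hne
  obtain ⟨hfd, hyd⟩ : f ∈ kset D d ∧ y ∈ kset D d :=
    ⟨Frame.trace_kset P.hx P.hdx hf, Frame.trace_kset P.hx P.hdx hy⟩
  have hck : c ∈ kset D d := ⟨hc.1, hcd, hne⟩
  exact hfy (P.trans_all d P.hd f hfd c hck y hyd hc.2.1.symm hc.2.2)

theorem far_sec : Sec (trace D f y) := by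
  obtain ⟨hdS, hxS⟩ := P.base_far hf hy hfy
  have hR := sub_root P.conn.root (K := trace D f y) (fun k hk => hk.1)
    fun a ha b hb => Pair.trace_conj P.conn.cls.ot ha hb
  obtain ⟨d', hl⟩ := P.conn.cls.lines d P.hd
  have hd' : d' ∈ twins D d := ⟨hl.2.1, fun z hz => (P.conn.cls.ot.line_iff hl hz).symm⟩
  have hdd : d * d' ∈ twins D d :=
    ⟨hl.2.2.2, fun z hz => (P.conn.cls.ot.line_iff (hl.shift P.conn.cls.ot) hz).trans (hd'.2 z hz)⟩
  refine Sec.of_root hR ⟨⟨d, Subgroup.subset_closure hdS⟩, hdS,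
    ⟨d', Subgroup.subset_closure (P.twins_far hf hy hfy hd')⟩, P.twins_far hf hy hfy hd',
    commute_sub.2 hl.2.2.1, P.twins_far hf hy hfy hdd⟩ (sub_mem hdS) (sub_mem hxS) fun hpath => P.hdx ?_
  have key : ∀ {b : ↥(Subgroup.closure (trace D f y))},
      Relation.ReflTransGen (CStep (sub (trace D f y))) ⟨d, Subgroup.subset_closure hdS⟩ b →
        Commute d (b : G) := by
    intro b hb
    induction hb with
    | refl => exact Commute.refl d
    | @tail s t _ hst ih =>
      exact P.trans_all f hf.1 d (far_kset hy.1 hfy hdS) s (far_kset hy.1 hfy hst.1) t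
        (far_kset hy.1 hfy hst.2.1) ih (commute_sub.1 hst.2.2)
  exact key hpath

end SzData

/-- The image of a Suzuki pair in a section containing it. -/
theorem pair_image {K : Set G} (hS : Sec K) (hd : d ∈ D) (hdx : ¬ Commute d x) (hdK : d ∈ K)
    (hxK : x ∈ K) (hle : pairGrp D d x ≤ Subgroup.closure K) (hsz : IsSzPair D d x) :
    ((proj K).comp (Subgroup.inclusion hle)).ker = Cfsg.pCore 2 ↥(pairGrp D d x) ∧
      ∃ r, SzType ↥((proj K).comp (Subgroup.inclusion hle)).range r := by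
  have : Fact (Nat.Prime 2) := ⟨Nat.prime_two⟩
  set X := pairGrp D d x with hX
  set ι := (proj K).comp (Subgroup.inclusion hle) with hι
  have hdX : d ∈ X := by
    rw [hX, pairGrp_eq hd]; exact Subgroup.subset_closure (Or.inl (mem_twins_self hd))
  have hxX : x ∈ X := by
    rw [hX, pairGrp_eq hd]; exact Subgroup.subset_closure (Or.inr rfl)
  have hd' := hS.img_order hdK
  have hx' := hS.img_order hxK
  have hne : ¬ Commute (img K hdK) (img K hxK) := fun e => hdx ((hS.img_comm hdK hxK).1 e)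
  have hdι : ι ⟨d, hdX⟩ = img K hdK := rfl
  have hxι : ι ⟨x, hxX⟩ = img K hxK := rfl
  -- the image has trivial 2-core
  have hO : Cfsg.pCore 2 ↥ι.range = ⊥ := by
    set W := Cfsg.pCore 2 ↥ι.range with hW
    have hWn : W.Normal := inferInstance
    by_contra hne'
    have hW2 : IsPGroup 2 W := CfsgLib.Fitting.pCore_isPGroup 2
    have : Nontrivial W := (Subgroup.nontrivial_iff_ne_bot W).2 hne'
    have hZ := hW2.center_nontrivial
    obtain ⟨⟨z, hz⟩, hz1⟩ := exists_ne (1 : Subgroup.center W)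
    -- an involution in the centre
    obtain ⟨k, hk⟩ := IsPGroup.iff_orderOf.1 hW2 z
    have hzne : z ≠ 1 := fun e => hz1 (Subtype.ext e)
    have hk0 : k ≠ 0 := fun e => hzne (orderOf_eq_one_iff.1 (by rw [hk, e, pow_zero]))
    set z2 := z ^ 2 ^ (k - 1) with hz2def
    have hz2o : orderOf z2 = 2 := by
      rw [hz2def, orderOf_pow_of_dvd (pow_ne_zero _ two_ne_zero) (by
        rw [hk]; exact pow_dvd_pow 2 (by omega)), hk, Nat.pow_div (by omega) two_pos,
        show k - (k - 1) = 1 by omega, pow_one]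
    have hz2c : z2 ∈ Subgroup.center W := Subgroup.pow_mem _ hz _
    -- every involution of the image commutes with an involution of the normal 2-subgroup
    have key : ∀ a : ↥ι.range, orderOf a = 2 → ∃ w : W, orderOf w = 2 ∧ Commute a (w : ↥ι.range) := by
      intro a ha
      have hza : IsPGroup 2 (Subgroup.zpowers a) :=
        IsPGroup.of_card (n := 1) (by rw [Nat.card_zpowers, ha, pow_one])
      have hsup : IsPGroup 2 (Subgroup.zpowers a ⊔ W : Subgroup ↥ι.range) :=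
        hza.to_sup_of_normal_right hW2
      set U := (Subgroup.zpowers a ⊔ W : Subgroup ↥ι.range) with hU
      have : (W.subgroupOf U).Normal := inferInstance
      obtain ⟨c, hcW, hcZ, hc1, hc2⟩ :=
        CfsgLib.TwoGroups85.exists_central_involution_mem hsup (D := W.subgroupOf U) (by
          intro e
          rw [Subgroup.subgroupOf_eq_bot, disjoint_iff, inf_eq_left.2 le_sup_right] at e
          exact hne' e)
      have hc : orderOf c = 2 := orderOf_eq_prime hc2 hc1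
      refine ⟨⟨c, Subgroup.mem_subgroupOf.1 hcW⟩, ?_, ?_⟩
      · rw [← Subgroup.orderOf_coe, Subgroup.coe_mk, Subgroup.orderOf_coe]; exact hc
      · have := Subgroup.mem_center_iff.1 hcZ ⟨a, Subgroup.mem_sup_left (Subgroup.mem_zpowers a)⟩
        exact congrArg Subtype.val this
    have o2 : ∀ {a : X}, orderOf (ι a) = 2 → orderOf (⟨ι a, a, rfl⟩ : ↥ι.range) = 2 := fun {a} h => by
      rw [← Subgroup.orderOf_coe]; exact h
    obtain ⟨w, hw, hdw⟩ := key ⟨ι ⟨d, hdX⟩, _, rfl⟩ (o2 hd')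
    obtain ⟨w', hw', hxw⟩ := key ⟨ι ⟨x, hxX⟩, _, rfl⟩ (o2 hx')
    have ho : ∀ {v : W}, orderOf v = 2 → orderOf (((v : ↥ι.range)) :
        ↥(Subgroup.closure K) ⧸ Cfsg.twoZCore ↥(Subgroup.closure K)) = 2 := fun {v} h => by
      rw [Subgroup.orderOf_coe, Subgroup.orderOf_coe]; exact h
    have hcc : ∀ v : W, Commute ((v : ↥ι.range) :
        ↥(Subgroup.closure K) ⧸ Cfsg.twoZCore ↥(Subgroup.closure K)) ((z2 : ↥ι.range) : _) :=
      fun v => ((show Commute v z2 from Subgroup.mem_center_iff.1 hz2c v).map W.subtype).map ι.range.subtype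
    have h1 := hS.rankOne.trans (ho hw) (ho hz2o) (ho hw') (hcc w) (hcc w').symm
    have h2 := hS.rankOne.trans hd' (ho hw) (ho hw') (hdw.map ι.range.subtype) h1
    exact hne (hS.rankOne.trans hd' (ho hw') hx' h2 (hxw.map ι.range.subtype).symm)
  -- the kernel
  have hker : ι.ker = Cfsg.pCore 2 ↥X := by
    refine le_antisymm ?_ ?_
    · obtain ⟨F, i1, i2, m, hm, hF, ⟨e⟩⟩ := id hsz
      have hsimp : IsSimpleGroup (↥X ⧸ Cfsg.pCore 2 ↥X) := BenderQ.IsBenderType.isSimple (Or.inr (Or.inl hsz))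
      have hn := (inferInstance : ι.ker.Normal).map (QuotientGroup.mk' (Cfsg.pCore 2 ↥X))
        (QuotientGroup.mk'_surjective _)
      rcases hsimp.eq_bot_or_eq_top_of_normal _ hn with h | h
      · rwa [Subgroup.map_eq_bot_iff, QuotientGroup.ker_mk'] at h
      · exfalso
        obtain ⟨k, hk, hkd⟩ : QuotientGroup.mk' (Cfsg.pCore 2 ↥X) ⟨d, hdX⟩ ∈
            ι.ker.map (QuotientGroup.mk' (Cfsg.pCore 2 ↥X)) := h ▸ Subgroup.mem_top _
        have hmem : k⁻¹ * ⟨d, hdX⟩ ∈ Cfsg.pCore 2 ↥X := QuotientGroup.eq.1 hkd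
        have h1 : ι.rangeRestrict (k⁻¹ * ⟨d, hdX⟩) ∈ Cfsg.pCore 2 ↥ι.range := by
          refine CfsgLib.Fitting.le_pCore ((inferInstance : (Cfsg.pCore 2 ↥X).Normal).map _
            ι.rangeRestrict_surjective) ((CfsgLib.Fitting.pCore_isPGroup (G := ↥X) 2).map _) ?_
          exact ⟨_, hmem, rfl⟩
        rw [hO, Subgroup.mem_bot] at h1
        have h2 := congrArg Subtype.val h1
        rw [MonoidHom.coe_rangeRestrict, map_mul, map_inv, MonoidHom.mem_ker.1 hk, inv_one, one_mul,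
          hdι] at h2
        rw [h2, Subgroup.coe_one, orderOf_one] at hd'
        omega
    · intro a ha
      have h1 : ι.rangeRestrict a ∈ Cfsg.pCore 2 ↥ι.range :=
        CfsgLib.Fitting.le_pCore ((inferInstance : (Cfsg.pCore 2 ↥X).Normal).map _
            ι.rangeRestrict_surjective) ((CfsgLib.Fitting.pCore_isPGroup (G := ↥X) 2).map _)
          ⟨a, ha, rfl⟩
      rw [hO, Subgroup.mem_bot] at h1
      exact congrArg Subtype.val h1
  refine ⟨hker, ?_⟩
  obtain ⟨r, hr⟩ := szType_of_iso hsz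
  exact ⟨r, hr.of_equiv ((QuotientGroup.quotientKerEquivRange ι).symm.trans
    (QuotientGroup.quotientMulEquivOfEq hker))⟩

end CfsgLib.RootSz
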