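import Cfsg.Agent.Lib.OddTrans74.Diameter
import Cfsg.Agent.Lib.OddTrans74.Centred
import Cfsg.Agent.Lib.OddTrans74.Cfsg
import Cfsg.Agent.Lib.RootConnect.Dichotomy
import Cfsg.Agent.Lib.RootSz.Models
import Cfsg.Agent.S1175

/-!
Components of the members commuting with a fixed one: each either again has connected commuting
graph or has a rank one group as quotient modulo `twoZCore`, so that commuting is transitive on it.
-/

set_option autoImplicit false

namespace CfsgLib.RootSz

open CfsgLib.OddTrans74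

universe u

variable {G : Type u} [Group G]

/-- The criterion for strong embedding. -/
theorem strongCriterion : RootConnect.StrongCriterion.{u} :=
  fun _ _ _ _ M hM z hz hzM h1 h2 h3 => Cfsg.Agent.S1175.result M hM z hz hzM h1 h2 h3

/-- Commuting steps inside a set. -/
def CStep (D : Set G) (p q : G) : Prop := p ∈ D ∧ q ∈ D ∧ Commute p q

/-- A class of odd transpositions with lines and connected commuting graph. -/
structure Conn (D : Set G) : Prop where
  root : Cfsg.IsOddTranspositionSet D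
  cls : Cls D
  conn : ∀ p ∈ D, ∀ q ∈ D, Relation.ReflTransGen (CStep D) p q

theorem Conn.common [Finite G] {D : Set G} (h : Conn D) {d x f : G} (hd : d ∈ D) (hx : x ∈ D)
    (hf : f ∈ D) (hxf : Commute x f) :
    ∃ e ∈ D, Commute e d ∧ Commute e x ∧ Commute e f :=
  exists_common_pair h.cls.ot h.cls.lines h.conn hd hx hf hxf

/-- An edge between opposite members commuting with `e`. -/
def OppAt (D : Set G) (e p q : G) : Prop :=
  p ∈ D ∧ q ∈ D ∧ Commute p e ∧ Commute q e ∧ ¬ Commute p q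

/-- The component of `d` among the members commuting with `e`. -/
def comp (D : Set G) (e d : G) : Set G := {k | Relation.ReflTransGen (OppAt D e) d k}

/-- The members in the subgroup they generate. -/
def sub (K : Set G) : Set ↥(Subgroup.closure K) := Subtype.val ⁻¹' K

variable {D : Set G} {e d x : G}

theorem comp_trans {p q : G} (hp : p ∈ comp D e d) (hpq : OppAt D e p q) : q ∈ comp D e d :=
  hp.tail hpq

section basic

variable (hd : d ∈ D) (hx : x ∈ D) (hde : Commute d e) (hxe : Commute x e) (hdx : ¬ Commute d x)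
include hd hx hde hxe hdx

theorem comp_mem {k : G} (hk : k ∈ comp D e d) : k ∈ D ∧ Commute k e := by
  induction hk with
  | refl => exact ⟨hd, hde⟩
  | tail _ hst _ => exact ⟨hst.2.1, hst.2.2.2.1⟩

theorem base_mem : d ∈ comp D e d ∧ x ∈ comp D e d :=
  ⟨Relation.ReflTransGen.refl, Relation.ReflTransGen.single ⟨hd, hx, hde, hxe, hdx⟩⟩

theorem comp_opp {k : G} (hk : k ∈ comp D e d) : ∃ l ∈ comp D e d, ¬ Commute k l := by
  rcases Relation.ReflTransGen.cases_tail hk with e' | ⟨p, hp, hpk⟩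
  · exact ⟨x, (base_mem hd hx hde hxe hdx).2, e' ▸ hdx⟩
  · exact ⟨p, hp, fun h => hpk.2.2.2.2 h.symm⟩

theorem comp_rest {c k : G} (hc : c ∈ D) (hce : Commute c e) (hk : k ∈ comp D e d)
    (hn : c ∉ comp D e d) : Commute c k := by
  by_contra h
  exact hn (comp_trans hk ⟨(comp_mem hd hx hde hxe hdx hk).1, hc,
    (comp_mem hd hx hde hxe hdx hk).2, hce, fun e' => h e'.symm⟩)

theorem comp_not_self : e ∉ comp D e d := fun h => by
  obtain ⟨l, hl, hel⟩ := comp_opp hd hx hde hxe hdx h
  exact hel (comp_mem hd hx hde hxe hdx hl).2.symm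

theorem comp_conj (hD : OT D) {a b : G} (ha : a ∈ comp D e d) (hb : b ∈ comp D e d) :
    b * a * b⁻¹ ∈ comp D e d := by
  obtain ⟨ha1, ha2⟩ := comp_mem hd hx hde hxe hdx ha
  obtain ⟨hb1, hb2⟩ := comp_mem hd hx hde hxe hdx hb
  by_cases hab : Commute b a
  · rwa [hab.eq, mul_inv_cancel_right]
  rw [hD.inv_eq hb1]
  refine comp_trans ha ⟨ha1, hD.cj_mem (hD.mul_self b hb1) ha1, ha2,
    (hb2.mul_left ha2).mul_left hb2, hD.not_comm_cj ha1 hb1 fun h => hab h.symm⟩

theorem comp_line (hC : Cls D) (he : e ∈ D) {k : G} (hk : k ∈ comp D e d) :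
    ∃ k', k' ∈ comp D e d ∧ Commute k k' ∧ k * k' ∈ comp D e d := by
  obtain ⟨hk1, hk2⟩ := comp_mem hd hx hde hxe hdx hk
  obtain ⟨l, hl, hkl⟩ := comp_opp hd hx hde hxe hdx hk
  obtain ⟨hl1, hl2⟩ := comp_mem hd hx hde hxe hdx hl
  obtain ⟨k', hline⟩ := hC.lines k hk1
  have hk' : Commute k' e := ((hC.ot.line_iff hline he).1 hk2.symm).symm
  have hlk' : ¬ Commute l k' := fun h => hkl ((hC.ot.line_iff hline hl1).2 h).symm
  have hline2 := hline.shift hC.ot
  have hlk2 : ¬ Commute l (k * k') := fun h => hlk' ((hC.ot.line_iff hline2 hl1).1 h)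
  exact ⟨k', comp_trans hl ⟨hl1, hline.2.1, hl2, hk', hlk'⟩, hline.2.2.1,
    comp_trans hl ⟨hl1, hline.2.2.2, hl2, hk2.mul_left hk', hlk2⟩⟩

theorem comp_closure {g : G} (hg : g ∈ Subgroup.closure (comp D e d)) : Commute g e := by
  have hle : Subgroup.closure (comp D e d) ≤ Subgroup.centralizer ({e} : Set G) :=
    (Subgroup.closure_le _).2 fun k hk => Subgroup.mem_centralizer_singleton_iff.2
      (comp_mem hd hx hde hxe hdx hk).2.eq
  exact Subgroup.mem_centralizer_singleton_iff.1 (hle hg)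

end basic

section sub

variable {K : Set G}

theorem sub_mem {a : G} (ha : a ∈ K) : (⟨a, Subgroup.subset_closure ha⟩ : ↥(Subgroup.closure K)) ∈ sub K :=
  ha

theorem commute_sub {a b : ↥(Subgroup.closure K)} : Commute a b ↔ Commute (a : G) b :=
  ⟨fun h => h.map (Subgroup.closure K).subtype, fun h => Subtype.ext h⟩

theorem sub_root (hD : Cfsg.IsOddTranspositionSet D) (hK : K ⊆ D)
    (hconj : ∀ a ∈ K, ∀ b ∈ K, b * a * b⁻¹ ∈ K) : Cfsg.IsOddTranspositionSet (sub K) := by
  have hall : ∀ g ∈ Subgroup.closure K, ∀ a ∈ K, g * a * g⁻¹ ∈ K := by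
    intro g hg
    induction hg using Subgroup.closure_induction'' with
    | mem b hb => exact fun a ha => hconj a ha b hb
    | inv_mem b hb =>
      have : b⁻¹ = b := (ot_of hD).inv_eq (hK hb)
      rw [this]
      exact fun a ha => hconj a ha b hb
    | one => intro a ha; simpa using ha
    | mul u v _ _ ihu ihv =>
      intro a ha
      rw [show u * v * a * (u * v)⁻¹ = u * (v * a * v⁻¹) * u⁻¹ by group]
      exact ihu _ (ihv a ha)
  refine ⟨⟨fun a ha => ?_, Subgroup.closure_closure_coe_preimage, fun a ha g => hall g g.2 a ha,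
    fun a ha b hb => ?_⟩, fun a ha b hb => ?_⟩
  · rw [← Subgroup.orderOf_coe]; exact hD.1.orderOf_eq _ (hK ha)
  · rcases hD.1.pair _ (hK ha) _ (hK hb) with e' | e' | e'
    · exact Or.inl (Subtype.ext e')
    · exact Or.inr (Or.inl (by rw [← Subgroup.orderOf_coe]; exact e'))
    · exact absurd e'.1 (hD.2 _ (hK ha) _ (hK hb))
  · rw [← Subgroup.orderOf_coe]; exact hD.2 _ (hK ha) _ (hK hb)

end sub

/-- The quotient of the group generated by `K` modulo `twoZCore` is of rank one. -/
structure Sec [Finite G] (K : Set G) : Prop where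
  simple : IsSimpleGroup (↥(Subgroup.closure K) ⧸ Cfsg.twoZCore ↥(Subgroup.closure K))
  rankOne : RankOne (↥(Subgroup.closure K) ⧸ Cfsg.twoZCore ↥(Subgroup.closure K))
  type : BenderQ.IsBenderType (↥(Subgroup.closure K) ⧸ Cfsg.twoZCore ↥(Subgroup.closure K))
  order : ∀ a ∈ sub K, orderOf (QuotientGroup.mk' (Cfsg.twoZCore ↥(Subgroup.closure K)) a) = 2
  lift : ∀ a ∈ sub K, ∀ b ∈ sub K,
    Commute (QuotientGroup.mk' (Cfsg.twoZCore ↥(Subgroup.closure K)) a)
      (QuotientGroup.mk' (Cfsg.twoZCore ↥(Subgroup.closure K)) b) → Commute a b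
  onto : ∀ z : ↥(Subgroup.closure K) ⧸ Cfsg.twoZCore ↥(Subgroup.closure K), orderOf z = 2 →
    ∃ a ∈ sub K, QuotientGroup.mk' (Cfsg.twoZCore ↥(Subgroup.closure K)) a = z

theorem Sec.of_root [Finite G] {K : Set G} (hR : Cfsg.IsOddTranspositionSet (sub K))
    (hline : ∃ a ∈ sub K, ∃ b ∈ sub K, Commute a b ∧ a * b ∈ sub K)
    {a b : ↥(Subgroup.closure K)} (ha : a ∈ sub K) (hb : b ∈ sub K)
    (hab : ¬ Relation.ReflTransGen (CStep (sub K)) a b) : Sec K := by
  have hDD : (sub K ∩ Cfsg.commutingProducts (sub K)).Nonempty := by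
    obtain ⟨u, hu, v, hv, hc, huv⟩ := hline
    exact ⟨u * v, huv, u, hu, v, hv, hc.eq, fun e' => (ot_of hR).ne_one _ huv e', rfl⟩
  have hcr : ¬ RootConnect.CR (sub K) a b := fun h' =>
    hab (Relation.ReflTransGen.mono (fun p q hpq => ⟨hpq.1, hpq.2.1, hpq.2.2.2⟩) _ _ h')
  obtain ⟨hs, ⟨H, hH⟩, hna, hlift, hne⟩ :=
    RootConnect.exists_embedded_of_disconnected strongCriterion hR.1 hDD ha hb hcr
  have hK : BenderQ.RankOneClass.{u} := fun _ _ _ _ _ _ _ _ _ hS h2 => Cfsg.Agent.S1136.result hS h2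
  have hT := BenderQ.simple_isBenderType BenderQ.benderKernel hK hna hH
  have hr := rankOne_of_embedded hna hH BenderQ.benderKernel hT
  have hord : ∀ c ∈ sub K,
      orderOf (QuotientGroup.mk' (Cfsg.twoZCore ↥(Subgroup.closure K)) c) = 2 := fun c hc =>
    orderOf_eq_prime (by rw [pow_two, ← map_mul, (ot_of hR).mul_self c hc, map_one]) (hne c hc)
  refine ⟨hs, hr, hT, hord, hlift, fun z hz => ?_⟩
  obtain ⟨g, hg⟩ := isConj_iff.1 (hr.conj _ z (hord a ha) hz)
  obtain ⟨g, rfl⟩ := QuotientGroup.mk'_surjective (Cfsg.twoZCore ↥(Subgroup.closure K)) g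
  exact ⟨g * a * g⁻¹, hR.1.conj_mem a ha g, by rw [map_mul, map_mul, map_inv, hg]⟩

/-- On a section commuting is transitive. -/
theorem Sec.trans [Finite G] {K : Set G} (h : Sec K) {a b c : G} (ha : a ∈ K) (hb : b ∈ K)
    (hc : c ∈ K) (hab : Commute a b) (hbc : Commute b c) : Commute a c := by
  set π := QuotientGroup.mk' (Cfsg.twoZCore ↥(Subgroup.closure K)) with hπ
  obtain ⟨S, -, hS⟩ := h.rankOne.at_point _ (h.order _ (sub_mem hb))
  refine commute_sub.1 (h.lift _ (sub_mem ha) _ (sub_mem hc) (h.rankOne.comm S _ ?_ _ ?_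
    (h.order _ (sub_mem ha)) (h.order _ (sub_mem hc))))
  · exact hS _ (h.order _ (sub_mem ha)) ((commute_sub.2 hab).map π)
  · exact hS _ (h.order _ (sub_mem hc)) ((commute_sub.2 hbc.symm).map π)

/-- A component either has connected commuting graph, in a smaller group, or is a section. -/
theorem comp_cases [Finite G] (h : Conn D) (he : e ∈ D) (hd : d ∈ D) (hx : x ∈ D)
    (hde : Commute d e) (hxe : Commute x e) (hdx : ¬ Commute d x) :
    (Conn (sub (comp D e d)) ∧ Nat.card ↥(Subgroup.closure (comp D e d)) < Nat.card G) ∨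
      Sec (comp D e d) := by
  set K := comp D e d with hK
  have hKD : K ⊆ D := fun k hk => (comp_mem hd hx hde hxe hdx hk).1
  have hR := sub_root h.root hKD fun a ha b hb => comp_conj hd hx hde hxe hdx h.cls.ot ha hb
  have hlines : ∀ a ∈ sub K, ∃ b, Line (sub K) a b := by
    intro a ha
    obtain ⟨k', hk', hc, hkk⟩ := comp_line hd hx hde hxe hdx h.cls he ha
    exact ⟨⟨k', Subgroup.subset_closure hk'⟩, ha, hk', commute_sub.2 hc, hkk⟩
  by_cases hcon : ∀ a ∈ sub K, ∀ b ∈ sub K, Relation.ReflTransGen (CStep (sub K)) a b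
  · refine Or.inl ⟨⟨hR, ⟨ot_of hR, hlines, ?_⟩, hcon⟩, ?_⟩
    · intro p hp r hr
      have hreach : ∀ {k : G}, k ∈ K → ∃ g ∈ Subgroup.closure K, k = g * d * g⁻¹ := by
        intro k hk
        induction (show Relation.ReflTransGen (OppAt D e) d k from hk) with
        | refl => exact ⟨1, one_mem _, by simp⟩
        | @tail s t hds hst ih =>
          obtain ⟨g, hg, hgs⟩ := ih hds
          have ht : t ∈ K := hds.tail hst
          obtain ⟨k, hk, hkst⟩ := CfsgLib.Involutions.conj_of_odd_order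
            (h.root.1.orderOf_eq s hst.1) (h.root.1.orderOf_eq t hst.2.1)
            (h.cls.ot.odd_of_not hst.1 hst.2.1 hst.2.2.2.2)
          have hkK : k ∈ Subgroup.closure K := (Subgroup.closure_mono (by
            rintro m (rfl | rfl); exacts [hds, ht])) hk
          exact ⟨k * g, mul_mem hkK hg, by rw [← hkst, hgs]; group⟩
      obtain ⟨g, hg, hgp⟩ := hreach hp
      obtain ⟨g', hg', hgr⟩ := hreach hr
      exact ⟨⟨g', hg'⟩ * ⟨g, hg⟩⁻¹, Subtype.ext (by simp [hgp, hgr, mul_assoc])⟩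
    · refine lt_of_le_of_ne (Nat.card_le_card_of_injective _ (Subgroup.closure K).subtype_injective)
        fun hcard => ?_
      have htop := Subgroup.eq_top_of_card_eq _ hcard
      have hall : ∀ z ∈ D, Commute z e := fun z _ =>
        comp_closure hd hx hde hxe hdx (htop ▸ Subgroup.mem_top z)
      exact hdx (h.cls.twin_of_subset hd he (fun z hz _ => hall z hz) x hx hxe).symm
  · refine Or.inr ?_
    push Not at hcon
    obtain ⟨a, ha, b, hb, hab⟩ := hcon
    obtain ⟨a', hl⟩ := hlines a ha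
    exact Sec.of_root hR ⟨a, ha, a', hl.2.1, hl.2.2.1, hl.2.2.2⟩ ha hb hab

end CfsgLib.RootSz
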