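import Cfsg.Agent.Lib.RootSz.Nbr

/-!
If the components at the trace members of an opposite pair are sections, then around every member
commuting is transitive on the non-twins, which form a single component with a rank one section.
-/

set_option autoImplicit false

namespace CfsgLib.RootSz

open CfsgLib.OddTrans74

universe u

variable {G : Type u} [Group G] [Finite G] {D : Set G} {d x : G}

/-- A set of opposite-pair data whose components are sections. -/
structure Pair (D : Set G) (d x : G) : Prop where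
  conn : Conn D
  hd : d ∈ D
  hx : x ∈ D
  hdx : ¬ Commute d x
  sec : ∀ f ∈ trace D d x, Sec (comp D f d)

namespace Pair

variable (P : Pair D d x)
include P

theorem trans_at {f a b c : G} (hf : f ∈ trace D d x) (ha : a ∈ comp D f d) (hb : b ∈ comp D f d)
    (hc : c ∈ comp D f d) (hab : Commute a b) (hbc : Commute b c) : Commute a c :=
  (P.sec f hf).trans ha hb hc hab hbc

theorem in_comp {f c : G} (hf : f ∈ trace D d x) (hc : c ∈ D) (hcf : Commute c f)
    (hcx : ¬ Commute c x) : c ∈ comp D f d :=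
  comp_trans (base_mem P.hd P.hx hf.2.1.symm hf.2.2.symm P.hdx).2
    ⟨P.hx, hc, hf.2.2.symm, hcf, fun h => hcx h.symm⟩

theorem not_in_comp {f k : G} (hf : f ∈ trace D d x) (hk : k ∈ trace D d x) : k ∉ comp D f d :=
  fun h => P.hdx (P.trans_at hf (base_mem P.hd P.hx hf.2.1.symm hf.2.2.symm P.hdx).1 h
    (base_mem P.hd P.hx hf.2.1.symm hf.2.2.symm P.hdx).2 hk.2.1.symm hk.2.2)

/-- Some member around `d` other than twins is opposite to `x`. -/
theorem exists_out : ∃ v ∈ kset D d, ¬ Commute v x := by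
  by_contra hcon
  push Not at hcon
  have hsub : ∀ {c : G}, c ∈ kset D d → c ∈ trace D d x := fun hc => ⟨hc.1, hc.2.1, hcon _ hc⟩
  have hopp : ∀ w ∈ D, ¬ Commute w d → ∀ f ∈ kset D d, Commute w f := by
    intro w hw hwd f hf
    obtain ⟨e, he, hew, hed, hef⟩ := P.conn.common hw P.hd hf.1 hf.2.1.symm
    have he' := hsub (mem_kset_of hw he hed hew.symm hwd)
    by_contra hwf
    have hwK : w ∈ comp D e d := Relation.ReflTransGen.single
      ⟨P.hd, hw, hed.symm, hew.symm, fun h => hwd h.symm⟩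
    exact P.not_in_comp he' (hsub hf)
      (comp_trans hwK ⟨hw, hf.1, hew.symm, hef.symm, hwf⟩)
  -- the members around `d` are invariant
  have hstep : ∀ w ∈ D, ∀ f ∈ kset D d, w * f * w⁻¹ ∈ kset D d := by
    intro w hw f hf
    by_cases hwd : Commute w d
    · exact conj_kset P.conn.cls.ot hwd hf
    · rwa [conj_eq_self (hopp w hw hwd f hf)]
  have hall : ∀ g : G, ∀ f ∈ kset D d, g * f * g⁻¹ ∈ kset D d := by
    intro g
    have hg : g ∈ Subgroup.closure D := P.conn.root.1.generates ▸ Subgroup.mem_top g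
    induction hg using Subgroup.closure_induction'' with
    | mem w hw => exact hstep w hw
    | inv_mem w hw => rw [P.conn.cls.ot.inv_eq hw]; exact hstep w hw
    | one => intro f hf; simpa using hf
    | mul a b _ _ iha ihb =>
      intro f hf
      rw [show a * b * f * (a * b)⁻¹ = a * (b * f * b⁻¹) * a⁻¹ by group]
      exact iha _ (ihb f hf)
  obtain ⟨f, hf, hfd, hfx⟩ := P.conn.common P.hd P.hx P.hx (Commute.refl x)
  have hfk : f ∈ kset D d := mem_kset_of P.hx hf hfd hfx.1.symm fun h => P.hdx h.symm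
  obtain ⟨g, hg⟩ := P.conn.cls.cls f hf d P.hd
  exact (hg ▸ hall g f hfk : d ∈ kset D d).2.2 (mem_twins_self P.hd)

theorem out_trace {v : G} (hv : v ∈ kset D d) (hvx : ¬ Commute v x) :
    (∃ f ∈ trace D d x, Commute v f) ∧ ∃ f ∈ trace D d x, ¬ Commute v f := by
  refine ⟨?_, ?_⟩
  · obtain ⟨e, he, hex, hed, hev⟩ := P.conn.common P.hx P.hd hv.1 hv.2.1.symm
    exact ⟨e, ⟨he, hed, hex⟩, hev.symm⟩
  · by_contra hcon
    push Not at hcon
    exact hv.2.2 (P.conn.twin_of_trace P.hd P.hx P.hdx hv.1 hv.2.1 hvx hcon)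

/-- A member around `d` opposite to `x` commutes with whole connected parts of the trace. -/
theorem out_step {v f k : G} (hv : v ∈ kset D d) (hvx : ¬ Commute v x) (hf : f ∈ trace D d x)
    (hk : k ∈ trace D d x) (hvf : Commute v f) (hfk : Commute f k) : Commute v k := by
  by_contra hvk
  exact P.not_in_comp hf hk
    (comp_trans (P.in_comp hf hv.1 hvf hvx) ⟨hv.1, hk.1, hvf, hfk.symm, hvk⟩)

omit [Finite G] P in
theorem trace_conj (hD : OT D) {a b : G} (ha : a ∈ trace D d x) (hb : b ∈ trace D d x) :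
    b * a * b⁻¹ ∈ trace D d x := by
  rw [hD.inv_eq hb.1]
  exact ⟨hD.cj_mem (hD.mul_self b hb.1) ha.1, (hb.2.1.mul_left ha.2.1).mul_left hb.2.1,
    (hb.2.2.mul_left ha.2.2).mul_left hb.2.2⟩

theorem trace_sec : Sec (trace D d x) := by
  obtain ⟨v, hv, hvx⟩ := P.exists_out
  obtain ⟨⟨f, hf, hvf⟩, y, hy, hvy⟩ := P.out_trace hv hvx
  have hsub : trace D d x ⊆ D := fun k hk => hk.1
  have hR := sub_root P.conn.root hsub fun a ha b hb => trace_conj P.conn.cls.ot ha hb
  obtain ⟨f', hl⟩ := P.conn.cls.lines f hf.1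
  have hline : ∀ {k : G}, k ∈ D → (Commute f k ↔ Commute f' k) := fun {k} hk =>
    ⟨fun h => ((P.conn.cls.ot.line_iff hl hk).1 h.symm).symm,
      fun h => ((P.conn.cls.ot.line_iff hl hk).2 h.symm).symm⟩
  have hf' : f' ∈ trace D d x := ⟨hl.2.1, (hline P.hd).1 hf.2.1, (hline P.hx).1 hf.2.2⟩
  refine Sec.of_root hR ⟨⟨f, Subgroup.subset_closure hf⟩, hf, ⟨f', Subgroup.subset_closure hf'⟩,
    hf', commute_sub.2 hl.2.2.1,
    ⟨hl.2.2.2, hf.2.1.mul_left hf'.2.1, hf.2.2.mul_left hf'.2.2⟩⟩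
    (sub_mem hf) (sub_mem hy) fun hpath => hvy ?_
  have key : ∀ {b : ↥(Subgroup.closure (trace D d x))},
      Relation.ReflTransGen (CStep (sub (trace D d x))) ⟨f, Subgroup.subset_closure hf⟩ b →
        Commute v (b : G) := by
    intro b hb
    induction hb with
    | refl => exact hvf
    | @tail s t _ hst ih => exact P.out_step hv hvx hst.1 hst.2.1 ih (commute_sub.1 hst.2.2)
  exact key hpath

theorem trace_trans {a b c : G} (ha : a ∈ trace D d x) (hb : b ∈ trace D d x) (hc : c ∈ trace D d x)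
    (hab : Commute a b) (hbc : Commute b c) : Commute a c :=
  P.trace_sec.trans ha hb hc hab hbc

theorem trace_opp' {f : G} (hf : f ∈ trace D d x) : ∃ y ∈ trace D d x, ¬ Commute f y := by
  obtain ⟨v, hv, hvx⟩ := P.exists_out
  obtain ⟨⟨a, ha, hva⟩, b, hb, hvb⟩ := P.out_trace hv hvx
  by_contra hcon
  push Not at hcon
  exact hvb (P.out_step hv hvx ha hb hva (P.trace_trans ha hf hb (hcon a ha).symm (hcon b hb)))

/-- Commuting trace members are twins. -/
theorem trace_twins' {f g : G} (hf : f ∈ trace D d x) (hg : g ∈ trace D d x) (hfg : Commute f g) :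
    g ∈ twins D f := by
  have hsub : ∀ c ∈ D, Commute c f → Commute c g := by
    intro c hc hcf
    by_cases hK : c ∈ comp D f d
    · by_contra hcg
      exact P.not_in_comp hf hg (comp_trans hK ⟨hc, hg.1, hcf, hfg.symm, hcg⟩)
    · obtain ⟨hdK, hxK⟩ := base_mem P.hd P.hx hf.2.1.symm hf.2.2.symm P.hdx
      exact P.trace_trans ⟨hc, comp_rest P.hd P.hx hf.2.1.symm hf.2.2.symm P.hdx hc hcf hdK hK,
        comp_rest P.hd P.hx hf.2.1.symm hf.2.2.symm P.hdx hc hcf hxK hK⟩ hf hg hcf hfg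
  exact ⟨hg.1, fun z hz => ⟨P.conn.cls.twin_of_subset hf.1 hg.1 hsub z hz, hsub z hz⟩⟩

theorem comp_eq_kset {f : G} (hf : f ∈ trace D d x) : comp D f d = kset D f := by
  ext c
  constructor
  · intro hc
    obtain ⟨h1, h2⟩ := comp_mem P.hd P.hx hf.2.1.symm hf.2.2.symm P.hdx hc
    obtain ⟨l, hl, hcl⟩ := comp_opp P.hd P.hx hf.2.1.symm hf.2.2.symm P.hdx hc
    obtain ⟨hl1, hl2⟩ := comp_mem P.hd P.hx hf.2.1.symm hf.2.2.symm P.hdx hl
    exact ⟨h1, h2, fun h => hcl ((h.2 l hl1).2 hl2).symm⟩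
  · intro hc
    by_contra hK
    obtain ⟨hdK, hxK⟩ := base_mem P.hd P.hx hf.2.1.symm hf.2.2.symm P.hdx
    exact hc.2.2 (P.trace_twins' hf
      ⟨hc.1, comp_rest P.hd P.hx hf.2.1.symm hf.2.2.symm P.hdx hc.1 hc.2.1 hdK hK,
        comp_rest P.hd P.hx hf.2.1.symm hf.2.2.symm P.hdx hc.1 hc.2.1 hxK hK⟩ hc.2.1.symm)

end Pair

end CfsgLib.RootSz
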