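import Cfsg.Agent.Lib.RootSz.MkFrame
import Cfsg.Agent.S5048

/-!
In a class of odd transpositions with lines and connected commuting graph, a twin class and an
opposite member never generate a group with a Suzuki quotient.
-/

set_option autoImplicit false

namespace CfsgLib.RootSz

open CfsgLib.OddTrans74

universe u

variable {G : Type u} [Group G] [Finite G] {D : Set G} {d x : G}

theorem Conn.odd_connected (h : Conn D) : Cfsg.IsConnectedSet (Cfsg.OddAdj D) D := by
  intro a ha b hb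
  set K : Set G := {k | Relation.ReflTransGen (Cfsg.OddAdj D) a k} with hK
  have hKD : ∀ {k}, k ∈ K → k ∈ D := fun {k} hk => by
    rcases Relation.ReflTransGen.cases_tail hk with e | ⟨p, -, hp⟩
    exacts [e ▸ ha, hp.2.1]
  have hedge : ∀ {p q : G}, p ∈ D → q ∈ D → ¬ Commute p q → Cfsg.OddAdj D p q := fun hp hq hpq =>
    ⟨hp, hq, fun e => hpq (e ▸ Commute.refl _), h.cls.ot.odd_of_not hp hq hpq⟩
  have hstep : ∀ w ∈ D, ∀ k ∈ K, w * k * w⁻¹ ∈ K := by
    intro w hw k hk
    by_cases hwk : Commute w k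
    · rwa [conj_eq_self hwk]
    have hne := h.cls.ot.not_comm_cj (hKD hk) hw fun e => hwk e.symm
    rw [h.cls.ot.inv_eq hw]
    exact hk.tail (hedge (hKD hk) (h.cls.ot.cj_mem (h.cls.ot.mul_self w hw) (hKD hk)) hne)
  have hall : ∀ g : G, ∀ k ∈ K, g * k * g⁻¹ ∈ K := by
    intro g
    have hg : g ∈ Subgroup.closure D := h.root.1.generates ▸ Subgroup.mem_top g
    induction hg using Subgroup.closure_induction'' with
    | mem w hw => exact hstep w hw
    | inv_mem w hw => rw [h.cls.ot.inv_eq hw]; exact hstep w hw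
    | one => intro k hk; simpa using hk
    | mul u v _ _ ihu ihv =>
      intro k hk
      rw [show u * v * k * (u * v)⁻¹ = u * (v * k * v⁻¹) * u⁻¹ by group]
      exact ihu _ (ihv k hk)
  obtain ⟨g, rfl⟩ := h.cls.cls a ha b hb
  exact hall g a Relation.ReflTransGen.refl

omit [Finite G] in
theorem Conn.oddAdj (h : Conn D) (hd : d ∈ D) (hx : x ∈ D) (hdx : ¬ Commute d x) :
    Cfsg.OddAdj D d x :=
  ⟨hd, hx, fun e => hdx (e ▸ Commute.refl _), h.cls.ot.odd_of_not hd hx hdx⟩

theorem Conn.lines_nonempty (h : Conn D) (hd : d ∈ D) :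
    (D ∩ Cfsg.commutingProducts D).Nonempty := by
  obtain ⟨d', hl⟩ := h.cls.lines d hd
  exact ⟨d * d', hl.2.2.2, d, hd, d', hl.2.1, hl.2.2.1.eq, fun e => h.cls.ot.ne_one _ hl.2.2.2 e, rfl⟩

/-- Passing to the simple quotient. -/
theorem reduce (h : Conn D) (hd : d ∈ D) (hx : x ∈ D) (hdx : ¬ Commute d x) (hsz : IsSzPair D d x) :
    let π := QuotientGroup.mk' (Cfsg.twoZCore G)
    Conn (π '' D) ∧ IsSimpleGroup (G ⧸ Cfsg.twoZCore G) ∧ ¬ Commute (π d) (π x) ∧
      IsSzPair (π '' D) (π d) (π x) := by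
  intro π
  have hR := h.root.1
  have hc := h.odd_connected
  have hDD := h.lines_nonempty hd
  have hedge := h.oddAdj hd hx hdx
  have hNtop := Cfsg.Agent.S5048.twoZCore_ne_top hR hedge
  have hsimple := (Cfsg.Agent.S5048.result hR hc hDD).2
  have hot := h.cls.ot
  have hlift : ∀ a ∈ D, ∀ b ∈ D, Commute (π a) (π b) → Commute a b := by
    intro a ha b hb hab
    by_contra hne
    have hne' : a ≠ b := fun e => hne (e ▸ Commute.refl a)
    have h1 := hot.odd_of_not ha hb hne
    refine hNtop (Cfsg.Agent.S5048.normal_eq_top_of_odd hR hc hDD ha hb hne' h1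
      ((QuotientGroup.eq_one_iff (a * b)).1 (show π (a * b) = 1 from ?_)))
    refine eq_one_of_odd (h1.of_dvd_nat (orderOf_map_dvd π _)) ?_
    rw [map_mul]
    exact mul_self_of_commute (by rw [← map_mul, hot.mul_self a ha, map_one])
      (by rw [← map_mul, hot.mul_self b hb, map_one]) hab
  have hne1 : ∀ a ∈ D, π a ≠ 1 := fun a ha h1 => hNtop <| by
    rw [eq_top_iff, ← hR.generates, Subgroup.closure_le]
    intro b hb
    obtain ⟨g, rfl⟩ := h.cls.cls a ha b hb
    exact (Cfsg.twoZCore_normal G).conj_mem a ((QuotientGroup.eq_one_iff a).1 h1) g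
  have hroot : Cfsg.IsOddTranspositionSet (π '' D) := by
    refine ⟨⟨?_, ?_, ?_, ?_⟩, ?_⟩
    · rintro _ ⟨a, ha, rfl⟩
      exact orderOf_eq_prime (by rw [pow_two, ← map_mul, hot.mul_self a ha, map_one]) (hne1 a ha)
    · rw [← MonoidHom.map_closure, hR.generates,
        Subgroup.map_top_of_surjective π (QuotientGroup.mk'_surjective _)]
    · rintro _ ⟨a, ha, rfl⟩ g
      obtain ⟨g, rfl⟩ := QuotientGroup.mk'_surjective _ g
      exact ⟨_, hot.conj a ha g, by simp [π]⟩
    · rintro _ ⟨a, ha, rfl⟩ _ ⟨b, hb, rfl⟩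
      rcases hot.pair a ha b hb with e | e
      · exact Or.inl (e.map π).eq
      · exact Or.inr (Or.inl (by rw [← map_mul]; exact e.of_dvd_nat (orderOf_map_dvd π _)))
    · rintro _ ⟨a, ha, rfl⟩ _ ⟨b, hb, rfl⟩ h4
      rw [← map_mul] at h4
      have h5 : 4 ∣ orderOf (a * b) := h4 ▸ orderOf_map_dvd π (a * b)
      rcases hot.pair a ha b hb with e | e
      · have h6 : (a * b) ^ 2 = 1 := by
          rw [pow_two]; exact mul_self_of_commute (hot.mul_self a ha) (hot.mul_self b hb) e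
        exact absurd (Nat.le_of_dvd two_pos (h5.trans (orderOf_dvd_of_pow_eq_one h6))) (by norm_num)
      · exact absurd (e.of_dvd_nat h5) (by decide)
  have hconn : Conn (π '' D) := by
    refine ⟨hroot, ⟨ot_of hroot, ?_, ?_⟩, ?_⟩
    · rintro _ ⟨a, ha, rfl⟩
      obtain ⟨a', hl⟩ := h.cls.lines a ha
      exact ⟨π a', ⟨a, ha, rfl⟩, ⟨a', hl.2.1, rfl⟩, hl.2.2.1.map π, ⟨_, hl.2.2.2, map_mul π a a'⟩⟩
    · rintro _ ⟨a, ha, rfl⟩ _ ⟨b, hb, rfl⟩
      obtain ⟨g, rfl⟩ := h.cls.cls a ha b hb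
      exact ⟨π g, by simp [π]⟩
    · rintro _ ⟨a, ha, rfl⟩ _ ⟨b, hb, rfl⟩
      exact Relation.ReflTransGen.lift π
        (fun p r hpr => ⟨⟨p, hpr.1, rfl⟩, ⟨r, hpr.2.1, rfl⟩, hpr.2.2.map π⟩) _ _ (h.conn a ha b hb)
  have hdx' : ¬ Commute (π d) (π x) := fun e => hdx (hlift d hd x hx e)
  refine ⟨hconn, hsimple, hdx', ?_⟩
  -- the pair group
  have hX : (pairGrp D d x).map π = pairGrp (π '' D) (π d) (π x) := by
    rw [pairGrp_eq hd, pairGrp_eq (Set.mem_image_of_mem π hd), MonoidHom.map_closure, Set.image_union,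
      Set.image_singleton]
    congr 2
    ext w
    constructor
    · rintro ⟨t, ht, rfl⟩
      refine ⟨⟨t, ht.1, rfl⟩, ?_⟩
      rintro _ ⟨z, hz, rfl⟩
      exact ⟨fun e => ((ht.2 z hz).1 (hlift z hz t ht.1 e)).map π,
        fun e => ((ht.2 z hz).2 (hlift z hz d hd e)).map π⟩
    · rintro ⟨⟨t, ht, rfl⟩, htw⟩
      exact ⟨t, ⟨ht, fun z hz => ⟨fun e => hlift z hz d hd ((htw _ ⟨z, hz, rfl⟩).1 (e.map π)),
        fun e => hlift z hz t ht ((htw _ ⟨z, hz, rfl⟩).2 (e.map π))⟩⟩, rfl⟩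
  set X := pairGrp D d x
  have hdX : d ∈ X := by
    show d ∈ pairGrp D d x
    rw [pairGrp_eq hd]; exact Subgroup.subset_closure (Or.inl (mem_twins_self hd))
  have hxX : x ∈ X := by
    show x ∈ pairGrp D d x
    rw [pairGrp_eq hd]; exact Subgroup.subset_closure (Or.inr rfl)
  set f : ↥X →* ↥(pairGrp (π '' D) (π d) (π x)) :=
    (MulEquiv.subgroupCongr hX).toMonoidHom.comp (π.subgroupMap X) with hf
  have hfs : Function.Surjective f :=
    (MulEquiv.subgroupCongr hX).surjective.comp (π.subgroupMap_surjective X)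
  have hfv : ∀ a, (f a : G ⧸ Cfsg.twoZCore G) = π a := fun a => rfl
  have h2 : Fact (Nat.Prime 2) := ⟨Nat.prime_two⟩
  have hker : f.ker ≤ Cfsg.pCore 2 ↥X := by
    have hsimp : IsSimpleGroup (↥X ⧸ Cfsg.pCore 2 ↥X) :=
      BenderQ.IsBenderType.isSimple (Or.inr (Or.inl hsz))
    rcases hsimp.eq_bot_or_eq_top_of_normal _ ((inferInstance : f.ker.Normal).map
      (QuotientGroup.mk' (Cfsg.pCore 2 ↥X)) (QuotientGroup.mk'_surjective _)) with e | e
    · rwa [Subgroup.map_eq_bot_iff, QuotientGroup.ker_mk'] at e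
    exfalso
    -- then the image is a 2-group containing an element of odd order
    obtain ⟨k, hk, hkd⟩ : QuotientGroup.mk' (Cfsg.pCore 2 ↥X) (⟨d, hdX⟩ * ⟨x, hxX⟩) ∈
        f.ker.map (QuotientGroup.mk' (Cfsg.pCore 2 ↥X)) := e ▸ Subgroup.mem_top _
    obtain ⟨j, hj⟩ := CfsgLib.Fitting.pCore_isPGroup (G := ↥X) 2
      ⟨_, (QuotientGroup.eq.1 hkd : k⁻¹ * (⟨d, hdX⟩ * ⟨x, hxX⟩) ∈ Cfsg.pCore 2 ↥X)⟩
    have h3 := congrArg (fun a : Cfsg.pCore 2 ↥X => f (a : ↥X)) hj
    simp only [SubmonoidClass.coe_pow, map_pow, map_mul, map_inv, MonoidHom.mem_ker.1 hk, inv_one,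
      one_mul, OneMemClass.coe_one, map_one] at h3
    have h4 : (π d * π x) ^ 2 ^ j = 1 := by
      have := congrArg Subtype.val h3
      simpa [hfv] using this
    have hodd : Odd (orderOf (π d * π x)) := hconn.cls.ot.odd_of_not ⟨d, hd, rfl⟩ ⟨x, hx, rfl⟩ hdx'
    obtain ⟨i, -, hi⟩ := (Nat.dvd_prime_pow Nat.prime_two).1 (orderOf_dvd_of_pow_eq_one h4)
    rcases Nat.eq_zero_or_pos i with rfl | hi0
    · rw [pow_zero, orderOf_eq_one_iff, mul_eq_one_iff_eq_inv, hconn.cls.ot.inv_eq ⟨x, hx, rfl⟩] at hi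
      exact hdx' (hi ▸ Commute.refl _)
    · rw [hi, Nat.odd_pow_iff hi0.ne'] at hodd
      exact absurd hodd (by decide)
  -- the cores correspond
  set g := (QuotientGroup.mk' (Cfsg.pCore 2 ↥(pairGrp (π '' D) (π d) (π x)))).comp f with hg
  have hgs : Function.Surjective g := (QuotientGroup.mk'_surjective _).comp hfs
  have hgker : g.ker = Cfsg.pCore 2 ↥X := by
    refine le_antisymm (CfsgLib.Fitting.le_pCore g.normal_ker ?_) ?_
    · rw [show g.ker = (Cfsg.pCore 2 ↥(pairGrp (π '' D) (π d) (π x))).comap f from by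
        ext a; exact (QuotientGroup.eq_one_iff _)]
      exact (CfsgLib.Fitting.pCore_isPGroup 2).comap_of_ker_isPGroup f
        ((CfsgLib.Fitting.pCore_isPGroup 2).to_le hker)
    · intro a ha
      refine (QuotientGroup.eq_one_iff _).2 ?_
      exact CfsgLib.Fitting.le_pCore ((inferInstance : (Cfsg.pCore 2 ↥X).Normal).map f hfs)
        ((CfsgLib.Fitting.pCore_isPGroup (G := ↥X) 2).map f) ⟨a, ha, rfl⟩
  obtain ⟨F, i1, i2, m, hm, hF, ⟨e⟩⟩ := hsz
  exact ⟨F, i1, i2, m, hm, hF, ⟨((QuotientGroup.quotientKerEquivOfSurjective g hgs).symm.trans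
    (QuotientGroup.quotientMulEquivOfEq hgker)).trans e⟩⟩

/-- In a group with trivial 2-core and centre there is no Suzuki pair with sections at the trace. -/
theorem SzData.false_of_center (P : SzData D d x) (hZ : Subgroup.center G = ⊥) : False := by
  have h2 : Fact (Nat.Prime 2) := ⟨Nat.prime_two⟩
  have hF := P.frame
  obtain ⟨v, hv, hvx⟩ := P.exists_out
  obtain ⟨⟨f, hf, hvf⟩, -⟩ := P.out_trace hv hvx
  obtain ⟨y, hy, hfy⟩ := P.trace_opp' hf
  have hK := P.sec_kset hf
  have hTL := P.trace_type hf hy hfy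
  obtain ⟨-, hTX⟩ := P.far_type hf hy hfy
  obtain ⟨hdK, hxK⟩ := P.base_in hf
  have hle := P.pair_le_kset hf
  obtain ⟨hker, -⟩ := pair_image hK P.hd P.hdx hdK hxK hle P.sz
  set X := pairGrp D d x with hX
  set ι := (proj (kset D f)).comp (Subgroup.inclusion hle) with hι
  have hXeq : X = Subgroup.closure (twins D d ∪ {x}) := pairGrp_eq P.hd
  have htX : ∀ {t : G}, t ∈ twins D d → t ∈ X := fun ht => by
    rw [hXeq]; exact Subgroup.subset_closure (Or.inl ht)
  have hxX : x ∈ X := by rw [hXeq]; exact Subgroup.subset_closure (Or.inr rfl)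
  have htK : ∀ {t : G}, t ∈ twins D d → t ∈ kset D f := fun ht =>
    P.comp_eq_kset hf ▸ twins_subset_comp P.hd P.hx P.hdx hf ht
  have hXf : ∀ a : ↥X, Commute (a : G) f := fun a => (pairGrp_le_centralizer P.hd P.hx hf a.2).symm
  have hXtr : ∀ a : ↥X, ∀ k ∈ trace D d x, Commute (a : G) k := fun a k hk =>
    (pairGrp_le_centralizer P.hd P.hx hk a.2).symm
  have hι1 : ∀ {a : G} (ha : a ∈ kset D f) (ha' : a ∈ X), ι ⟨a, ha'⟩ = img (kset D f) ha :=
    fun _ _ => rfl
  have hconjι : ∀ (w : ↥X) {a : G} (ha : a ∈ kset D f), a ∈ X →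
      img (kset D f) (conj_kset P.conn.cls.ot (hXf w) ha) = ι w * img (kset D f) ha * (ι w)⁻¹ := by
    intro w a ha _
    simp only [hι, img, MonoidHom.comp_apply, ← map_mul, ← map_inv]
    rfl
  -- what centralises the neighbours of `d` and the pair is central
  have hcentral : ∀ z : G, (∀ c ∈ D, Commute c d → Commute z c) → Commute z x → z = 1 := by
    intro z hzC hzx
    have hCx := hF.cent_opp P.hd P.hx P.hdx (hzC d P.hd (Commute.refl d)) hzx hzC
    have hCv := hF.cent_opp P.hx hv.1 (fun e => hvx e.symm) hzx (hzC v hv.1 hv.2.1) hCx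
    have hall := hF.cent_all P.hd hv hzC hCv
    rw [← Subgroup.mem_bot, ← hZ, Subgroup.mem_center_iff]
    intro g
    exact (commute_closure (fun c hc => hall c hc)
      (P.conn.root.1.generates ▸ Subgroup.mem_top g : g ∈ Subgroup.closure D)).symm
  -- the 2-core of the pair group is trivial
  have hcore : Cfsg.pCore 2 ↥X = ⊥ := by
    have hfix : ∀ w : ↥X, w ∈ Cfsg.pCore 2 ↥X →
        (∀ t ∈ twins D d, Commute (w : G) t) ∧ Commute (w : G) x := by
      intro w hw
      have hw1 : ι w = 1 := MonoidHom.mem_ker.1 (hker.symm ▸ hw)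
      refine ⟨fun t ht => ?_, ?_⟩
      · have htk := htK ht
        have hk' := conj_kset P.conn.cls.ot (hXf w) htk
        have himg : img (kset D f) hk' = img (kset D f) htk := by
          rw [hconjι w htk (htX ht), hw1, one_mul, inv_one, mul_one]
        have hct : Commute ((w : G) * t * (w : G)⁻¹) t :=
          (hK.img_comm hk' htk).1 (by rw [himg])
        have htd : Commute t d := ((ht.2 d P.hd).2 (Commute.refl d)).symm
        have hcd := P.trans_all f hf.1 _ hk' t htk d hdK hct htd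
        have hcx : ¬ Commute ((w : G) * t * (w : G)⁻¹) x := fun e => P.hdx
          (P.trans_all f hf.1 d hdK _ hk' x hxK hcd.symm e)
        have htw := P.conn.twin_of_trace P.hd P.hx P.hdx hk'.1 hcd hcx fun k hk => by
          have h1 := hXtr w k hk
          exact (h1.mul_left (comm_of_twins hk.1 ht hk.2.1).symm).mul_left h1.inv_left
        exact commute_of_conj_eq (hK.twins_inj P.twin_mul hk' htk hk'.1
          (twins_trans (twins_symm P.hd htw) ht)
          (fun c hc => htK (twins_trans htw hc)) P.twin_mul' himg)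
      · have hk' := conj_kset P.conn.cls.ot (hXf w) hxK
        have himg : img (kset D f) hk' = img (kset D f) hxK := by
          rw [hconjι w hxK hxX, hw1, one_mul, inv_one, mul_one]
        have hcx : Commute ((w : G) * x * (w : G)⁻¹) x := (hK.img_comm hk' hxK).1 (by rw [himg])
        have hcd : ¬ Commute ((w : G) * x * (w : G)⁻¹) d := fun e => P.hdx
          (P.trans_all f hf.1 d hdK _ hk' x hxK e.symm hcx)
        have htw := P.conn.twin_of_trace P.hx P.hd (fun e => P.hdx e.symm) hk'.1 hcx hcd fun k hk => by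
          have h1 := hXtr w k ⟨hk.1, hk.2.2, hk.2.1⟩
          exact (h1.mul_left hk.2.1.symm).mul_left h1.inv_left
        have hx' := twins_symm P.hx htw
        refine commute_of_conj_eq (hK.twins_inj P.twin_mul hk' hxK hk'.1 hx' (fun c hc =>
          P.kset_twin_mem hf hk' hc) P.twin_mul' himg)
    by_contra hne
    have : Nontrivial (Cfsg.pCore 2 ↥X) := (Subgroup.nontrivial_iff_ne_bot _).2 hne
    obtain ⟨k, hk⟩ := IsPGroup.iff_card.1 (CfsgLib.Fitting.pCore_isPGroup (G := ↥X) 2)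
    have hdvd : 2 ∣ Nat.card (Cfsg.pCore 2 ↥X) := by
      rcases Nat.eq_zero_or_pos k with rfl | hk0
      · exact absurd (Finite.one_lt_card (α := Cfsg.pCore 2 ↥X)) (by rw [hk]; norm_num)
      · exact hk ▸ dvd_pow_self 2 hk0.ne'
    obtain ⟨w, hw⟩ := exists_prime_orderOf_dvd_card' 2 hdvd
    obtain ⟨hwt, hwx⟩ := hfix (w : ↥X) w.2
    have hwd := hwt d (mem_twins_self P.hd)
    have hw2 : ((w : ↥X) : G) * (w : ↥X) = 1 := by
      have h1 := CfsgLib.Involutions.mul_self_eq_one hw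
      exact congrArg Subtype.val (congrArg Subtype.val h1)
    have hfx : Fixer D d x ((w : ↥X) : G) :=
      ⟨hwd, hwt, fun k hk => hXtr _ k hk, by rw [hw2]; exact one_mem _⟩
    have h1 := hcentral _ (fun c hc hcd => hfx.commute_cent hF P.hd P.hx P.hdx hc hcd) hwx
    have h2' : w = 1 := Subtype.ext (Subtype.ext h1)
    rw [h2', orderOf_one] at hw
    omega
  -- the pair group maps isomorphically
  have hinj : Function.Injective ι := by
    rw [← MonoidHom.ker_eq_bot_iff, hker, hcore]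
  have hsurj : Function.Surjective ι := by
    refine (Nat.bijective_iff_injective_and_card ι).2 ⟨hinj, ?_⟩ |>.2
    rw [hTL.card, ← hTX.card]
    have h1 := Subgroup.card_eq_card_quotient_mul_card_subgroup (Cfsg.pCore 2 ↥X)
    have h2' : Nat.card ↥(Cfsg.pCore 2 ↥X) = 1 := by rw [hcore]; exact Subgroup.card_bot
    rw [h2', mul_one] at h1
    exact h1
  set z := img (kset D f) hdK with hz
  have hzo : orderOf z = 2 := hK.img_order hdK
  have hzd : ι ⟨d, htX (mem_twins_self P.hd)⟩ = z := rfl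
  have hback : ∀ {a : ↥X} {c : G} (hc : c ∈ X), Commute (ι a) (ι ⟨c, hc⟩) → Commute (a : G) c := by
    intro a c hc hac
    have : Commute a ⟨c, hc⟩ := hinj (by rw [map_mul, map_mul]; exact hac)
    exact this.map X.subtype
  -- the centraliser of `d` in the pair group
  have hfixer : ∀ a : ↥X, Commute (a : G) d → ∀ c ∈ D, Commute c d → Commute (a : G) c := by
    intro a had
    have hza : Commute (ι a) z := hzd ▸ (show Commute a ⟨d, _⟩ from Subtype.ext had).map ι
    have htw : ∀ t ∈ twins D d, Commute (a : G) t := fun t ht => hback (htX ht)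
      (hTL.cent_eq z _ hzo ⟨hK.img_order (htK ht),
        (hK.img_comm (htK ht) hdK).2 ((ht.2 d P.hd).2 (Commute.refl d)).symm⟩ _ hza)
    have hfx : Fixer D d x (a : G) := by
      refine ⟨had, htw, fun k hk => hXtr a k hk, ?_⟩
      rcases hTL.cent_sq z (ι a) hzo hza with h1 | h1
      · rw [← map_mul, map_eq_one_iff ι hinj] at h1
        rw [show (a : G) * a = 1 from congrArg Subtype.val h1]
        exact one_mem _
      · obtain ⟨b, hb, he⟩ := hK.onto _ h1
        have hbd : Commute (b : G) d := (hK.img_comm hb hdK).1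
          (show Commute (img (kset D f) hb) z from by
            rw [show img (kset D f) hb = ι a * ι a from he]; exact hza.mul_left hza)
        obtain ⟨t, ht, htk, hte⟩ := P.surj_img hf d hdK (b : G) hb hbd.symm
        have : a * a = ⟨t, htX ht⟩ := hinj (by
          rw [map_mul, ← he, hι1 htk (htX ht), hte]; rfl)
        rw [show (a : G) * a = t from congrArg Subtype.val this]
        exact Subgroup.subset_closure ht
    exact fun c hc hcd => hfx.commute_cent hF P.hd P.hx P.hdx hc hcd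
  -- an element moving `d` to `v`
  have o2 : ∀ {m : G}, m ∈ D → orderOf m = 2 := fun hm => P.conn.root.1.orderOf_eq _ hm
  have hvK : v ∈ kset D f := P.comp_eq_kset hf ▸ P.in_comp hf hv.1 hvf hvx
  obtain ⟨t1, ht1, ht1d⟩ := CfsgLib.Involutions.conj_of_odd_order (o2 P.hd) (o2 P.hx)
    (P.conn.cls.ot.odd_of_not P.hd P.hx P.hdx)
  obtain ⟨t2, ht2, ht2x⟩ := CfsgLib.Involutions.conj_of_odd_order (o2 P.hx) (o2 hv.1)
    (P.conn.cls.ot.odd_of_not P.hx hv.1 fun e => hvx e.symm)
  set t := t2 * t1 with ht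
  have htmem : t ∈ Subgroup.closure (kset D f) := mul_mem
    ((Subgroup.closure_mono (Set.insert_subset hxK (Set.singleton_subset_iff.2 hvK))) ht2)
    ((Subgroup.closure_mono (Set.insert_subset hdK (Set.singleton_subset_iff.2 hxK))) ht1)
  have htd : t * d * t⁻¹ = v := by rw [ht, ← ht2x, ← ht1d]; group
  obtain ⟨x0, hx0⟩ := hsurj (proj (kset D f) ⟨t, htmem⟩)
  have hx0d : ι x0 * z * (ι x0)⁻¹ = img (kset D f) hvK := by
    rw [hx0, hz, img, ← map_mul, ← map_inv, ← map_mul]
    exact congrArg (proj (kset D f)) (Subtype.ext htd)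
  -- the centralisers of the two images agree
  have hvz : img (kset D f) hvK ∈ clique z :=
    ⟨hK.img_order hvK, (hK.img_comm hvK hdK).2 hv.2.1⟩
  have hzv : z ∈ clique (img (kset D f) hvK) := ⟨hzo, hvz.2.symm⟩
  -- two elements centralising `z` commute
  obtain ⟨a, b, ha, hb, hab⟩ := hTL.cent_nonab z hzo
  obtain ⟨a', rfl⟩ := hsurj a
  obtain ⟨b', rfl⟩ := hsurj b
  refine hab ?_
  set s2 := x0⁻¹ * b' * x0 with hs2
  have hs2z : Commute (ι s2) z := by
    have h1 := (hTL.cent_eq z _ hzo hvz _ hb).map (MulAut.conj (ι x0)⁻¹).toMonoidHom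
    simp only [MulEquiv.toMonoidHom_eq_coe, MonoidHom.coe_coe, MulAut.conj_apply] at h1
    rw [← hx0d, show (ι x0)⁻¹ * (ι x0 * z * (ι x0)⁻¹) * (ι x0)⁻¹⁻¹ = z by group] at h1
    rw [hs2, map_mul, map_mul, map_inv]
    simpa only [inv_inv] using h1
  have had : Commute (a' : G) d := hback _ (hzd ▸ ha)
  have hsd : Commute (s2 : G) d := hback _ (hzd ▸ hs2z)
  set r := t * (s2 : G) * t⁻¹ with hr
  have hrv : ∀ c ∈ D, Commute c v → Commute r c := by
    intro c hc hcv
    have h1 : Commute (t⁻¹ * c * t⁻¹⁻¹) d := by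
      have := (commute_conj_iff t⁻¹ c v).2 hcv
      rwa [show t⁻¹ * v * t⁻¹⁻¹ = d by rw [← htd]; group] at this
    have h2' := (commute_conj_iff t _ _).2 (hfixer s2 hsd _ (P.conn.cls.ot.conj c hc t⁻¹) h1)
    rwa [show t * (t⁻¹ * c * t⁻¹⁻¹) * t⁻¹ = c by group] at h2'
  have hkeep : ∀ (g e : G), Commute g e → ∀ c ∈ D, Commute c e →
      g * c * g⁻¹ ∈ D ∧ Commute (g * c * g⁻¹) e := fun g e hge c hc hce => by
    refine ⟨P.conn.cls.ot.conj c hc g, ?_⟩
    have := (commute_conj_iff g c e).2 hce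
    rwa [conj_eq_self hge] at this
  set z0 := (a' : G) * r * (a' : G)⁻¹ * r⁻¹ with hz0
  have hz0d : ∀ c ∈ D, Commute c d → Commute z0 c := by
    intro c hc hcd
    have hrd : Commute r d := hrv d P.hd hv.2.1.symm
    obtain ⟨hc1, hc1d⟩ := hkeep r⁻¹ d hrd.inv_left c hc hcd
    refine commute_of_conj_eq ?_
    calc z0 * c * z0⁻¹ = (a' : G) * (r * ((a' : G)⁻¹ * (r⁻¹ * c * r⁻¹⁻¹) * (a' : G)⁻¹⁻¹) * r⁻¹) *
          (a' : G)⁻¹ := by rw [hz0]; group
      _ = (a' : G) * c * (a' : G)⁻¹ := by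
        rw [conj_eq_self (hfixer a' had _ hc1 hc1d).inv_left,
          show r * (r⁻¹ * c * r⁻¹⁻¹) * r⁻¹ = c by group]
      _ = c := conj_eq_self (hfixer a' had c hc hcd)
  have hz0v : ∀ c ∈ D, Commute c v → Commute z0 c := by
    intro c hc hcv
    have hav : Commute (a' : G) v := hfixer a' had v hv.1 hv.2.1
    obtain ⟨hc1, hc1v⟩ := hkeep (a' : G)⁻¹ v hav.inv_left c hc hcv
    refine commute_of_conj_eq ?_
    calc z0 * c * z0⁻¹ = (a' : G) * (r * ((a' : G)⁻¹ * (r⁻¹ * c * r⁻¹⁻¹) * (a' : G)⁻¹⁻¹) * r⁻¹) *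
          (a' : G)⁻¹ := by rw [hz0]; group
      _ = (a' : G) * ((a' : G)⁻¹ * c * (a' : G)⁻¹⁻¹) * (a' : G)⁻¹ := by
        rw [conj_eq_self (hrv c hc hcv).inv_left, conj_eq_self (hrv _ hc1 hc1v)]
      _ = c := by group
  have hall := hF.cent_all P.hd hv hz0d hz0v
  have hone : z0 = 1 := by
    rw [← Subgroup.mem_bot, ← hZ, Subgroup.mem_center_iff]
    intro g
    exact (commute_closure (fun c hc => hall c hc)
      (P.conn.root.1.generates ▸ Subgroup.mem_top g : g ∈ Subgroup.closure D)).symm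
  have hcomm : Commute (a' : G) r := by
    show (a' : G) * r = r * a'
    calc (a' : G) * r = z0 * (r * a') := by rw [hz0]; group
      _ = r * a' := by rw [hone, one_mul]
  have hrK : r ∈ Subgroup.closure (kset D f) := mul_mem (mul_mem htmem (hle s2.2)) (inv_mem htmem)
  have hsub : Commute (⟨(a' : G), hle a'.2⟩ : ↥(Subgroup.closure (kset D f))) ⟨r, hrK⟩ :=
    Subtype.ext hcomm
  have := hsub.map (proj (kset D f))
  have e : proj (kset D f) ⟨r, hrK⟩ = ι b' := by
    calc proj (kset D f) ⟨r, hrK⟩ =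
        proj (kset D f) ⟨t, htmem⟩ * ι s2 * (proj (kset D f) ⟨t, htmem⟩)⁻¹ := by
          simp only [hι, MonoidHom.comp_apply, ← map_mul, ← map_inv]; rfl
      _ = ι b' := by rw [← hx0, hs2, map_mul, map_mul, map_inv]; group
  rw [e] at this
  exact this

theorem no_sz : ∀ (n : ℕ) (G : Type u) [Group G] [Finite G] (D : Set G), Nat.card G ≤ n → Conn D →
    ∀ d x : G, d ∈ D → x ∈ D → ¬ Commute d x → ¬ IsSzPair D d x := by
  intro n
  induction n with
  | zero =>
    intro G _ _ D hn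
    exact absurd (Nat.card_pos (α := G)) (by omega)
  | succ n ih =>
    intro G _ _ D hn h d x hd hx hdx hsz
    obtain ⟨hc, hsimple, hdx', hsz'⟩ := reduce h hd hx hdx hsz
    set π := QuotientGroup.mk' (Cfsg.twoZCore G) with hπ
    have hle : Nat.card (G ⧸ Cfsg.twoZCore G) ≤ Nat.card G :=
      Nat.card_le_card_of_surjective _ (QuotientGroup.mk'_surjective (Cfsg.twoZCore G))
    have hd' : π d ∈ π '' D := ⟨d, hd, rfl⟩
    have hx' : π x ∈ π '' D := ⟨x, hx, rfl⟩
    have hne : ∃ a b : G ⧸ Cfsg.twoZCore G, a * b ≠ b * a := ⟨π d, π x, fun e => hdx' e⟩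
    have hcore : Cfsg.pCore 2 (G ⧸ Cfsg.twoZCore G) = ⊥ := by
      refine (hsimple.eq_bot_or_eq_top_of_normal _ inferInstance).resolve_right fun e => ?_
      have hp : IsPGroup 2 (⊤ : Subgroup (G ⧸ Cfsg.twoZCore G)) := e ▸ CfsgLib.Fitting.pCore_isPGroup 2
      have hodd : Odd (orderOf (π d * π x)) := hc.cls.ot.odd_of_not hd' hx' hdx'
      obtain ⟨k, hk⟩ := IsPGroup.iff_orderOf.1 hp ⟨π d * π x, Subgroup.mem_top _⟩
      rw [Subgroup.orderOf_mk] at hk
      rcases Nat.eq_zero_or_pos k with rfl | hk0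
      · rw [pow_zero, orderOf_eq_one_iff, mul_eq_one_iff_eq_inv, hc.cls.ot.inv_eq hx'] at hk
        exact hdx' (hk ▸ Commute.refl _)
      · rw [hk, Nat.odd_pow_iff hk0.ne'] at hodd
        exact absurd hodd (by decide)
    have hcen : Subgroup.center (G ⧸ Cfsg.twoZCore G) = ⊥ := by
      refine (hsimple.eq_bot_or_eq_top_of_normal _ inferInstance).resolve_right fun e => ?_
      obtain ⟨a, b, hab⟩ := hne
      exact hab (Subgroup.mem_center_iff.1 (e ▸ Subgroup.mem_top b) a)
    have P : SzData (π '' D) (π d) (π x) :=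
      { conn := hc, hd := hd', hx := hx', hdx := hdx', core := hcore, sz := hsz'
        sec := fun f hf => hc.sec_of_sz hd' hx' hdx' hsz' hf fun H _ _ E hlt hE =>
          ih H E (by omega) hE }
    exact P.false_of_center hcen

/-- No Suzuki pair. -/
theorem Conn.not_szPair (h : Conn D) (hd : d ∈ D) (hx : x ∈ D) (hdx : ¬ Commute d x) :
    ¬ IsSzPair D d x :=
  no_sz (Nat.card G) G D le_rfl h d x hd hx hdx

end CfsgLib.RootSz
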