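import Cfsg.Agent.Lib.OddTrans74.Closed

/-!
A class of odd transpositions whose twin classes form, with the commuting relation, a generalised
quadrangle with, around each member, a congruence modulo a subgroup that identifies the lines through
the member with the points of a rank one group (`Frame`), and its elementary consequences.
-/

set_option autoImplicit false

namespace CfsgLib.RootSz

open CfsgLib.OddTrans74

universe u

variable {G : Type u} [Group G]

/-- The members commuting with `a` that are not twins of it. -/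
def kset (D : Set G) (a : G) : Set G := {c | c ∈ D ∧ Commute c a ∧ c ∉ twins D a}

/-- The quadrangle with its congruences. -/
structure Frame (D : Set G) (N : G → Subgroup G) (q : ℕ) : Prop where
  ot : OT D
  common : ∀ d ∈ D, ∀ x ∈ D, ∀ f ∈ D, Commute x f →
    ∃ e ∈ D, Commute e d ∧ Commute e x ∧ Commute e f
  twin_mul : ∀ a ∈ D, ∀ t ∈ twins D a, a ≠ t → a * t ∈ D
  twin_card : ∀ a ∈ D, (twins D a).ncard + 1 = q
  trans : ∀ a ∈ D, ∀ b ∈ kset D a, ∀ c ∈ kset D a, ∀ e ∈ kset D a,
    Commute b c → Commute c e → Commute b e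
  N_conj : ∀ a ∈ D, ∀ g : G, Commute g a → ∀ n ∈ N a, g * n * g⁻¹ ∈ N a
  N_twin : ∀ a ∈ D, ∀ t ∈ twins D a, t ∈ N a
  N_not : ∀ a ∈ D, ∀ c ∈ kset D a, c ∉ N a
  lift : ∀ a ∈ D, ∀ b ∈ kset D a, ∀ c ∈ kset D a, b * c * (b * c) ∈ N a → Commute b c
  surj : ∀ a ∈ D, ∀ b ∈ kset D a, ∀ c ∈ kset D a, Commute b c → ∃ b' ∈ twins D b, c * b' ∈ N a
  gen : ∀ a ∈ D, ∀ b ∈ kset D a, ∀ c ∈ kset D a, ∀ z ∈ kset D a, ¬ Commute b c →
    ∃ g ∈ Subgroup.closure (twins D b ∪ {c}), Commute (g * b * g⁻¹) z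
  many : ∀ a ∈ D, ∃ S : Finset G, q + 1 < S.card ∧ (∀ s ∈ S, s ∈ kset D a) ∧
    ∀ s ∈ S, ∀ t ∈ S, s ≠ t → ¬ Commute s t

/-- The members commuting with both of `d` and `x`. -/
def trace (D : Set G) (d x : G) : Set G := {f | f ∈ D ∧ Commute f d ∧ Commute f x}

variable {D : Set G}

theorem mem_twins_self {a : G} (ha : a ∈ D) : a ∈ twins D a := ⟨ha, fun _ _ => Iff.rfl⟩

theorem twins_symm {a t : G} (ha : a ∈ D) (ht : t ∈ twins D a) : a ∈ twins D t :=
  ⟨ha, fun z hz => (ht.2 z hz).symm⟩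

theorem twins_trans {a b c : G} (hb : b ∈ twins D a) (hc : c ∈ twins D b) : c ∈ twins D a :=
  ⟨hc.1, fun z hz => (hc.2 z hz).trans (hb.2 z hz)⟩

theorem twins_comm {a s t : G} (ha : a ∈ D) (hs : s ∈ twins D a) (ht : t ∈ twins D a) :
    Commute s t := by
  have h1 : Commute a s := (hs.2 a ha).2 (Commute.refl a)
  exact (ht.2 s hs.1).2 h1.symm

theorem comm_of_twins {a t z : G} (hz : z ∈ D) (ht : t ∈ twins D a) (h : Commute z a) :
    Commute z t := (ht.2 z hz).2 h

theorem conj_eq_self {g x : G} (h : Commute g x) : g * x * g⁻¹ = x := by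
  rw [h.eq, mul_inv_cancel_right]

theorem commute_of_conj_eq {g x : G} (h : g * x * g⁻¹ = x) : Commute g x :=
  mul_inv_eq_iff_eq_mul.1 h

theorem conj_kset (hD : OT D) {a c g : G} (hga : Commute g a) (hc : c ∈ kset D a) :
    g * c * g⁻¹ ∈ kset D a := by
  refine ⟨hD.conj c hc.1 g, ?_, fun h => hc.2.2 ?_⟩
  · have := (commute_conj_iff g c a).2 hc.2.1
    rwa [conj_eq_self hga] at this
  · have := conj_mem_twins hD h g⁻¹
    rwa [conj_eq_self hga.inv_left, show g⁻¹ * (g * c * g⁻¹) * g⁻¹⁻¹ = c by group] at this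

theorem mem_kset_of {a c z : G} (hz : z ∈ D) (hc : c ∈ D) (hca : Commute c a) (hzc : Commute z c)
    (hza : ¬ Commute z a) : c ∈ kset D a :=
  ⟨hc, hca, fun h => hza ((h.2 z hz).1 hzc)⟩

namespace Frame

variable {N : G → Subgroup G} {q : ℕ} (h : Frame D N q)
include h

theorem mul_self {a : G} (ha : a ∈ D) : a * a = 1 := h.ot.mul_self a ha

theorem inv_eq {a : G} (ha : a ∈ D) : a⁻¹ = a := h.ot.inv_eq ha

theorem prod_twin {b t : G} (hb : b ∈ D) (ht : t ∈ twins D b) (hne : b ≠ t) :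
    b * t ∈ twins D b := by
  have hc : Commute b t := twins_comm hb (mem_twins_self hb) ht
  exact ⟨h.twin_mul b hb t ht hne, fun z hz => ⟨fun e => (h.ot.f1 hb ht.1 hz hc hne e).1,
    fun e => e.mul_right (comm_of_twins hz ht e)⟩⟩

theorem kset_twin {a b t : G} (ha : a ∈ D) (hb : b ∈ kset D a) (ht : t ∈ twins D b) :
    t ∈ kset D a :=
  ⟨ht.1, (comm_of_twins ha ht hb.2.1.symm).symm, fun e =>
    hb.2.2 (twins_trans e (twins_symm hb.1 ht))⟩

/-- Congruent twins are equal. -/
theorem cong_eq {a b t : G} (ha : a ∈ D) (hb : b ∈ kset D a) (ht : t ∈ twins D b)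
    (hN : b * t ∈ N a) : t = b := by
  by_contra hne
  exact h.N_not a ha _ (h.kset_twin ha hb (h.prod_twin hb.1 ht fun e => hne e.symm)) hN

theorem cong_symm {a b c : G} (hb : b ∈ D) (hc : c ∈ D) (hN : b * c ∈ N a) : c * b ∈ N a := by
  have := inv_mem hN
  rwa [mul_inv_rev, h.inv_eq hb, h.inv_eq hc] at this

theorem cong_trans {a b c e : G} (hc : c ∈ D) (h1 : b * c ∈ N a) (h2 : c * e ∈ N a) :
    b * e ∈ N a := by
  have := mul_mem h1 h2
  rwa [mul_assoc, ← mul_assoc c, h.mul_self hc, one_mul] at this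

theorem cong_comm {a b c : G} (ha : a ∈ D) (hb : b ∈ kset D a) (hc : c ∈ kset D a)
    (hN : b * c ∈ N a) : Commute b c := h.lift a ha b hb c hc (mul_mem hN hN)

section trace

variable {d x : G} (hd : d ∈ D) (hx : x ∈ D) (hdx : ¬ Commute d x)

omit h in
include hx hdx in
theorem trace_kset {f : G} (hf : f ∈ trace D d x) : f ∈ kset D d :=
  mem_kset_of hx hf.1 hf.2.1 hf.2.2.symm fun e => hdx e.symm

omit h in
include hd hx hdx in
theorem base_kset {f : G} (hf : f ∈ trace D d x) : d ∈ kset D f ∧ x ∈ kset D f :=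
  ⟨⟨hd, hf.2.1.symm, fun e => hdx ((e.2 x hx).2 hf.2.2.symm).symm⟩,
    ⟨hx, hf.2.2.symm, fun e => hdx ((e.2 d hd).2 hf.2.1.symm)⟩⟩

include hd hx hdx in
/-- Commuting members of the trace are twins. -/
theorem trace_twins {f g : G} (hf : f ∈ trace D d x) (hg : g ∈ trace D d x) (hfg : Commute f g) :
    g ∈ twins D f := by
  by_contra hne
  obtain ⟨hdf, hxf⟩ := base_kset hd hx hdx hf
  exact hdx (h.trans f hf.1 d hdf g ⟨hg.1, hfg.symm, hne⟩ x hxf hg.2.1.symm hg.2.2)

omit h in
include hd hx in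
theorem trace_twin {f g : G} (hf : f ∈ trace D d x) (hg : g ∈ twins D f) : g ∈ trace D d x :=
  ⟨hg.1, (comm_of_twins hd hg hf.2.1.symm).symm, (comm_of_twins hx hg hf.2.2.symm).symm⟩

include hd hx hdx in
theorem proj {c : G} (hc : c ∈ kset D d) : ∃ e ∈ trace D d x, Commute c e := by
  obtain ⟨e, he, hex, hed, hec⟩ := h.common x hx d hd c hc.1 hc.2.1.symm
  exact ⟨e, ⟨he, hed, hex⟩, hec.symm⟩

include hd hx hdx in
/-- The trace contains many pairwise non-commuting members. -/
theorem trace_many : ∃ T : Finset G, q + 1 < T.card ∧ (∀ t ∈ T, t ∈ trace D d x) ∧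
    ∀ s ∈ T, ∀ t ∈ T, s ≠ t → ¬ Commute s t := by
  classical
  obtain ⟨S, hS, hSk, hSp⟩ := h.many d hd
  choose! e he hce using fun s (hs : s ∈ S) => h.proj hd hx hdx (hSk s hs)
  have hk : ∀ s ∈ S, e s ∈ kset D d := fun s hs => trace_kset hx hdx (he s hs)
  have hsep : ∀ s ∈ S, ∀ t ∈ S, Commute (e s) (e t) → s = t := by
    intro s hs t ht hst
    by_contra hne
    refine hSp s hs t ht hne ?_
    have h1 := h.trans d hd s (hSk s hs) (e s) (hk s hs) (e t) (hk t ht) (hce s hs) hst
    exact h.trans d hd s (hSk s hs) (e t) (hk t ht) t (hSk t ht) h1 (hce t ht).symm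
  refine ⟨S.image e, ?_, ?_, ?_⟩
  · rwa [Finset.card_image_of_injOn fun s hs t ht hst =>
      hsep s hs t ht (show Commute (e s) (e t) by rw [show e s = e t from hst])]
  · simp only [Finset.forall_mem_image]; exact he
  · simp only [Finset.forall_mem_image]
    exact fun s hs t ht hne hc => hne (congrArg e (hsep s hs t ht hc))

include hd hx hdx in
theorem trace_opp {f : G} (hf : f ∈ trace D d x) : ∃ y ∈ trace D d x, ¬ Commute f y := by
  obtain ⟨T, hT, hTt, hTp⟩ := h.trace_many hd hx hdx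
  obtain ⟨s, hs, t, ht, hne⟩ := Finset.one_lt_card.1 (show 1 < T.card by omega)
  by_contra hcon
  push Not at hcon
  refine hTp s hs t ht hne ?_
  have hsf := hcon s (hTt s hs)
  have htf := hcon t (hTt t ht)
  exact h.trans d hd s (trace_kset hx hdx (hTt s hs)) f (trace_kset hx hdx hf) t
    (trace_kset hx hdx (hTt t ht)) hsf.symm htf

end trace

section central

/-- What centralises a member and an opposite member centralises, with the neighbours of the first,
those of the second. -/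
theorem cent_opp {z a b : G} (ha : a ∈ D) (hb : b ∈ D) (hab : ¬ Commute a b) (hza : Commute z a)
    (hzb : Commute z b) (hC : ∀ c ∈ D, Commute c a → Commute z c) :
    ∀ c ∈ D, Commute c b → Commute z c := by
  have o2 : ∀ {m : G}, m ∈ D → orderOf m = 2 := fun hm =>
    orderOf_eq_prime (by rw [pow_two]; exact h.mul_self hm) (h.ot.ne_one _ hm)
  obtain ⟨k, hk, hkab⟩ := CfsgLib.Involutions.conj_of_odd_order (o2 ha) (o2 hb)
    (h.ot.odd_of_not ha hb hab)
  have hzk : Commute z k := by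
    have hle : Subgroup.closure ({a, b} : Set G) ≤ Subgroup.centralizer ({z} : Set G) := by
      rw [Subgroup.closure_le]
      rintro m (rfl | rfl)
      · exact Subgroup.mem_centralizer_singleton_iff.2 hza.symm.eq
      · exact Subgroup.mem_centralizer_singleton_iff.2 hzb.symm.eq
    exact (Subgroup.mem_centralizer_singleton_iff.1 (hle hk) : Commute k z).symm
  intro c hc hcb
  have h1 : Commute (k⁻¹ * c * k⁻¹⁻¹) a := by
    have := (commute_conj_iff k⁻¹ c b).2 hcb
    rwa [show k⁻¹ * b * k⁻¹⁻¹ = a by rw [← hkab]; group] at this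
  have h2 := (commute_conj_iff k z _).2 (hC _ (h.ot.conj c hc k⁻¹) h1)
  rwa [conj_eq_self hzk.symm, show k * (k⁻¹ * c * k⁻¹⁻¹) * k⁻¹ = c by group] at h2

/-- What centralises the neighbours of two commuting members that are not twins centralises all. -/
theorem cent_all {z a g : G} (ha : a ∈ D) (hg : g ∈ kset D a)
    (hza : ∀ c ∈ D, Commute c a → Commute z c) (hzg : ∀ c ∈ D, Commute c g → Commute z c) :
    ∀ y ∈ D, Commute z y := by
  have opp : ∀ c ∈ kset D a, ¬ Commute c g → ∀ b ∈ D, Commute b c → Commute z b := fun c hc hcg =>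
    h.cent_opp hg.1 hc.1 (fun e => hcg e.symm) (hzg g hg.1 (Commute.refl g))
      (hza c hc.1 hc.2.1) hzg
  have all : ∀ c ∈ kset D a, ∀ b ∈ D, Commute b c → Commute z b := by
    intro c hc
    by_cases hcg : Commute c g
    · obtain ⟨S, hS, hSk, hSp⟩ := h.many a ha
      obtain ⟨s, hs, t, ht, hne⟩ := Finset.one_lt_card.1 (show 1 < S.card by omega)
      obtain ⟨y, hy, hyg⟩ : ∃ y ∈ kset D a, ¬ Commute y g := by
        by_contra hcon
        push Not at hcon
        exact hSp s hs t ht hne (h.trans a ha s (hSk s hs) g hg t (hSk t ht)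
          (hcon s (hSk s hs)) (hcon t (hSk t ht)).symm)
      exact h.cent_opp hy.1 hc.1 (fun e => hyg (h.trans a ha y hy c hc g hg e hcg))
        (hza y hy.1 hy.2.1) (hza c hc.1 hc.2.1) (opp y hy hyg)
    · exact opp c hc hcg
  intro y hy
  by_cases hya : Commute y a
  · exact hza y hy hya
  obtain ⟨e, he, hey, hea, -⟩ := h.common y hy a ha a ha (Commute.refl a)
  exact all e (mem_kset_of hy he hea hey.symm hya) y hy hey.symm

end central

end Frame

end CfsgLib.RootSz
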