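import Cfsg.Agent.Lib.RootSz.Exclude
import Cfsg.Agent.Lib.PCore.Basic
import Mathlib.GroupTheory.Transfer

/-!
The group of a twin class and an opposite member is `L₂(q)`, with `q` the order of the group
generated by the twin class.
-/

set_option autoImplicit false

namespace CfsgLib.RootSz

open CfsgLib.OddTrans74

universe u

section general

variable {G : Type u} [Group G]

/-- Two involutions with product of odd order are conjugate. -/
theorem isConj_of_odd {a b : G} (ha : a * a = 1) (hb : b * b = 1) (h : Odd (orderOf (a * b))) :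
    IsConj a b := by
  obtain ⟨k, hk⟩ := h
  have hs : SemiconjBy a (a * b)⁻¹ (a * b) := by
    show a * (a * b)⁻¹ = a * b * a
    rw [mul_inv_rev, OddTrans74.inv_eq ha, OddTrans74.inv_eq hb, mul_assoc]
  have h1 := (hs.pow_right k).eq
  refine isConj_iff.2 ⟨(a * b) ^ k, ?_⟩
  have h2 : (a * b) ^ (k + k) = (a * b)⁻¹ := by
    refine eq_inv_of_mul_eq_one_left ?_
    rw [← pow_succ, show k + k + 1 = 2 * k + 1 by omega, ← hk, pow_orderOf_eq_one]
  rw [mul_assoc, ← inv_pow, h1, ← mul_assoc, ← pow_add, h2, mul_inv_rev, OddTrans74.inv_eq hb,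
    OddTrans74.inv_eq ha, mul_assoc, ha, mul_one]

variable {D : Set G} {X : Subgroup G}

/-- Members with commuting images modulo the 2-core commute. -/
theorem lift_img [Finite G] (hD : OT D) {a b : ↥X} (ha : (a : G) ∈ D) (hb : (b : G) ∈ D)
    (hc : Commute (QuotientGroup.mk' (Cfsg.pCore 2 ↥X) a) (QuotientGroup.mk' (Cfsg.pCore 2 ↥X) b)) :
    Commute (a : G) b := by
  have : Fact (Nat.Prime 2) := ⟨Nat.prime_two⟩
  by_contra hne
  have hodd : Odd (orderOf (a * b)) := by
    rw [← Subgroup.orderOf_coe]; exact hD.odd_of_not ha hb hne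
  have haa : a * a = 1 := Subtype.ext (hD.mul_self _ ha)
  have hbb : b * b = 1 := Subtype.ext (hD.mul_self _ hb)
  set π := QuotientGroup.mk' (Cfsg.pCore 2 ↥X)
  have hsq : π (a * b * (a * b)) = 1 := by
    rw [map_mul, map_mul]
    exact mul_self_of_commute (by rw [← map_mul, haa, map_one]) (by rw [← map_mul, hbb, map_one]) hc
  obtain ⟨k, hk⟩ := CfsgLib.Fitting.pCore_isPGroup (G := ↥X) 2
    ⟨_, (QuotientGroup.eq_one_iff _).1 hsq⟩
  have hk' : (a * b * (a * b)) ^ 2 ^ k = 1 := congrArg Subtype.val hk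
  have hodd2 : Odd (orderOf (a * b * (a * b))) := hodd.of_dvd_nat (by
    rw [← pow_two]; exact orderOf_pow_dvd 2)
  have h1 : a * b * (a * b) = 1 := by
    rw [← orderOf_eq_one_iff]
    obtain ⟨i, -, hi⟩ := (Nat.dvd_prime_pow Nat.prime_two).1 (orderOf_dvd_of_pow_eq_one hk')
    rcases Nat.eq_zero_or_pos i with rfl | hi0
    · simpa using hi
    · rw [hi, Nat.odd_pow_iff hi0.ne'] at hodd2
      exact absurd hodd2 (by decide)
  have h2 := eq_one_of_odd hodd h1
  have h3 : b = a := by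
    calc b = a * a * b := by rw [haa, one_mul]
      _ = a := by rw [mul_assoc, h2, mul_one]
  exact hne (h3 ▸ Commute.refl _)

/-- A member with an opposite member in the subgroup is outside the 2-core. -/
theorem not_mem_core [Finite G] (hD : OT D) {a b : ↥X} (ha : (a : G) ∈ D) (hb : (b : G) ∈ D)
    (hne : ¬ Commute (a : G) b) : a ∉ Cfsg.pCore 2 ↥X := fun hm => by
  refine hne (lift_img hD ha hb ?_)
  rw [show QuotientGroup.mk' (Cfsg.pCore 2 ↥X) a = 1 from (QuotientGroup.eq_one_iff _).2 hm]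
  exact Commute.one_left _

end general

variable {G : Type u} [Group G] [Finite G] {D : Set G} {d x : G}

theorem Conn.twins_closed (h : Conn D) (hO : Cfsg.pCore 2 G = ⊥) {a : G} (ha : a ∈ D) :
    (Subgroup.closure (twins D a) : Set G) = twins D a ∪ {1} :=
  OddTrans74.closure_twins h.cls h.root.1.generates h.conn hO ha

theorem Conn.mul_twin (h : Conn D) (hO : Cfsg.pCore 2 G = ⊥) {a b : G} (ha : a ∈ D)
    (hb : b ∈ twins D a) (hne : b ≠ a) : b * a ∈ twins D a := by
  have hm : b * a ∈ (Subgroup.closure (twins D a) : Set G) :=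
    mul_mem (Subgroup.subset_closure hb) (Subgroup.subset_closure (mem_twins_self ha))
  rw [h.twins_closed hO ha] at hm
  refine hm.resolve_right fun e => hne ?_
  rw [eq_inv_of_mul_eq_one_left (Set.mem_singleton_iff.1 e), h.cls.ot.inv_eq ha]

section pair

variable (h : Conn D) (hd : d ∈ D) (hx : x ∈ D) (hdx : ¬ Commute d x)
include h hd hx hdx

omit [Finite G] h hx hdx in
theorem twin_mem_pair {t : G} (ht : t ∈ twins D d) : t ∈ pairGrp D d x := by
  rw [pairGrp_eq hd]; exact Subgroup.subset_closure (Or.inl ht)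

omit [Finite G] h hd hx hdx in
theorem right_mem_pair : x ∈ pairGrp D d x := Subgroup.subset_closure (Or.inr rfl)

omit [Finite G] h hd in
theorem twin_opp {t : G} (ht : t ∈ twins D d) : ¬ Commute t x := fun e =>
  hdx ((ht.2 x hx).1 e.symm).symm

/-- A conjugate of `d` in the pair group commuting with `d` is a twin of `d`. -/
theorem conj_twin {g : G} (hg : g ∈ pairGrp D d x) (hc : Commute (g * d * g⁻¹) d) :
    g * d * g⁻¹ ∈ twins D d := by
  have hcD := h.cls.ot.conj d hd g
  refine h.twin_of_trace hd hx hdx hcD hc (fun e => ?_) fun f hf => ?_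
  · have h1 : Commute (g * d * g⁻¹) g :=
      pairGrp_le_centralizer hd hx ⟨hcD, hc, e⟩ hg
    have h2 : g⁻¹ * (g * d * g⁻¹) * g⁻¹⁻¹ = g * d * g⁻¹ := conj_eq_self h1.symm.inv_left
    rw [show g⁻¹ * (g * d * g⁻¹) * g⁻¹⁻¹ = d by group] at h2
    rw [← h2] at e
    exact hdx e
  · have h1 : Commute f g := pairGrp_le_centralizer hd hx hf hg
    exact (((h1.mul_right hf.2.1).mul_right h1.inv_right)).symm

variable (hO : Cfsg.pCore 2 G = ⊥)
include hO

/-- The 2-core of the pair group fixes the twins. -/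
theorem core_fix_twin {a : G} (ha : a ∈ twins D d) {w : ↥(pairGrp D d x)}
    (hw : w ∈ Cfsg.pCore 2 ↥(pairGrp D d x)) : Commute (w : G) a := by
  set π := QuotientGroup.mk' (Cfsg.pCore 2 ↥(pairGrp D d x)) with hπ
  set a' : ↥(pairGrp D d x) := ⟨a, twin_mem_pair hd ha⟩ with ha'
  have hcD := h.cls.ot.conj a ha.1 w
  have hπc : π (w * a' * w⁻¹) = π a' := by
    rw [map_mul, map_mul, show π w = 1 from (QuotientGroup.eq_one_iff _).2 hw, map_inv,
      show π w = 1 from (QuotientGroup.eq_one_iff _).2 hw, one_mul, inv_one, mul_one]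
  have hca : Commute ((w : G) * a * (w : G)⁻¹) a :=
    lift_img h.cls.ot (a := w * a' * w⁻¹) (b := a') hcD ha.1 (hπc ▸ Commute.refl _)
  have hcd : Commute ((w : G) * a * (w : G)⁻¹) d := (ha.2 _ hcD).1 hca
  have htr : ∀ f ∈ trace D d x, Commute ((w : G) * a * (w : G)⁻¹) f := fun f hf => by
    have h1 : Commute f w := pairGrp_le_centralizer hd hx hf w.2
    exact (((h1.mul_right (comm_of_twins hf.1 ha hf.2.1)).mul_right h1.inv_right)).symm
  have hcx : ¬ Commute ((w : G) * a * (w : G)⁻¹) x := fun e => by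
    have h1 : Commute ((w : G) * a * (w : G)⁻¹) w :=
      pairGrp_le_centralizer hd hx ⟨hcD, hcd, e⟩ w.2
    have h2 : (w : G)⁻¹ * ((w : G) * a * (w : G)⁻¹) * (w : G)⁻¹⁻¹ = (w : G) * a * (w : G)⁻¹ :=
      conj_eq_self h1.symm.inv_left
    rw [show (w : G)⁻¹ * ((w : G) * a * (w : G)⁻¹) * (w : G)⁻¹⁻¹ = a by group] at h2
    rw [← h2] at e
    exact twin_opp hx hdx ha e
  have hct := h.twin_of_trace hd hx hdx hcD hcd hcx htr
  have hct' : (w : G) * a * (w : G)⁻¹ ∈ twins D a := twins_trans (twins_symm hd ha) hct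
  refine commute_of_conj_eq ?_
  by_contra hne
  have hm := h.mul_twin hO ha.1 hct' hne
  have hm' : (w : G) * a * (w : G)⁻¹ * a ∈ twins D d := twins_trans ha hm
  refine not_mem_core h.cls.ot (a := w * a' * w⁻¹ * a') (b := ⟨x, right_mem_pair⟩) hm'.1 hx
    (twin_opp hx hdx hm') ((QuotientGroup.eq_one_iff _).1 ?_)
  show π (w * a' * w⁻¹ * a') = 1
  rw [map_mul, hπc, ← map_mul, show a' * a' = 1 from Subtype.ext (h.cls.ot.mul_self a ha.1), map_one]

/-- The 2-core of the pair group fixes the opposite member. -/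
theorem core_fix_right {w : ↥(pairGrp D d x)} (hw : w ∈ Cfsg.pCore 2 ↥(pairGrp D d x)) :
    Commute (w : G) x := by
  set π := QuotientGroup.mk' (Cfsg.pCore 2 ↥(pairGrp D d x)) with hπ
  set x' : ↥(pairGrp D d x) := ⟨x, right_mem_pair⟩ with hx'
  have hcD := h.cls.ot.conj x hx w
  have hπc : π (w * x' * w⁻¹) = π x' := by
    rw [map_mul, map_mul, show π w = 1 from (QuotientGroup.eq_one_iff _).2 hw, map_inv,
      show π w = 1 from (QuotientGroup.eq_one_iff _).2 hw, one_mul, inv_one, mul_one]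
  have hcx : Commute ((w : G) * x * (w : G)⁻¹) x :=
    lift_img h.cls.ot (a := w * x' * w⁻¹) (b := x') hcD hx (hπc ▸ Commute.refl _)
  have htr : ∀ f ∈ trace D x d, Commute ((w : G) * x * (w : G)⁻¹) f := fun f hf => by
    have h1 : Commute f w := pairGrp_le_centralizer hd hx ⟨hf.1, hf.2.2, hf.2.1⟩ w.2
    exact (((h1.mul_right hf.2.1).mul_right h1.inv_right)).symm
  have hcd : ¬ Commute ((w : G) * x * (w : G)⁻¹) d := fun e => by
    have h1 : Commute ((w : G) * x * (w : G)⁻¹) w :=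
      pairGrp_le_centralizer hd hx ⟨hcD, e, hcx⟩ w.2
    have h2 : (w : G)⁻¹ * ((w : G) * x * (w : G)⁻¹) * (w : G)⁻¹⁻¹ = (w : G) * x * (w : G)⁻¹ :=
      conj_eq_self h1.symm.inv_left
    rw [show (w : G)⁻¹ * ((w : G) * x * (w : G)⁻¹) * (w : G)⁻¹⁻¹ = x by group] at h2
    rw [← h2] at e
    exact hdx e.symm
  have hct := h.twin_of_trace hx hd (fun e => hdx e.symm) hcD hcx hcd htr
  refine commute_of_conj_eq ?_
  by_contra hne
  have hm := h.mul_twin hO hx hct hne
  refine not_mem_core h.cls.ot (a := w * x' * w⁻¹ * x') (b := ⟨d, twin_mem_pair hd (mem_twins_self hd)⟩)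
    hm.1 hd (fun e => hdx ((hm.2 d hd).1 e.symm)) ((QuotientGroup.eq_one_iff _).1 ?_)
  show π (w * x' * w⁻¹ * x') = 1
  rw [map_mul, hπc, ← map_mul, show x' * x' = 1 from Subtype.ext (h.cls.ot.mul_self x hx), map_one]

/-- The 2-core of the pair group is central. -/
theorem core_central {w : ↥(pairGrp D d x)} (hw : w ∈ Cfsg.pCore 2 ↥(pairGrp D d x))
    (g : ↥(pairGrp D d x)) : Commute w g := by
  have hle : Subgroup.closure (twins D d ∪ {x}) ≤ Subgroup.centralizer ({(w : G)} : Set G) := by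
    rw [Subgroup.closure_le]
    rintro s (hs | rfl)
    · exact Subgroup.mem_centralizer_singleton_iff.2 (core_fix_twin h hd hx hdx hO hs hw).symm.eq
    · exact Subgroup.mem_centralizer_singleton_iff.2 (core_fix_right h hd hx hdx hO hw).symm.eq
  have hg : (g : G) ∈ Subgroup.closure (twins D d ∪ {x}) :=
    (SetLike.ext_iff.1 (pairGrp_eq (x := x) hd) _).1 g.2
  exact (Subtype.ext (Subgroup.mem_centralizer_singleton_iff.1 (hle hg)) : g * w = w * g).symm

/-- The pair group is perfect. -/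
theorem pair_perfect : commutator ↥(pairGrp D d x) = ⊤ := by
  set α := Abelianization.of (G := ↥(pairGrp D d x)) with hα
  set x' : ↥(pairGrp D d x) := ⟨x, right_mem_pair⟩
  have hval : ∀ t (ht : t ∈ twins D d), α ⟨t, twin_mem_pair hd ht⟩ = α x' := fun t ht => by
    refine isConj_iff_eq.1 (MonoidHom.map_isConj α (isConj_of_odd ?_ ?_ ?_))
    · exact Subtype.ext (h.cls.ot.mul_self t ht.1)
    · exact Subtype.ext (h.cls.ot.mul_self x hx)
    · rw [← Subgroup.orderOf_coe]; exact h.cls.ot.odd_of_not ht.1 hx (twin_opp hx hdx ht)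
  obtain ⟨d', hl⟩ := h.cls.lines d hd
  have hd' : d' ∈ twins D d := ⟨hl.2.1, fun z hz => (h.cls.ot.line_iff hl hz).symm⟩
  have hne : d' ≠ d := fun e => h.cls.ot.ne_one _ hl.2.2.2 (by rw [e]; exact h.cls.ot.mul_self d hd)
  have h3 : d' * d ∈ twins D d := h.mul_twin hO hd hd' hne
  have hx1 : α x' = 1 := by
    have e := hval _ h3
    rw [show (⟨d' * d, twin_mem_pair hd h3⟩ : ↥(pairGrp D d x)) =
      ⟨d', twin_mem_pair hd hd'⟩ * ⟨d, twin_mem_pair hd (mem_twins_self hd)⟩ from rfl, map_mul,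
      hval _ hd', hval _ (mem_twins_self hd)] at e
    exact mul_eq_left.1 e
  have hle : Subgroup.closure (twins D d ∪ {x}) ≤ α.ker.map (pairGrp D d x).subtype := by
    rw [Subgroup.closure_le]
    rintro s (hs | rfl)
    · exact ⟨_, (hval s hs).trans hx1, rfl⟩
    · exact ⟨x', hx1, rfl⟩
  refine eq_top_iff.2 fun g _ => ?_
  obtain ⟨g', hg', e⟩ := hle ((SetLike.ext_iff.1 (pairGrp_eq (x := x) hd) _).1 g.2)
  obtain rfl : g' = g := Subtype.ext e
  rw [← Abelianization.ker_of]; exact hg'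

/-- The quotient is no dihedral group. -/
theorem not_dihedral (n : ℕ)
    (e : (↥(pairGrp D d x) ⧸ Cfsg.pCore 2 ↥(pairGrp D d x)) ≃* DihedralGroup n) : False := by
  let φ : DihedralGroup n →* Multiplicative (ZMod 2) := MonoidHom.mk'
    (fun g => match g with
      | .r _ => 1
      | .sr _ => Multiplicative.ofAdd 1)
    (by rintro (i | i) (j | j) <;> simp only [DihedralGroup.r_mul_r, DihedralGroup.r_mul_sr,
          DihedralGroup.sr_mul_r, DihedralGroup.sr_mul_sr, one_mul, mul_one] <;> rfl)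
  set f := φ.comp (e.toMonoidHom.comp (QuotientGroup.mk' (Cfsg.pCore 2 ↥(pairGrp D d x))))
  obtain ⟨g, hg⟩ := (e.surjective.comp (QuotientGroup.mk'_surjective _)) (DihedralGroup.sr 0)
  have hm : g ∈ f.ker := Abelianization.commutator_subset_ker f
    (by rw [pair_perfect h hd hx hdx hO]; trivial)
  have h1 : φ (DihedralGroup.sr 0) = 1 := hg ▸ hm
  exact absurd h1 (show Multiplicative.ofAdd (1 : ZMod 2) ≠ 1 by decide)

/-- The linear case. -/
theorem linear_case {F : Type} [Field F] [Fintype F] [CharP F 2]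
    (e : (↥(pairGrp D d x) ⧸ Cfsg.pCore 2 ↥(pairGrp D d x)) ≃*
      Matrix.ProjectiveSpecialLinearGroup (Fin 2) F) :
    Fintype.card F = Nat.card ↥(Subgroup.closure (twins D d)) ∧
      Nonempty (↥(pairGrp D d x) ≃* Matrix.ProjectiveSpecialLinearGroup (Fin 2) F) := by
  have : Fact (Nat.Prime 2) := ⟨Nat.prime_two⟩
  obtain ⟨⟨n, hn0⟩, -, hn⟩ := FiniteField.card F 2
  set X := pairGrp D d x
  set W := Cfsg.pCore 2 ↥X
  set π := QuotientGroup.mk' W with hπ
  set E := Subgroup.closure (twins D d) with hE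
  have hEX : E ≤ X := by
    rw [hE, Subgroup.closure_le]; exact fun t ht => twin_mem_pair hd ht
  have hEmem : ∀ a ∈ E, a ∈ twins D d ∨ a = 1 := fun a ha => by
    have ha' : a ∈ (E : Set G) := ha
    rwa [h.twins_closed hO hd] at ha'
  have hEsq : ∀ a ∈ E, a * a = 1 := fun a ha => by
    rcases hEmem a ha with h1 | rfl
    exacts [h.cls.ot.mul_self a h1.1, one_mul 1]
  set ι : ↥E →* ↥X ⧸ W := π.comp (Subgroup.inclusion hEX) with hι
  have hinj : Function.Injective ι := by
    rw [← MonoidHom.ker_eq_bot_iff, Subgroup.eq_bot_iff_forall]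
    rintro ⟨a, ha⟩ hm
    rcases hEmem a ha with h1 | h1
    · exact absurd ((QuotientGroup.eq_one_iff _).1 hm)
        (not_mem_core h.cls.ot (a := ⟨a, hEX ha⟩) (b := ⟨x, right_mem_pair⟩) h1.1 hx
          (twin_opp hx hdx h1))
    · exact Subtype.ext h1
  obtain ⟨S, hS⟩ : ∃ S : Sylow 2 (↥X ⧸ W), ι.range ≤ S := by
    refine IsPGroup.exists_le_sylow ?_
    rintro ⟨_, a, rfl⟩
    refine ⟨1, Subtype.ext ?_⟩
    rw [pow_one, pow_two]
    show ι a * ι a = 1
    rw [← map_mul, show a * a = 1 from Subtype.ext (hEsq _ a.2), map_one]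
  set d' : ↥E := ⟨d, Subgroup.subset_closure (mem_twins_self hd)⟩
  have hd1 : orderOf (ι d') = 2 := by
    refine orderOf_eq_prime ?_ fun e1 => ?_
    · rw [pow_two, ← map_mul, show d' * d' = 1 from Subtype.ext (h.cls.ot.mul_self d hd), map_one]
    · exact h.cls.ot.ne_one d hd (congrArg Subtype.val (hinj (e1.trans (map_one ι).symm)))
  have hrange : (S : Subgroup (↥X ⧸ W)) ≤ ι.range := by
    intro s hs
    by_cases h1 : s = 1
    · exact h1 ▸ one_mem _
    have hs2 : orderOf s = 2 := by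
      obtain ⟨k, hk⟩ := S.2 ⟨s, hs⟩
      have h2 : s * s = 1 := psl_sq e hn hn0.ne' (k := k) (congrArg Subtype.val hk)
      exact orderOf_eq_prime (by rw [pow_two]; exact h2) h1
    obtain ⟨c, hc⟩ := isConj_iff.1 (UThreeSylow.psl_isConj (F := F) CharTwo.two_eq_zero
      (x := e (ι d')) (y := e s) (by rw [e.orderOf_eq, hd1]) (by rw [e.orderOf_eq, hs2]))
    obtain ⟨g, hg⟩ := QuotientGroup.mk'_surjective W (e.symm c)
    set c' : ↥X := g * ⟨d, hEX d'.2⟩ * g⁻¹ with hc'
    have hcs : π c' = s := by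
      apply e.injective
      rw [← hc, hc', map_mul, map_mul, map_inv, map_mul, map_mul, map_inv,
        show π g = e.symm c from hg, e.apply_symm_apply]
      rfl
    have hcd : Commute ((g : G) * d * (g : G)⁻¹) d := by
      refine lift_img h.cls.ot (a := c') (b := ⟨d, hEX d'.2⟩) (h.cls.ot.conj d hd g) hd ?_
      rw [show QuotientGroup.mk' (Cfsg.pCore 2 ↥X) c' = s from hcs]
      exact psl_comm e hn hn0.ne' S hs (hS ⟨d', rfl⟩)
    exact ⟨⟨_, Subgroup.subset_closure (conj_twin h hd hx hdx g.2 hcd)⟩, hcs⟩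
  have hSE : ι.range = S := le_antisymm hS hrange
  have hcard : Fintype.card F = Nat.card ↥E := by
    rw [hn, ← psl_sylow_card e hn hn0.ne' S, show (S : Subgroup (↥X ⧸ W)) = ι.range from hSE.symm]
    exact (Nat.card_congr (MonoidHom.ofInjective hinj).toEquiv).symm
  refine ⟨hcard, ?_⟩
  set A := (S : Subgroup (↥X ⧸ W)).comap π with hA
  have hrep : ∀ a ∈ A, ∃ t : ↥E, ∃ w ∈ W, a = Subgroup.inclusion hEX t * w := fun a ha => by
    obtain ⟨t, ht⟩ : π a ∈ ι.range := hrange ha
    exact ⟨t, (Subgroup.inclusion hEX t)⁻¹ * a, QuotientGroup.eq.1 ht,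
      (mul_inv_cancel_left _ _).symm⟩
  have hcomm : ∀ a b : ↥A, a * b = b * a := fun a b => by
    obtain ⟨s, w, hw, ha⟩ := hrep a a.2
    obtain ⟨t, v, hv, hb⟩ := hrep b b.2
    have hst : Commute (Subgroup.inclusion hEX s) (Subgroup.inclusion hEX t) := by
      refine Commute.map ?_ _
      refine Subtype.ext ?_
      show (s : G) * t = t * s
      calc (s : G) * t = ((s : G) * t)⁻¹ :=
            (inv_eq_of_mul_eq_one_right (hEsq _ (mul_mem s.2 t.2))).symm
        _ = t * s := by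
          rw [mul_inv_rev, inv_eq_of_mul_eq_one_right (hEsq _ s.2),
            inv_eq_of_mul_eq_one_right (hEsq _ t.2)]
    refine Subtype.ext ?_
    show (a : ↥X) * b = b * a
    rw [ha, hb]
    exact (((hst.mul_right (core_central h hd hx hdx hO hv _).symm).mul_left
      (core_central h hd hx hdx hO hw _))).eq
  let : CommGroup ↥A := { (inferInstance : Group ↥A) with mul_comm := hcomm }
  have hodd : ¬ 2 ∣ A.index := by
    rw [hA, Subgroup.index_comap_of_surjective _ (QuotientGroup.mk'_surjective W)]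
    exact S.not_dvd_index
  have hW : W = ⊥ := by
    rw [Subgroup.eq_bot_iff_forall]
    intro w hw
    have key : ∀ (k : ℕ) (g₀ : ↥X), g₀⁻¹ * w ^ k * g₀ ∈ A → g₀⁻¹ * w ^ k * g₀ = w ^ k :=
      fun k g₀ _ => by
        rw [mul_assoc, (core_central h hd hx hdx hO (pow_mem hw k) g₀).eq, inv_mul_cancel_left]
    have ht := MonoidHom.transfer_eq_pow (MonoidHom.id ↥A) w key
    have h1 : w ∈ (MonoidHom.transfer (MonoidHom.id ↥A)).ker :=
      Abelianization.commutator_subset_ker _ (by rw [pair_perfect h hd hx hdx hO]; trivial)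
    rw [MonoidHom.mem_ker, ht] at h1
    have hpow : w ^ A.index = 1 := congrArg Subtype.val h1
    obtain ⟨k, hk⟩ := CfsgLib.Fitting.pCore_isPGroup (G := ↥X) 2 ⟨w, hw⟩
    have hk' : w ^ 2 ^ k = 1 := congrArg Subtype.val hk
    exact orderOf_eq_one_iff.1 (Nat.eq_one_of_dvd_coprimes
      (Nat.Coprime.pow_left k ((Nat.Prime.coprime_iff_not_dvd Nat.prime_two).2 hodd))
      (orderOf_dvd_of_pow_eq_one hk') (orderOf_dvd_of_pow_eq_one hpow))
  exact ⟨((QuotientGroup.quotientMulEquivOfEq hW).trans QuotientGroup.quotientBot).symm.trans e⟩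

/-- A twin class and an opposite member generate `L₂(q)`. -/
theorem pair_linear :
    ∃ (F : Type) (_ : Field F) (_ : Fintype F),
      Fintype.card F = Nat.card ↥(Subgroup.closure (twins D d)) ∧
      Nonempty (↥(pairGrp D d x) ≃* Matrix.ProjectiveSpecialLinearGroup (Fin 2) F) := by
  have hp : x ∈ Cfsg.oddPartners D d :=
    ⟨hx, fun e => hdx (e ▸ Commute.refl _), h.cls.ot.odd_of_not hd hx hdx⟩
  rcases RootConnect.twin_partner_quotient strongCriterion h.root hd hp with
    ⟨F, i1, i2, hch, -, ⟨e⟩⟩ | hs | ⟨n, ⟨e⟩⟩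
  · exact ⟨F, i1, i2, linear_case h hd hx hdx hO e⟩
  · exact absurd hs (h.not_szPair hd hx hdx)
  · exact (not_dihedral h hd hx hdx hO n e).elim

end pair

end CfsgLib.RootSz
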