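import Cfsg.Agent.Lib.RootSz.Frame

/-!
The translations of the lines through a member `d` of a frame along the congruence classes: modulo
the elements fixing every class member they form a commutative group.
-/

set_option autoImplicit false

namespace CfsgLib.RootSz

open CfsgLib.OddTrans74

universe u

variable {G : Type u} [Group G]

/-- The members around `d` congruent to `f`. -/
def rset (D : Set G) (N : G → Subgroup G) (d f : G) : Set G := {g | g ∈ kset D d ∧ f * g ∈ N d}

/-- The group of the line through `d` and `z`. -/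
def lineGrp (D : Set G) (d z : G) : Subgroup G :=
  Subgroup.closure {c | c ∈ D ∧ Commute c d ∧ Commute c z}

/-- The translations along the line through `d` and `z`. -/
def bgrp (D : Set G) (N : G → Subgroup G) (d z : G) : Subgroup G :=
  Subgroup.closure ((fun p => p * z) '' rset D N d z)

/-- All translations. -/
def wgrp (D : Set G) (N : G → Subgroup G) (d x : G) : Subgroup G :=
  Subgroup.closure {m | ∃ z ∈ trace D d x, ∃ p ∈ rset D N d z, m = p * z}

/-- The translations fixing all congruence classes pointwise. -/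
def zgrp (D : Set G) (N : G → Subgroup G) (d x : G) : Subgroup G :=
  wgrp D N d x ⊓ Subgroup.centralizer {g | ∃ z ∈ trace D d x, g ∈ rset D N d z}

variable {D : Set G} {N : G → Subgroup G} {q : ℕ} {d x : G}

theorem mem_lineGrp {c z : G} (hc : c ∈ D) (hcd : Commute c d) (hcz : Commute c z) :
    c ∈ lineGrp D d z :=
  Subgroup.subset_closure ⟨hc, hcd, hcz⟩

theorem commute_closure {S : Set G} {m a : G} (h : ∀ s ∈ S, Commute m s)
    (ha : a ∈ Subgroup.closure S) : Commute m a := by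
  have hle : Subgroup.closure S ≤ Subgroup.centralizer ({m} : Set G) :=
    (Subgroup.closure_le _).2 fun s hs => Subgroup.mem_centralizer_singleton_iff.2 (h s hs).symm.eq
  exact (Subgroup.mem_centralizer_singleton_iff.1 (hle ha) : Commute a m).symm

theorem bgrp_le_wgrp {z : G} (hz : z ∈ trace D d x) : bgrp D N d z ≤ wgrp D N d x := by
  refine (Subgroup.closure_le _).2 ?_
  rintro _ ⟨p, hp, rfl⟩
  exact Subgroup.subset_closure ⟨z, hz, p, hp, rfl⟩

namespace Frame

variable (h : Frame D N q) (hd : d ∈ D)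
include h hd

theorem rset_comm {z g : G} (hz : z ∈ kset D d) (hg : g ∈ rset D N d z) : Commute g z :=
  (h.cong_comm hd hz hg.1 hg.2).symm

theorem line_mem {z g : G} (hz : z ∈ kset D d) (hg : g ∈ rset D N d z) : g ∈ lineGrp D d z :=
  mem_lineGrp hg.1.1 hg.1.2.1 (h.rset_comm hd hz hg)

theorem rset_self {z : G} (hz : z ∈ kset D d) : z ∈ rset D N d z :=
  ⟨hz, by rw [h.mul_self hz.1]; exact one_mem _⟩

theorem line_comm {z a b : G} (hz : z ∈ kset D d) (ha : a ∈ lineGrp D d z)
    (hb : b ∈ lineGrp D d z) : Commute a b := by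
  refine commute_closure (fun s hs => (commute_closure (fun t ht => ?_) ha).symm) hb
  obtain ⟨hs, hsd, hsz⟩ := hs
  obtain ⟨ht, htd, htz⟩ := ht
  by_cases hst : s ∈ twins D d
  · exact (comm_of_twins ht hst htd).symm
  by_cases htt : t ∈ twins D d
  · exact comm_of_twins hs htt hsd
  exact h.trans d hd s ⟨hs, hsd, hst⟩ z hz t ⟨ht, htd, htt⟩ hsz htz.symm

theorem bgrp_le_line {z : G} (hz : z ∈ kset D d) : bgrp D N d z ≤ lineGrp D d z := by
  refine (Subgroup.closure_le _).2 ?_
  rintro _ ⟨p, hp, rfl⟩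
  exact mul_mem (h.line_mem hd hz hp) (h.line_mem hd hz (h.rset_self hd hz))

omit h hd in
theorem line_commute {z a : G} (ha : a ∈ lineGrp D d z) : Commute a d :=
  (commute_closure (fun _ hs => hs.2.1.symm) ha).symm

/-- Elements fixing `d` inside the congruence kernel keep the classes. -/
theorem conj_rset {m z g : G} (hm : Commute m d) (hmN : m ∈ N d) (hg : g ∈ rset D N d z) :
    m * g * m⁻¹ ∈ rset D N d z := by
  refine ⟨conj_kset h.ot hm hg.1, ?_⟩
  have h1 := mul_mem hg.2 (mul_mem (h.N_conj d hd g hg.1.2.1 m hmN) (inv_mem hmN))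
  rwa [show z * g * (g * m * g⁻¹ * m⁻¹) = z * (g * g) * m * g⁻¹ * m⁻¹ by group,
    h.mul_self hg.1.1, mul_one, h.inv_eq hg.1.1,
    show z * m * g * m⁻¹ = z * (m * g * m⁻¹) by group] at h1

theorem conj_line {m z a : G} (hm : Commute m d) (hmN : m ∈ N d) (hz : z ∈ kset D d)
    (ha : a ∈ lineGrp D d z) : m * a * m⁻¹ ∈ lineGrp D d z := by
  have hle : (lineGrp D d z).map (MulAut.conj m).toMonoidHom ≤ lineGrp D d z := by
    rw [lineGrp, MonoidHom.map_closure, Subgroup.closure_le]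
    rintro _ ⟨c, ⟨hc, hcd, hcz⟩, rfl⟩
    simp only [MulEquiv.toMonoidHom_eq_coe, MonoidHom.coe_coe, MulAut.conj_apply, SetLike.mem_coe]
    by_cases hct : c ∈ twins D d
    · have := conj_mem_twins h.ot hct m
      rw [conj_eq_self hm] at this
      exact mem_lineGrp this.1 (comm_of_twins hd this (Commute.refl d)).symm
        (comm_of_twins hz.1 this hz.2.1).symm
    have hck : c ∈ kset D d := ⟨hc, hcd, hct⟩
    have h2 := h.conj_rset hd hm hmN (h.rset_self hd hck)
    exact mem_lineGrp h2.1.1 h2.1.2.1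
      (h.trans d hd _ h2.1 c hck z hz (h.rset_comm hd hck h2) hcz)
  exact hle ⟨a, ha, rfl⟩

variable (hx : x ∈ D) (hdx : ¬ Commute d x)
include hx hdx

theorem w_props {m : G} (hm : m ∈ wgrp D N d x) : Commute m d ∧ m ∈ N d := by
  have hle : wgrp D N d x ≤ Subgroup.centralizer ({d} : Set G) ⊓ N d := by
    refine (Subgroup.closure_le _).2 ?_
    rintro _ ⟨z, hz, p, hp, rfl⟩
    exact ⟨Subgroup.mem_centralizer_singleton_iff.2 (hp.1.2.1.mul_left hz.2.1).eq,
      h.cong_symm hz.1 hp.1.1 hp.2⟩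
  exact ⟨Subgroup.mem_centralizer_singleton_iff.1 (hle hm).1, (hle hm).2⟩

/-- A translation along one line moves the classes on an opposite line regularly. -/
theorem move [Finite G] {f y g : G} (hf : f ∈ trace D d x) (hy : y ∈ trace D d x)
    (hfy : ¬ Commute f y) (hg : g ∈ rset D N d f) :
    ∃ p ∈ rset D N d y, p * y * f * (p * y)⁻¹ = g := by
  have hsub : ∀ {f y : G}, f ∈ trace D d x → y ∈ trace D d x → ¬ Commute f y →
      Set.InjOn (fun p => p * y * f * (p * y)⁻¹) (rset D N d y) ∧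
      (fun p => p * y * f * (p * y)⁻¹) '' rset D N d y ⊆ rset D N d f := by
    intro f y hf hy hfy
    have hyk := trace_kset hx hdx hy
    have hfk := trace_kset hx hdx hf
    constructor
    · intro p hp p' hp' he
      by_contra hne
      have hyp := h.rset_comm hd hyk hp
      have hyp' := h.rset_comm hd hyk hp'
      have hpp : Commute p' p := h.line_comm hd hyk (h.line_mem hd hyk hp') (h.line_mem hd hyk hp)
      have hc : Commute ((p' * y)⁻¹ * (p * y)) f := by
        refine commute_of_conj_eq ?_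
        rw [show (p' * y)⁻¹ * (p * y) * f * ((p' * y)⁻¹ * (p * y))⁻¹ =
          (p' * y)⁻¹ * (p * y * f * (p * y)⁻¹) * (p' * y) by group,
          show p * y * f * (p * y)⁻¹ = p' * y * f * (p' * y)⁻¹ from he]
        group
      rw [mul_inv_rev, h.inv_eq hy.1, h.inv_eq hp'.1.1, show y * p' * (p * y) = y * (p' * p) * y by
        group, (hyp'.symm.mul_right hyp.symm).eq, mul_assoc, h.mul_self hy.1, mul_one] at hc
      obtain ⟨hfp, -⟩ := h.ot.f1 hp'.1.1 hp.1.1 hf.1 hpp (fun e => hne e.symm) hc.symm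
      exact hfy (h.trans d hd f hfk p' hp'.1 y hyk hfp hyp')
    · rintro _ ⟨p, hp, rfl⟩
      exact h.conj_rset hd (hp.1.2.1.mul_left hy.2.1) (h.cong_symm hy.1 hp.1.1 hp.2)
        (h.rset_self hd hfk)
  obtain ⟨hinj, hle⟩ := hsub hf hy hfy
  obtain ⟨hinj', hle'⟩ := hsub hy hf fun e => hfy e.symm
  have hcard : (rset D N d f).ncard ≤ ((fun p => p * y * f * (p * y)⁻¹) '' rset D N d y).ncard := by
    rw [Set.ncard_image_of_injOn hinj, ← Set.ncard_image_of_injOn hinj']
    exact Set.ncard_le_ncard hle'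
  have := Set.eq_of_subset_of_ncard_le hle hcard
  rw [← this] at hg
  exact hg

/-- An element of the congruence kernel fixing two opposite trace members fixes the trace. -/
theorem fix {n f y z : G} (hn : Commute n d) (hnN : n ∈ N d) (hf : f ∈ trace D d x)
    (hy : y ∈ trace D d x) (hfy : ¬ Commute f y) (hnf : Commute n f) (hny : Commute n y)
    (hz : z ∈ trace D d x) : Commute n z := by
  have hfk := trace_kset hx hdx hf
  have hclass : ∀ {b t : G}, b ∈ kset D d → t ∈ twins D b → n * t * n⁻¹ ∈ twins D b →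
      Commute n t := by
    intro b t hb ht hnt
    have htk := h.kset_twin hd hb ht
    refine commute_of_conj_eq (h.cong_eq hd htk (twins_trans (twins_symm hb.1 ht) hnt) ?_)
    exact (h.conj_rset hd hn hnN (h.rset_self hd htk)).2
  obtain ⟨g, hg, hgz⟩ := h.gen d hd f hfk y (trace_kset hx hdx hy) z (trace_kset hx hdx hz) hfy
  have hng : Commute n g := by
    refine commute_closure ?_ hg
    rintro s (hs | rfl)
    · refine hclass hfk hs ?_
      have := conj_mem_twins h.ot hs n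
      rwa [conj_eq_self hnf] at this
    · exact hny
  have hgd : Commute d g := by
    refine commute_closure ?_ hg
    rintro s (hs | rfl)
    · exact comm_of_twins hd hs hf.2.1.symm
    · exact hy.2.1.symm
  have hgx : Commute x g := by
    refine commute_closure ?_ hg
    rintro s (hs | rfl)
    · exact comm_of_twins hx hs hf.2.2.symm
    · exact hy.2.2.symm
  have hgt : g * f * g⁻¹ ∈ trace D d x := by
    refine ⟨h.ot.conj f hf.1 g, ?_, ?_⟩
    · have := (commute_conj_iff g f d).2 hf.2.1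
      rwa [conj_eq_self hgd.symm] at this
    · have := (commute_conj_iff g f x).2 hf.2.2
      rwa [conj_eq_self hgx.symm] at this
  have hzt := h.trace_twins hd hx hdx hgt hz hgz
  have hngf : n * (g * f * g⁻¹) * n⁻¹ = g * f * g⁻¹ :=
    conj_eq_self ((hng.mul_right hnf).mul_right hng.inv_right)
  refine hclass (trace_kset hx hdx hgt) hzt ?_
  have := conj_mem_twins h.ot hzt n
  rwa [hngf] at this

theorem zgrp_conj {n w : G} (hn : n ∈ zgrp D N d x) (hw : w ∈ wgrp D N d x) :
    w * n * w⁻¹ ∈ zgrp D N d x := by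
  refine Subgroup.mem_inf.2 ⟨mul_mem (mul_mem hw hn.1) (inv_mem hw), Subgroup.mem_centralizer_iff.2 ?_⟩
  rintro g ⟨z, hz, hg⟩
  obtain ⟨hwd, hwN⟩ := h.w_props hd hx hdx (inv_mem hw)
  have h1 := Subgroup.mem_centralizer_iff.1 hn.2 _ ⟨z, hz, h.conj_rset hd hwd hwN hg⟩
  rw [inv_inv] at h1
  have h2 : w * (w⁻¹ * g * w * n) * w⁻¹ = w * (n * (w⁻¹ * g * w)) * w⁻¹ := by rw [h1]
  rw [show w * (w⁻¹ * g * w * n) * w⁻¹ = g * (w * n * w⁻¹) by group,
    show w * (n * (w⁻¹ * g * w)) * w⁻¹ = w * n * w⁻¹ * g by group] at h2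
  exact h2

variable [Finite G]

theorem comm_gen {z z' p p' : G} (hz : z ∈ trace D d x) (hz' : z' ∈ trace D d x)
    (hp : p ∈ rset D N d z) (hp' : p' ∈ rset D N d z') :
    p * z * (p' * z') * (p * z)⁻¹ * (p' * z')⁻¹ ∈ zgrp D N d x := by
  have hzk := trace_kset hx hdx hz
  have hzk' := trace_kset hx hdx hz'
  have hW : p * z * (p' * z') * (p * z)⁻¹ * (p' * z')⁻¹ ∈ wgrp D N d x := by
    have h1 : p * z ∈ wgrp D N d x := Subgroup.subset_closure ⟨z, hz, p, hp, rfl⟩
    have h2 : p' * z' ∈ wgrp D N d x := Subgroup.subset_closure ⟨z', hz', p', hp', rfl⟩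
    exact mul_mem (mul_mem (mul_mem h1 h2) (inv_mem h1)) (inv_mem h2)
  have hb : p * z ∈ lineGrp D d z :=
    mul_mem (h.line_mem hd hzk hp) (h.line_mem hd hzk (h.rset_self hd hzk))
  have hb' : p' * z' ∈ lineGrp D d z' :=
    mul_mem (h.line_mem hd hzk' hp') (h.line_mem hd hzk' (h.rset_self hd hzk'))
  by_cases hzz : Commute z z'
  · have ht := h.trace_twins hd hx hdx hz hz' hzz
    have hb'' : p' * z' ∈ lineGrp D d z :=
      mul_mem (mem_lineGrp hp'.1.1 hp'.1.2.1 ((ht.2 _ hp'.1.1).1 (h.rset_comm hd hzk' hp')))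
        (mem_lineGrp hz'.1 hz'.2.1 hzz.symm)
    rw [(h.line_comm hd hzk hb hb'').eq, mul_inv_cancel_right, mul_inv_cancel]
    exact one_mem _
  set e := p * z * (p' * z') * (p * z)⁻¹ * (p' * z')⁻¹ with he
  have hbd := line_commute hb
  have hbd' := line_commute hb'
  have hbN : p * z ∈ N d := h.cong_symm hz.1 hp.1.1 hp.2
  have hbN' : p' * z' ∈ N d := h.cong_symm hz'.1 hp'.1.1 hp'.2
  have he' : e ∈ lineGrp D d z' := mul_mem (h.conj_line hd hbd hbN hzk' hb') (inv_mem hb')
  have he0 : e ∈ lineGrp D d z := by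
    rw [he, show p * z * (p' * z') * (p * z)⁻¹ * (p' * z')⁻¹ =
      p * z * (p' * z' * (p * z)⁻¹ * (p' * z')⁻¹) by group]
    exact mul_mem hb (h.conj_line hd hbd' hbN' hzk (inv_mem hb))
  obtain ⟨hed, heN⟩ := h.w_props hd hx hdx hW
  have hez : Commute e z := h.line_comm hd hzk he0 (h.line_mem hd hzk (h.rset_self hd hzk))
  have hez' : Commute e z' := h.line_comm hd hzk' he' (h.line_mem hd hzk' (h.rset_self hd hzk'))
  refine ⟨hW, Subgroup.mem_centralizer_iff.2 ?_⟩
  rintro g ⟨u, hu, hg⟩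
  suffices hs : Commute e g from hs.symm.eq
  have heu : Commute e u := h.fix hd hx hdx hed heN hz hz' hzz hez hez' hu
  have key : ∀ w ∈ trace D d x, e ∈ lineGrp D d w → ¬ Commute u w → Commute e g := by
    intro w hw hew huw
    obtain ⟨r, hr, hrg⟩ := h.move hd hx hdx hu hw huw hg
    have hwk := trace_kset hx hdx hw
    have her : Commute e (r * w) := h.line_comm hd hwk hew
      (mul_mem (h.line_mem hd hwk hr) (h.line_mem hd hwk (h.rset_self hd hwk)))
    rw [← hrg]
    exact (her.mul_right heu).mul_right her.inv_right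
  by_cases huz : Commute u z
  · exact key z' hz' he' fun e' => hzz
      (h.trans d hd z hzk u (trace_kset hx hdx hu) z' hzk' huz.symm e')
  · exact key z hz he0 huz

theorem comm_mem {a b : G} (ha : a ∈ wgrp D N d x) (hb : b ∈ wgrp D N d x) :
    a * b * a⁻¹ * b⁻¹ ∈ zgrp D N d x := by
  induction ha using Subgroup.closure_induction generalizing b with
  | mem s hs =>
    induction hb using Subgroup.closure_induction with
    | mem t ht =>
      obtain ⟨z, hz, p, hp, rfl⟩ := hs
      obtain ⟨z', hz', p', hp', rfl⟩ := ht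
      exact h.comm_gen hd hx hdx hz hz' hp hp'
    | one => simp [one_mem]
    | mul u v hu _ ihu ihv =>
      rw [show s * (u * v) * s⁻¹ * (u * v)⁻¹ =
        s * u * s⁻¹ * u⁻¹ * (u * (s * v * s⁻¹ * v⁻¹) * u⁻¹) by group]
      exact mul_mem ihu (h.zgrp_conj hd hx hdx ihv hu)
    | inv u hu ih =>
      rw [show s * u⁻¹ * s⁻¹ * u⁻¹⁻¹ = u⁻¹ * (s * u * s⁻¹ * u⁻¹)⁻¹ * u⁻¹⁻¹ by group]
      exact h.zgrp_conj hd hx hdx (inv_mem ih) (inv_mem hu)
  | one => simp [one_mem]
  | mul u v hu _ ihu ihv =>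
    rw [show u * v * b * (u * v)⁻¹ * b⁻¹ =
      u * (v * b * v⁻¹ * b⁻¹) * u⁻¹ * (u * b * u⁻¹ * b⁻¹) by group]
    exact mul_mem (h.zgrp_conj hd hx hdx (ihv hb) hu) (ihu hb)
  | inv u hu ih =>
    rw [show u⁻¹ * b * u⁻¹⁻¹ * b⁻¹ = u⁻¹ * (u * b * u⁻¹ * b⁻¹)⁻¹ * u⁻¹⁻¹ by group]
    exact h.zgrp_conj hd hx hdx (inv_mem (ih hb)) (inv_mem hu)

/-- A translation fixing two opposite members fixes everything. -/
theorem mem_zgrp {n f y : G} (hn : n ∈ wgrp D N d x) (hf : f ∈ trace D d x)
    (hy : y ∈ trace D d x) (hfy : ¬ Commute f y) (hnf : Commute n f) (hny : Commute n y) :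
    n ∈ zgrp D N d x := by
  refine ⟨hn, Subgroup.mem_centralizer_iff.2 ?_⟩
  rintro g ⟨u, hu, hg⟩
  suffices hs : Commute n g from hs.symm.eq
  obtain ⟨hnd, hnN⟩ := h.w_props hd hx hdx hn
  have hnu := h.fix hd hx hdx hnd hnN hf hy hfy hnf hny hu
  obtain ⟨w, hw, huw⟩ := h.trace_opp hd hx hdx hu
  obtain ⟨p, hp, hpg⟩ := h.move hd hx hdx hu hw huw hg
  have huk := trace_kset hx hdx hu
  have hb : p * w ∈ wgrp D N d x := Subgroup.subset_closure ⟨w, hw, p, hp, rfl⟩
  have he := h.comm_mem hd hx hdx hn hb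
  set e := n * (p * w) * n⁻¹ * (p * w)⁻¹ with hedef
  have hcen := Subgroup.mem_centralizer_iff.1 he.2
  have heg : Commute e g := (hcen g ⟨u, hu, hg⟩).symm
  refine commute_of_conj_eq ?_
  calc n * g * n⁻¹ = n * (p * w) * n⁻¹ * (n * u * n⁻¹) * (n * (p * w) * n⁻¹)⁻¹ := by
        rw [← hpg]; group
    _ = e * (p * w * u * (p * w)⁻¹) * e⁻¹ := by rw [conj_eq_self hnu, hedef]; group
    _ = g := by rw [hpg, conj_eq_self heg]

theorem decomp {f y w : G} (hf : f ∈ trace D d x) (hy : y ∈ trace D d x) (hfy : ¬ Commute f y)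
    (hw : w ∈ wgrp D N d x) :
    ∃ u ∈ bgrp D N d f, ∃ v ∈ bgrp D N d y, (u * v)⁻¹ * w ∈ zgrp D N d x := by
  have hfk := trace_kset hx hdx hf
  have hyk := trace_kset hx hdx hy
  obtain ⟨hwd, hwN⟩ := h.w_props hd hx hdx hw
  have hgf := h.conj_rset hd hwd hwN (h.rset_self hd hfk)
  have hgy := h.conj_rset hd hwd hwN (h.rset_self hd hyk)
  obtain ⟨p, hp, hpf⟩ := h.move hd hx hdx hf hy hfy hgf
  obtain ⟨p', hp', hpy⟩ := h.move hd hx hdx hy hf (fun e => hfy e.symm) hgy
  have hu : p' * f ∈ bgrp D N d f := Subgroup.subset_closure ⟨p', hp', rfl⟩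
  have hv : p * y ∈ bgrp D N d y := Subgroup.subset_closure ⟨p, hp, rfl⟩
  refine ⟨_, hu, _, hv, h.mem_zgrp hd hx hdx (mul_mem (inv_mem (mul_mem (bgrp_le_wgrp hf hu)
    (bgrp_le_wgrp hy hv))) hw) hf hy hfy (commute_of_conj_eq ?_) (commute_of_conj_eq ?_)⟩
  · calc (p' * f * (p * y))⁻¹ * w * f * ((p' * f * (p * y))⁻¹ * w)⁻¹ =
        (p * y)⁻¹ * ((p' * f)⁻¹ * (w * f * w⁻¹) * (p' * f)⁻¹⁻¹) * (p * y) := by group
      _ = (p * y)⁻¹ * (p * y * f * (p * y)⁻¹) * (p * y) := by
        rw [conj_eq_self (h.line_comm hd hfk (h.bgrp_le_line hd hfk hu)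
          (h.line_mem hd hfk hgf)).inv_left, hpf]
      _ = f := by group
  · calc (p' * f * (p * y))⁻¹ * w * y * ((p' * f * (p * y))⁻¹ * w)⁻¹ =
        (p * y)⁻¹ * ((p' * f)⁻¹ * (w * y * w⁻¹) * (p' * f)) * (p * y)⁻¹⁻¹ := by group
      _ = (p * y)⁻¹ * y * (p * y)⁻¹⁻¹ := by
        rw [← hpy, show (p' * f)⁻¹ * (p' * f * y * (p' * f)⁻¹) * (p' * f) = y by group]
      _ = y := conj_eq_self (h.line_comm hd hyk (h.bgrp_le_line hd hyk hv)
          (h.line_mem hd hyk (h.rset_self hd hyk))).inv_left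

end Frame

end CfsgLib.RootSz
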