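import Cfsg.Agent.Lib.RootSz.AtTrace

/-!
The frame of a class with a Suzuki section.
-/

set_option autoImplicit false

namespace CfsgLib.RootSz

open CfsgLib.OddTrans74

universe u

variable {G : Type u} [Group G] [Finite G] {D : Set G} {d x : G}

namespace SzData

variable (P : SzData D d x)
include P

theorem trace_pair : ∃ f ∈ trace D d x, ∃ y ∈ trace D d x, ¬ Commute f y := by
  obtain ⟨f, hf⟩ := P.trace_ex
  obtain ⟨y, hy, hfy⟩ := P.trace_opp' hf
  exact ⟨f, hf, y, hy, hfy⟩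

variable {f : G} (hf : f ∈ trace D d x)
include hf

theorem kset_twin_mem {b t : G} (hb : b ∈ kset D f) (ht : t ∈ twins D b) : t ∈ kset D f :=
  ⟨ht.1, (comm_of_twins hf.1 ht hb.2.1.symm).symm,
    fun e => hb.2.2 (twins_trans e (twins_symm hb.1 ht))⟩

theorem surj_img : ∀ b (hb : b ∈ kset D f), ∀ c (hc : c ∈ kset D f), Commute b c →
    ∃ b' ∈ twins D b, ∃ hb' : b' ∈ kset D f, img (kset D f) hb' = img (kset D f) hc := by
  classical
  intro b hb c hc hbc
  obtain ⟨y, hy, hfy⟩ := P.trace_opp' hf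
  have hK := P.sec_kset hf
  have hT := P.trace_type hf hy hfy
  set F : G → ↥(Subgroup.closure (kset D f)) ⧸ Cfsg.twoZCore ↥(Subgroup.closure (kset D f)) :=
    fun t => if h : t ∈ kset D f then img (kset D f) h else 1 with hF
  have hFe : ∀ {t : G} (h : t ∈ kset D f), F t = img (kset D f) h := fun h => dif_pos h
  have hsub : F '' twins D b ⊆ clique (img (kset D f) hb) := by
    rintro _ ⟨t, ht, rfl⟩
    rw [hFe (P.kset_twin_mem hf hb ht)]
    exact ⟨hK.img_order _, (hK.img_comm _ _).2 (twins_comm hb.1 ht (mem_twins_self hb.1))⟩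
  have hinj : Set.InjOn F (twins D b) := by
    intro s hs t ht he
    rw [hFe (P.kset_twin_mem hf hb hs), hFe (P.kset_twin_mem hf hb ht)] at he
    exact hK.twins_inj P.twin_mul _ _ hs.1 (twins_trans (twins_symm hb.1 hs) ht)
      (fun c hc => P.kset_twin_mem hf hb (twins_trans hs hc)) P.twin_mul' he
  have heq : F '' twins D b = clique (img (kset D f) hb) := by
    refine Set.eq_of_subset_of_ncard_le hsub ?_
    rw [Set.ncard_image_of_injOn hinj]
    have h1 := hT.clique_card _ (hK.img_order hb)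
    have h2 := P.twin_card b hb.1
    omega
  have hmem : img (kset D f) hc ∈ clique (img (kset D f) hb) :=
    ⟨hK.img_order hc, (hK.img_comm hc hb).2 hbc.symm⟩
  rw [← heq] at hmem
  obtain ⟨b', hb', he⟩ := hmem
  have hb'K := P.kset_twin_mem hf hb hb'
  rw [hFe hb'K] at he
  exact ⟨b', hb', hb'K, he⟩

theorem surj_base : ∀ b ∈ kset D f, ∀ c ∈ kset D f, Commute b c →
    ∃ b' ∈ twins D b, c * b' ∈ nGrp P.conn.cls.ot f := by
  intro b hb c hc hbc
  have hK := P.sec_kset hf
  obtain ⟨b', hb', hb'K, he⟩ := P.surj_img hf b hb c hc hbc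
  refine ⟨b', hb', hc.2.1.mul_left hb'K.2.1, fun k hk z hz => ?_⟩
  have hk' := conj_kset P.conn.cls.ot (hc.2.1.mul_left hb'K.2.1) hk
  rw [← hK.img_comm hk' hz, ← hK.img_comm hk hz]
  suffices h : img (kset D f) hk' = img (kset D f) hk by rw [h]
  have e : img (kset D f) hk' = img (kset D f) hc * img (kset D f) hb'K * img (kset D f) hk *
      (img (kset D f) hc * img (kset D f) hb'K)⁻¹ := by
    simp only [img, ← map_mul, ← map_inv]; rfl
  rw [e, he, CfsgLib.Involutions.mul_self_eq_one (hK.img_order hc), one_mul, inv_one, mul_one]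

theorem gen_base : ∀ b ∈ kset D f, ∀ c ∈ kset D f, ∀ z ∈ kset D f, ¬ Commute b c →
    ∃ g ∈ Subgroup.closure (twins D b ∪ {c}), Commute (g * b * g⁻¹) z := by
  intro b hb c hc z hz hbc
  obtain ⟨y, hy, hfy⟩ := P.trace_opp' hf
  have hK := P.sec_kset hf
  have hT := P.trace_type hf hy hfy
  set H := Subgroup.closure (twins D b ∪ {c}) with hH
  set M := (H.subgroupOf (Subgroup.closure (kset D f))).map (proj (kset D f)) with hM
  have htop : M = ⊤ := by
    refine hT.gen _ _ (hK.img_order hb) (hK.img_order hc) (fun e => hbc ((hK.img_comm hb hc).1 e)) M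
      ?_ ⟨⟨c, Subgroup.subset_closure hc⟩, Subgroup.subset_closure (Or.inr rfl), rfl⟩
    rintro w ⟨hw, hwb⟩
    obtain ⟨a, ha, rfl⟩ := hK.onto w hw
    obtain ⟨b', hb', hb'K, he⟩ := P.surj_img hf b hb (a : G) ha ((hK.img_comm ha hb).1 hwb).symm
    exact ⟨⟨b', Subgroup.subset_closure hb'K⟩, Subgroup.subset_closure (Or.inl hb'), he⟩
  obtain ⟨l, hl⟩ := isConj_iff.1 (hK.rankOne.conj _ _ (hK.img_order hb) (hK.img_order hz))
  obtain ⟨g, hg, rfl⟩ := (htop ▸ Subgroup.mem_top l : l ∈ M)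
  refine ⟨(g : G), hg, ?_⟩
  have hk' : (g : G) * b * (g : G)⁻¹ ∈ kset D f := conj_kset P.conn.cls.ot (by
    refine (commute_closure (fun s hs => ?_) g.2).symm
    exact hs.2.1.symm) hb
  rw [← hK.img_comm hk' hz]
  suffices h : img (kset D f) hk' = img (kset D f) hz by rw [h]
  rw [← hl]
  simp only [img, ← map_mul, ← map_inv]; rfl

theorem many_base : ∃ S : Finset G, qPar D d + 1 < S.card ∧ (∀ s ∈ S, s ∈ kset D f) ∧
    ∀ s ∈ S, ∀ t ∈ S, s ≠ t → ¬ Commute s t := by
  classical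
  obtain ⟨y, hy, hfy⟩ := P.trace_opp' hf
  have hK := P.sec_kset hf
  have hT := P.trace_type hf hy hfy
  obtain ⟨hdK, hxK⟩ := P.base_in hf
  have hzo := hK.img_order hdK
  have hcen : IsPGroup 2 (Subgroup.centralizer ({img (kset D f) hdK} : Set _)) := by
    intro ⟨a, ha⟩
    rcases hT.cent_sq _ a hzo (Subgroup.mem_centralizer_singleton_iff.1 ha) with h1 | h1
    · exact ⟨1, Subtype.ext (by rw [pow_one, pow_two]; exact h1)⟩
    · refine ⟨2, Subtype.ext ?_⟩
      show a ^ 2 ^ 2 = 1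
      rw [show 2 ^ 2 = 2 * 2 by norm_num, pow_mul, pow_two a, pow_two]
      exact CfsgLib.Involutions.mul_self_eq_one h1
  obtain ⟨A, hA, hAo, hAp⟩ := hK.rankOne.exists_far _ hcen hzo (hK.img_order hxK)
    (fun e => P.hdx ((hK.img_comm hdK hxK).1 e)) fun g hg => Subgroup.mem_centralizer_singleton_iff.1 hg
  choose! g hg hgi using fun a (ha : a ∈ A) => hK.onto a (hAo a ha)
  refine ⟨A.image fun a => (g a : G), ?_, ?_, ?_⟩
  · rw [Finset.card_image_of_injOn, hA, hT.cent_card _ hzo]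
    · have := hT.four; nlinarith
    · intro a ha b hb he
      rw [← hgi a ha, ← hgi b hb, Subtype.ext he]
  · simp only [Finset.forall_mem_image]; exact hg
  · simp only [Finset.forall_mem_image]
    intro a ha b hb hne hc
    refine hAp a ha b hb (fun e => hne (by rw [e])) ?_
    rw [← hgi a ha, ← hgi b hb]
    exact (commute_sub.2 hc).map (proj (kset D f))

end SzData

/-- The frame. -/
theorem SzData.frame (P : SzData D d x) : Frame D (nGrp P.conn.cls.ot) (qPar D d) := by
  classical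
  obtain ⟨f, hf⟩ := P.trace_ex
  have hot := P.conn.cls.ot
  have hmany : ∀ a ∈ D, ∃ S : Finset G, qPar D d + 1 < S.card ∧ (∀ s ∈ S, s ∈ kset D a) ∧
      ∀ s ∈ S, ∀ t ∈ S, s ≠ t → ¬ Commute s t := by
    intro a ha
    obtain ⟨g, rfl⟩ := P.conn.cls.cls f hf.1 a ha
    obtain ⟨S, hS, hSk, hSp⟩ := P.many_base hf
    refine ⟨S.image fun s => g * s * g⁻¹, ?_, ?_, ?_⟩
    · rwa [Finset.card_image_of_injective _ fun s t h => by simpa using h]
    · simp only [Finset.forall_mem_image]; exact fun s hs => kset_map hot g (hSk s hs)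
    · simp only [Finset.forall_mem_image]
      intro s hs t ht hne hc
      exact hSp s hs t ht (fun e => hne (by rw [e])) ((commute_conj_iff g s t).1 hc)
  refine ⟨hot, fun d hd x hx f hf h => P.conn.common hd hx hf h, P.twin_mul, P.twin_card, P.trans_all,
    fun a _ g hg n hn => ?_, fun a ha t ht => ?_, fun a ha c hc hN => ?_, fun a ha b hb c hc hN => ?_,
    fun a ha b hb c hc hbc => ?_, fun a ha b hb c hc z hz hbc => ?_, hmany⟩
  · have := nGrp_map hot g hn
    rwa [conj_eq_self hg] at this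
  · refine ⟨((ht.2 a ha).2 (Commute.refl a)).symm, fun c hc z _ => ?_⟩
    rw [conj_eq_self (comm_of_twins hc.1 ht hc.2.1).symm]
  · obtain ⟨S, hS, hSk, hSp⟩ := hmany a ha
    obtain ⟨s, hs, t, ht, hne⟩ := Finset.one_lt_card.1 (show 1 < S.card by omega)
    obtain ⟨k, hk, hck⟩ : ∃ k ∈ kset D a, ¬ Commute c k := by
      by_contra hcon
      push Not at hcon
      exact hSp s hs t ht hne (P.trans_all a ha s (hSk s hs) c hc t (hSk t ht)
        (hcon s (hSk s hs)).symm (hcon t (hSk t ht)))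
    have h1 := (hN.2 k hk k hk).2 (Commute.refl k)
    rw [hot.inv_eq hc.1] at h1
    exact hot.not_comm_cj hk.1 hc.1 (fun e => hck e.symm) h1.symm
  · by_contra hbc
    have hodd := hot.odd_of_not hb.1 hc.1 hbc
    set n := b * c * (b * c) with hn
    have h1 : Commute (n * b * n⁻¹) b := (hN.2 b hb b hb).2 (Commute.refl b)
    have hbb := hot.mul_self b hb.1
    have hcc := hot.mul_self c hc.1
    have hbn : b * n * b⁻¹ = n⁻¹ := by
      rw [hn, hot.inv_eq hb.1, mul_inv_rev, mul_inv_rev, hot.inv_eq hb.1, hot.inv_eq hc.1,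
        show b * (b * c * (b * c)) * b = (b * b) * (c * b * (c * b)) by group, hbb, one_mul]
    have hnodd : Odd (orderOf n) := by
      rw [hn, ← pow_two]; exact hodd.of_dvd_nat (orderOf_pow_dvd 2)
    -- `n ^ 4 = 1`
    have e1 : n * b * n⁻¹ = n * n * b := by
      have : b * n⁻¹ * b⁻¹ = n := by
        have := congrArg (·⁻¹) hbn
        simpa [mul_assoc] using this
      calc n * b * n⁻¹ = n * (b * n⁻¹ * b⁻¹) * b := by group
        _ = n * n * b := by rw [this]
    rw [e1] at h1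
    have h2 : Commute (n * n) b := by
      have := h1.mul_left (Commute.refl b)
      rwa [mul_assoc (n * n) b b, hbb, mul_one] at this
    have h3 : b * (n * n) * b⁻¹ = n⁻¹ * n⁻¹ := by
      rw [show b * (n * n) * b⁻¹ = (b * n * b⁻¹) * (b * n * b⁻¹) by group, hbn]
    rw [conj_eq_self h2.symm] at h3
    have h4 : n * n * (n * n) = 1 := by
      nth_rewrite 2 [h3]; group
    have h5 : n * n = 1 := eq_one_of_odd (by rw [← pow_two]; exact hnodd.of_dvd_nat (orderOf_pow_dvd 2)) h4
    have h6 := eq_one_of_odd hnodd h5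
    have h7 : b * c = 1 := eq_one_of_odd hodd h6
    exact hbc (by rw [mul_eq_one_iff_eq_inv] at h7; rw [h7, hot.inv_eq hc.1])
  · obtain ⟨g, rfl⟩ := P.conn.cls.cls f hf.1 a ha
    obtain ⟨b', hb', rfl⟩ := kset_unmap hot g hb
    obtain ⟨c', hc', rfl⟩ := kset_unmap hot g hc
    obtain ⟨t, ht, htN⟩ := P.surj_base hf b' hb' c' hc' ((commute_conj_iff g b' c').1 hbc)
    refine ⟨g * t * g⁻¹, conj_mem_twins hot ht g, ?_⟩
    have := nGrp_map hot g htN
    rwa [show g * (c' * t) * g⁻¹ = g * c' * g⁻¹ * (g * t * g⁻¹) by group] at this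
  · obtain ⟨g, rfl⟩ := P.conn.cls.cls f hf.1 a ha
    obtain ⟨b', hb', rfl⟩ := kset_unmap hot g hb
    obtain ⟨c', hc', rfl⟩ := kset_unmap hot g hc
    obtain ⟨z', hz', rfl⟩ := kset_unmap hot g hz
    obtain ⟨k, hk, hkz⟩ := P.gen_base hf b' hb' c' hc' z' hz' fun e => hbc ((commute_conj_iff g b' c').2 e)
    refine ⟨g * k * g⁻¹, ?_, ?_⟩
    · have := Subgroup.mem_map_of_mem (MulAut.conj g).toMonoidHom hk
      rw [MonoidHom.map_closure] at this
      refine Subgroup.closure_mono ?_ this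
      rintro _ ⟨s, (hs | rfl), rfl⟩
      · exact Or.inl (conj_mem_twins hot hs g)
      · exact Or.inr rfl
    · rw [show g * k * g⁻¹ * (g * b' * g⁻¹) * (g * k * g⁻¹)⁻¹ = g * (k * b' * k⁻¹) * g⁻¹ by group]
      exact (commute_conj_iff g _ _).2 hkz

end CfsgLib.RootSz
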