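import Cfsg.Agent.Lib.RootSz.Comp
import Cfsg.Agent.Lib.RootSz.Frame
import Cfsg.Agent.Lib.RootConnect.OddPairEnd

/-!
A member commuting with `d`, with all members commuting with `d` and `x`, but not with `x`, is a twin
of `d`; and the inductive use of a connected component against a Suzuki section.
-/

set_option autoImplicit false

namespace CfsgLib.RootSz

open CfsgLib.OddTrans74

universe u

theorem no_extra : ∀ (n : ℕ) (G : Type u) [Group G] [Finite G] (D : Set G), Nat.card G ≤ n → Conn D →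
    ∀ d x c : G, d ∈ D → x ∈ D → c ∈ D → ¬ Commute d x → Commute c d → ¬ Commute c x →
      (∀ f ∈ trace D d x, Commute c f) → ∀ g ∈ D, Commute g d → Commute g c := by
  intro n
  induction n with
  | zero =>
    intro G _ _ D hn
    exact absurd (Nat.card_pos (α := G)) (by omega)
  | succ n ih =>
    intro G _ _ D hn h d x c hd hx hc hdx hcd hcx htr g hg hgd
    by_cases hgx : Commute g x
    · exact (htr g ⟨hg, hgd, hgx⟩).symm
    obtain ⟨e, he, hex, hed, heg⟩ := h.common hx hd hg hgd.symm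
    have hde := hed.symm
    have hxe := hex.symm
    have hce : Commute c e := htr e ⟨he, hed, hex⟩
    obtain ⟨hdK, hxK⟩ := base_mem hd hx hde hxe hdx
    have hcK : c ∈ comp D e d := comp_trans hxK ⟨hx, hc, hxe, hce, fun h' => hcx h'.symm⟩
    have hgK : g ∈ comp D e d := comp_trans hxK ⟨hx, hg, hxe, heg.symm, fun h' => hgx h'.symm⟩
    rcases comp_cases h he hd hx hde hxe hdx with ⟨hK, hlt⟩ | hsec
    · refine commute_sub.1 (ih _ (sub (comp D e d)) (by omega) hK _ _ ⟨c, Subgroup.subset_closure hcK⟩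
        (sub_mem hdK) (sub_mem hxK) hcK (fun h' => hdx (commute_sub.1 h')) (commute_sub.2 hcd)
        (fun h' => hcx (commute_sub.1 h')) (fun f hf => commute_sub.2 (htr _
          ⟨(comp_mem hd hx hde hxe hdx hf.1).1, commute_sub.1 hf.2.1, commute_sub.1 hf.2.2⟩))
        ⟨g, Subgroup.subset_closure hgK⟩ hgK (commute_sub.2 hgd))
    · exact hsec.trans hgK hdK hcK hgd hcd.symm

variable {G : Type u} [Group G] [Finite G] {D : Set G} {d x : G}

/-- A member commuting with `d` and the trace but not with `x` is a twin of `d`. -/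
theorem Conn.twin_of_trace (h : Conn D) (hd : d ∈ D) (hx : x ∈ D) (hdx : ¬ Commute d x) {c : G}
    (hc : c ∈ D) (hcd : Commute c d) (hcx : ¬ Commute c x)
    (htr : ∀ f ∈ trace D d x, Commute c f) : c ∈ twins D d := by
  have hsub : ∀ z ∈ D, Commute z d → Commute z c :=
    no_extra (Nat.card G) G D le_rfl h d x c hd hx hc hdx hcd hcx htr
  exact ⟨hc, fun z hz => ⟨h.cls.twin_of_subset hd hc hsub z hz, hsub z hz⟩⟩

/-- The members generating the group of a twin class and an opposite member. -/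
def pairGrp (D : Set G) (d x : G) : Subgroup G :=
  Subgroup.closure (Cfsg.sameCommutingClass D d ∪ {x})

omit [Finite G] in
theorem sameCommutingClass_eq (hd : d ∈ D) :
    Cfsg.sameCommutingClass D d = twins D d := by
  ext t
  constructor
  · rintro ⟨ht, he⟩
    refine ⟨ht, fun z hz => ?_⟩
    have := Set.ext_iff.1 he z
    simp only [Cfsg.commutingMembers, Set.mem_setOf_eq, hz, true_and] at this
    exact this.symm
  · rintro ⟨ht, he⟩
    refine ⟨ht, Set.ext fun z => ?_⟩
    simp only [Cfsg.commutingMembers, Set.mem_setOf_eq]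
    exact ⟨fun ⟨hz, h⟩ => ⟨hz, (he z hz).2 h⟩, fun ⟨hz, h⟩ => ⟨hz, (he z hz).1 h⟩⟩

omit [Finite G] in
theorem pairGrp_eq (hd : d ∈ D) : pairGrp D d x = Subgroup.closure (twins D d ∪ {x}) := by
  rw [pairGrp, sameCommutingClass_eq hd]

/-- The quotient by the largest normal 2-subgroup is a Suzuki group. -/
def IsSzPair (D : Set G) (d x : G) : Prop :=
  Cfsg.Lie.IsoSuzuki (↥(pairGrp D d x) ⧸ Cfsg.pCore 2 ↥(pairGrp D d x))

omit [Finite G] in
theorem pairGrp_le_centralizer (hd : d ∈ D) (hx : x ∈ D) {f g : G} (hf : f ∈ trace D d x)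
    (hg : g ∈ pairGrp D d x) : Commute f g := by
  rw [pairGrp_eq hd] at hg
  have hle : Subgroup.closure (twins D d ∪ {x}) ≤ Subgroup.centralizer ({f} : Set G) := by
    rw [Subgroup.closure_le]
    rintro s (hs | rfl)
    · exact Subgroup.mem_centralizer_singleton_iff.2 (comm_of_twins hf.1 hs hf.2.1).symm.eq
    · exact Subgroup.mem_centralizer_singleton_iff.2 hf.2.2.symm.eq
  exact (Subgroup.mem_centralizer_singleton_iff.1 (hle hg) : Commute g f).symm

omit [Finite G] in
theorem twins_subset_comp (hd : d ∈ D) (hx : x ∈ D) (hdx : ¬ Commute d x) {e : G}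
    (he : e ∈ trace D d x) {t : G} (ht : t ∈ twins D d) : t ∈ comp D e d :=
  comp_trans (base_mem hd hx he.2.1.symm he.2.2.symm hdx).2
    ⟨hx, ht.1, he.2.2.symm, (comm_of_twins he.1 ht he.2.1).symm, fun h => hdx ((ht.2 x hx).1 h).symm⟩

/-- A 2-element with non-trivial square in a Suzuki group. -/
theorem exists_sq_ne {L : Type u} [Group L] (h : Cfsg.Lie.IsoSuzuki L) :
    ∃ a : L, orderOf a = 4 := by
  obtain ⟨F, i1, i2, m, hm, hF, ⟨e⟩⟩ := h
  obtain ⟨hc, ⟨P⟩⟩ := SuzukiGroup.exists_params hF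
  exact ⟨e.symm (SuzukiGroup.uEl P 1 0),
    by rw [e.symm.orderOf_eq]; exact SuzukiGroup.orderOf_uEl P 0 one_ne_zero⟩

/-- A group with a Suzuki quotient modulo its 2-core has no monomorphism into a group whose 2-elements
square to 1 modulo the 2-core. -/
theorem sz_not_into {X Y : Type u} [Group X] [Finite X] [Group Y] [Finite Y]
    (hX : Cfsg.Lie.IsoSuzuki (X ⧸ Cfsg.pCore 2 X)) (f : X →* Y) (hf : Function.Injective f)
    (hY : ∀ a : Y ⧸ Cfsg.pCore 2 Y, ∀ k : ℕ, a ^ 2 ^ k = 1 → a * a = 1) : False := by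
  have : Fact (Nat.Prime 2) := ⟨Nat.prime_two⟩
  obtain ⟨a4, ha4⟩ := exists_sq_ne hX
  obtain ⟨a, rfl⟩ := QuotientGroup.mk'_surjective (Cfsg.pCore 2 X) a4
  set π := QuotientGroup.mk' (Cfsg.pCore 2 X) with hπ
  -- replace `a` by a 2-element
  obtain ⟨k, r, hr, hkr⟩ := Nat.exists_eq_pow_mul_and_not_dvd (orderOf_pos a).ne' 2 (by norm_num)
  set b := a ^ r with hb
  have hb2 : b ^ 2 ^ k = 1 := by rw [hb, ← pow_mul, mul_comm, ← hkr, pow_orderOf_eq_one]
  have hcop : Nat.Coprime (orderOf (π a)) r := by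
    rw [ha4, show (4 : ℕ) = 2 ^ 2 from rfl]
    exact Nat.Coprime.pow_left 2 ((Nat.Prime.coprime_iff_not_dvd Nat.prime_two).2 hr)
  have hπb : orderOf (π b) = 4 := by rw [hb, map_pow, hcop.orderOf_pow, ha4]
  set φ := (QuotientGroup.mk' (Cfsg.pCore 2 Y)).comp f with hφ
  have h1 : φ (b * b) = 1 := by
    rw [map_mul]; exact hY (φ b) k (by rw [← map_pow, hb2, map_one])
  have hker : IsPGroup 2 φ.ker := by
    rintro ⟨y, hy⟩
    obtain ⟨j, hj⟩ := CfsgLib.Fitting.pCore_isPGroup (G := Y) 2
      ⟨f y, (QuotientGroup.eq_one_iff _).1 hy⟩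
    exact ⟨j, Subtype.ext (hf (by simpa [map_pow] using congrArg Subtype.val hj))⟩
  have h2 : π (b * b) = 1 :=
    (QuotientGroup.eq_one_iff _).2 (CfsgLib.Fitting.le_pCore (φ.normal_ker) hker h1)
  rw [← pow_two, map_pow] at h2
  have := orderOf_dvd_of_pow_eq_one h2
  rw [hπb] at this
  exact absurd (Nat.le_of_dvd two_pos this) (by norm_num)

/-- Dihedral groups with trivial 2-core have 2-elements of order at most two. -/
theorem dihedral_sq {L : Type u} [Group L] [Finite L] (hO : Cfsg.pCore 2 L = ⊥) {n : ℕ}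
    (e : L ≃* DihedralGroup n) {a : L} {k : ℕ} (ha : a ^ 2 ^ k = 1) : a * a = 1 := by
  have hn : n ≠ 0 := by
    rintro rfl
    have := Finite.of_equiv L e.toEquiv
    exact not_finite (DihedralGroup 0)
  have hodd : Odd n := by
    rw [← Nat.not_even_iff_odd]
    rintro ⟨j, hj⟩
    set z := e.symm (DihedralGroup.r (j : ZMod n)) with hz
    have hjj : ((j : ZMod n) + j) = 0 := by
      rw [← Nat.cast_add, ← hj, ZMod.natCast_self]
    have hz2 : z * z = 1 := by
      rw [hz, ← map_mul, DihedralGroup.r_mul_r, hjj, ← DihedralGroup.one_def, map_one]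
    have hcen : ∀ g, g * z = z * g := by
      intro g
      refine e.injective ?_
      rw [map_mul, map_mul, hz, e.apply_symm_apply]
      cases e g with
      | r i => rw [DihedralGroup.r_mul_r, DihedralGroup.r_mul_r, add_comm]
      | sr i =>
        rw [DihedralGroup.sr_mul_r, DihedralGroup.r_mul_sr]
        congr 1
        rw [sub_eq_add_neg, neg_eq_of_add_eq_zero_left hjj]
    have : Fact (Nat.Prime 2) := ⟨Nat.prime_two⟩
    have hnor : (Subgroup.zpowers z).Normal := ⟨fun y hy g => by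
      obtain ⟨i, rfl⟩ := Subgroup.mem_zpowers_iff.1 hy
      have hc : Commute g (z ^ i) := Commute.zpow_right (hcen g) i
      rw [hc.eq, mul_inv_cancel_right]
      exact ⟨i, rfl⟩⟩
    have hp : IsPGroup 2 (Subgroup.zpowers z) := by
      rw [Subgroup.zpowers_eq_closure]
      refine RootConnect.isPGroup_closure_of_commute ?_ ?_ <;> simp [hz2]
    have h1 := CfsgLib.Fitting.le_pCore hnor hp (Subgroup.mem_zpowers z)
    rw [hO, Subgroup.mem_bot, hz, map_eq_one_iff _ e.symm.injective, DihedralGroup.one_def] at h1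
    have h2 : (j : ZMod n) = 0 := DihedralGroup.r.inj h1
    rw [ZMod.natCast_eq_zero_iff] at h2
    exact absurd (Nat.le_of_dvd (by omega) h2) (by omega)
  apply e.injective
  rw [map_mul, map_one]
  cases hb : e a with
  | sr i => exact DihedralGroup.sr_mul_self i
  | r i =>
    have h1 : (e a) ^ 2 ^ k = 1 := by rw [← map_pow, ha, map_one]
    have h2 := orderOf_dvd_of_pow_eq_one h1
    rw [hb] at h2
    have h3 : orderOf (DihedralGroup.r i) ∣ n := by
      refine orderOf_dvd_of_pow_eq_one ?_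
      rw [DihedralGroup.r_pow, ZMod.natCast_self, mul_zero, DihedralGroup.one_def]
    have h4 : orderOf (DihedralGroup.r i) = 1 := by
      obtain ⟨j, -, hj⟩ := (Nat.dvd_prime_pow Nat.prime_two).1 h2
      rcases Nat.eq_zero_or_pos j with rfl | hj0
      · simpa using hj
      · exact absurd ((dvd_pow_self 2 hj0.ne').trans (hj ▸ h3)) fun h' => by
          rw [Nat.odd_iff] at hodd; omega
    rw [orderOf_eq_one_iff.1 h4, one_mul]

/-- With a Suzuki section on `d, x`, a component at a trace member is a section, once connected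
components are known to have none. -/
theorem Conn.sec_of_sz (h : Conn D) (hd : d ∈ D) (hx : x ∈ D) (hdx : ¬ Commute d x)
    (hsz : IsSzPair D d x) {e : G} (he : e ∈ trace D d x)
    (ih : ∀ (H : Type u) [Group H] [Finite H] (E : Set H), Nat.card H < Nat.card G → Conn E →
      ∀ d x : H, d ∈ E → x ∈ E → ¬ Commute d x → ¬ IsSzPair E d x) : Sec (comp D e d) := by
  refine (comp_cases h he.1 hd hx he.2.1.symm he.2.2.symm hdx).resolve_left ?_
  rintro ⟨hK, hlt⟩
  obtain ⟨hdK, hxK⟩ := base_mem hd hx he.2.1.symm he.2.2.symm hdx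
  set K := comp D e d with hKdef
  set d' : ↥(Subgroup.closure K) := ⟨d, Subgroup.subset_closure hdK⟩ with hd'
  set x' : ↥(Subgroup.closure K) := ⟨x, Subgroup.subset_closure hxK⟩ with hx'
  have hne : ¬ Commute d' x' := fun h' => hdx (commute_sub.1 h')
  have hodd : x' ∈ Cfsg.oddPartners (sub K) d' := by
    refine ⟨hxK, fun e' => hne (e' ▸ Commute.refl _), ?_⟩
    rw [← Subgroup.orderOf_coe]
    exact h.cls.ot.odd_of_not hd hx hdx
  set Y := pairGrp (sub K) d' x' with hY
  -- the pair group lies in that of the component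
  have hle : pairGrp D d x ≤ Y.map (Subgroup.closure K).subtype := by
    rw [pairGrp_eq hd, hY, pairGrp_eq (show d' ∈ sub K from hdK), MonoidHom.map_closure]
    refine Subgroup.closure_mono ?_
    rintro s (hs | rfl)
    · have hsK := twins_subset_comp hd hx hdx he hs
      exact ⟨⟨s, Subgroup.subset_closure hsK⟩, Or.inl ⟨hsK, fun z hz => by
        rw [commute_sub, commute_sub]
        exact hs.2 z (comp_mem hd hx he.2.1.symm he.2.2.symm hdx hz).1⟩, rfl⟩
    · exact ⟨x', Or.inr rfl, rfl⟩
  set i := (Y.equivMapOfInjective _ (Subgroup.closure K).subtype_injective).symm.toMonoidHom.comp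
    (Subgroup.inclusion hle) with hi
  have hinj : Function.Injective i :=
    (Y.equivMapOfInjective _ (Subgroup.closure K).subtype_injective).symm.injective.comp
      (Subgroup.inclusion_injective hle)
  refine sz_not_into hsz i hinj fun a k hak => ?_
  have hO : Cfsg.pCore 2 (↥Y ⧸ Cfsg.pCore 2 ↥Y) = ⊥ := CfsgLib.PCore.pCore_quotient_pCore
  rcases RootConnect.twin_partner_quotient strongCriterion hK.root hdK hodd with
    ⟨F, i1, i2, hc, h4, ⟨f⟩⟩ | hs | ⟨m, ⟨f⟩⟩
  · obtain ⟨m, hm2, hm⟩ := FiniteField.card F 2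
    exact psl_sq f hm m.2.ne' hak
  · exact absurd hs (ih _ (sub K) hlt hK d' x' hdK hxK hne)
  · exact dihedral_sq hO f hak

end CfsgLib.RootSz
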